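import Cfsg.Agent.Lib.T3.Hlp

/-! The 3-local subgroups of `A₉` (generated data, helper8). -/

set_option autoImplicit false
set_option maxRecDepth 1000000
set_option maxHeartbeats 0

namespace Cfsg.Lib.Loc3

open Cfsg.Lib.Calc Cfsg.Lib.Grp Cfsg.Lib.T2 Cfsg.Lib.T3

/-- relators of `A₆` -/
def relL : List W := [.pow (.l 2) 3, .pow (.l 3) 3, .mul (.mul (.mul (.l 2) (.l 3)) (.inv (.l 2))) (.inv (.l 3)), .pow (.l 8) 4, .mul (.mul (.mul (.l 8) (.l 3)) (.inv (.l 8))) (.inv (.l 2)), .mul (.mul (.mul (.l 8) (.l 2)) (.inv (.l 8))) (.l 3), .mul (.l 7) (.l 7), .pow (.mul (.l 7) (.l 8)) 2, .pow (.mul (.mul (.l 2) (.l 3)) (.l 7)) 3, .pow (.mul (.mul (.l 3) (.l 8)) (.l 7)) 3]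

/-- further relators of `(3 × A₆) : 2` -/
def relN0 : List W := [.pow (.l 1) 3, .mul (.mul (.mul (.l 1) (.l 2)) (.inv (.l 1))) (.inv (.l 2)), .mul (.mul (.mul (.l 1) (.l 3)) (.inv (.l 1))) (.inv (.l 3)), .mul (.mul (.mul (.l 1) (.l 8)) (.inv (.l 1))) (.inv (.l 8)), .mul (.mul (.mul (.l 1) (.l 7)) (.inv (.l 1))) (.l 7), .mul (.l 9) (.l 9), .mul (.mul (.mul (.l 9) (.l 1)) (.l 9)) (.l 1), .mul (.mul (.mul (.l 9) (.l 2)) (.l 9)) (.inv (.l 3)), .pow (.mul (.l 9) (.l 8)) 2, .pow (.mul (.l 9) (.l 7)) 2]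

/-- relators of `(3 × A₆) : 2` -/
def relN : List W := relL ++ relN0

def m9_L0 : List (ℕ × List ℕ) := [((nat_lit 0), [(nat_lit 36344967696), (nat_lit 36344967201), (nat_lit 8867243331), (nat_lit 36344967426), (nat_lit 22601074806), (nat_lit 8867242836), (nat_lit 22601074311), (nat_lit 8867243061), (nat_lit 22601074536)]),
  ((nat_lit 3), [(nat_lit 36344967696), (nat_lit 9722881296), (nat_lit 36342940176), (nat_lit 36343861776), (nat_lit 9720853776), (nat_lit 9721775376), (nat_lit 22606653456), (nat_lit 22354991136)]),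
  ((nat_lit 6), [(nat_lit 36344967696), (nat_lit 9754325376), (nat_lit 35019568656), (nat_lit 36009424656), (nat_lit 8932242816), (nat_lit 9955652736), (nat_lit 5778125856)]),
  ((nat_lit 1), [(nat_lit 36344967696), (nat_lit 6280198176), (nat_lit 6548632176), (nat_lit 10575163776), (nat_lit 10574377296), (nat_lit 10578374976)]),
  ((nat_lit 5), [(nat_lit 36344967696), (nat_lit 23459279376), (nat_lit 19168309776), (nat_lit 19430455056), (nat_lit 17825085456)]),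
  ((nat_lit 2), [(nat_lit 36344967696), (nat_lit 10575426576), (nat_lit 19164968976), (nat_lit 10843600656)]),
  ((nat_lit 4), [(nat_lit 36344967696), (nat_lit 31244956176), (nat_lit 19433730576)])]

def m9_D0 : List ℕ := [(nat_lit 0), (nat_lit 513), (nat_lit 2049), (nat_lit 769), (nat_lit 2305), (nat_lit 171010), (nat_lit 182530), (nat_lit 210178), (nat_lit 241922), (nat_lit 0), (nat_lit 11618563), (nat_lit 1025), (nat_lit 1281), (nat_lit 1061895428), (nat_lit 1262401796), (nat_lit 1423559428), (nat_lit 34750211), (nat_lit 0), (nat_lit 132187237637), (nat_lit 34517251), (nat_lit 36951299), (nat_lit 13801165396742), (nat_lit 16717906867462), (nat_lit 19490203659014), (nat_lit 0), (nat_lit 24416612967174), (nat_lit 0x7f2abcd856307), (nat_lit 29725251434246), (nat_lit 48515774719238), (nat_lit 55230147103494), (nat_lit 0), (nat_lit 653815524101), (nat_lit 719827598597), (nat_lit 0x385ee5de29a37eb09), (nat_lit 0x43bca380465d52109),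 (nat_lit 0), (nat_lit 0x30de44c7af6507), (nat_lit 0x37973a1bfc4307), (nat_lit 0x18cd449ac959b708), (nat_lit 0), (nat_lit 0x4ebac0bbc92b07), (nat_lit 0x58a69b07790907)]

def m9_L1 : List (ℕ × List ℕ) := [((nat_lit 0), [(nat_lit 36344967696), (nat_lit 36344967201), (nat_lit 36344967426)]),
  ((nat_lit 3), [(nat_lit 36344967696), (nat_lit 36342940176), (nat_lit 36343861776)]),
  ((nat_lit 6), [(nat_lit 36344967696), (nat_lit 28040245776), (nat_lit 31815119376)])]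

def m9_D1 : List ℕ := [(nat_lit 0), (nat_lit 513), (nat_lit 769), (nat_lit 0), (nat_lit 1025), (nat_lit 1281), (nat_lit 0), (nat_lit 1537), (nat_lit 1793)]

def m9_L2 : List (ℕ × List ℕ) := [((nat_lit 0), [(nat_lit 36344967696), (nat_lit 36344967201), (nat_lit 8867243331), (nat_lit 36344967426), (nat_lit 22601074806), (nat_lit 8867242836), (nat_lit 22601074311), (nat_lit 8867243061), (nat_lit 22601074536)]),
  ((nat_lit 3), [(nat_lit 36344967696), (nat_lit 22607720976), (nat_lit 36342940176), (nat_lit 22356124176), (nat_lit 36343861776), (nat_lit 22605693456)]),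
  ((nat_lit 6), [(nat_lit 36344967696), (nat_lit 28040245776), (nat_lit 31815119376)]),
  ((nat_lit 1), [(nat_lit 36344967696), (nat_lit 36343984416)]),
  ((nat_lit 4), [(nat_lit 36344967696), (nat_lit 32317452816)])]

def m9_D2 : List ℕ := [(nat_lit 0), (nat_lit 513), (nat_lit 2049), (nat_lit 769), (nat_lit 2305), (nat_lit 145410), (nat_lit 155906), (nat_lit 181506), (nat_lit 211202), (nat_lit 0), (nat_lit 3585), (nat_lit 1025), (nat_lit 3841), (nat_lit 1281), (nat_lit 521730), (nat_lit 0), (nat_lit 24381187), (nat_lit 26381059), (nat_lit 0), (nat_lit 8339715), (nat_lit 0), (nat_lit 2114793220)]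

def m9_L3 : List (ℕ × List ℕ) := [((nat_lit 3), [(nat_lit 36344967696), (nat_lit 36342940176), (nat_lit 22607720976), (nat_lit 36343861776), (nat_lit 22356124176), (nat_lit 22605693456)]),
  ((nat_lit 6), [(nat_lit 36344967696), (nat_lit 28040245776), (nat_lit 31815119376)]),
  ((nat_lit 4), [(nat_lit 36344967696), (nat_lit 32317452816)])]

def m9_D3 : List ℕ := [(nat_lit 0), (nat_lit 513), (nat_lit 1537), (nat_lit 769), (nat_lit 1793), (nat_lit 56322), (nat_lit 0), (nat_lit 1025), (nat_lit 1281), (nat_lit 0), (nat_lit 57529092)]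

def m9_L4 : List (ℕ × List ℕ) := [((nat_lit 3), [(nat_lit 36344967696), (nat_lit 36342940176), (nat_lit 22607720976), (nat_lit 35489538576), (nat_lit 36343861776), (nat_lit 22605693456)]),
  ((nat_lit 6), [(nat_lit 36344967696), (nat_lit 28040245776), (nat_lit 31815119376), (nat_lit 31751221776), (nat_lit 31764001296)]),
  ((nat_lit 4), [(nat_lit 36344967696), (nat_lit 19168309776), (nat_lit 23459279376), (nat_lit 19433730576)]),
  ((nat_lit 5), [(nat_lit 36344967696), (nat_lit 23730598416), (nat_lit 31516275216)])]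

def m9_D4 : List ℕ := [(nat_lit 0), (nat_lit 513), (nat_lit 1537), (nat_lit 2049), (nat_lit 769), (nat_lit 72706), (nat_lit 0), (nat_lit 1025), (nat_lit 1281), (nat_lit 148983044), (nat_lit 182549764), (nat_lit 0), (nat_lit 4216067), (nat_lit 4068099), (nat_lit 488002820), (nat_lit 0), (nat_lit 12694787), (nat_lit 13940995)]

def m9_L5 : List (ℕ × List ℕ) := [((nat_lit 0), [(nat_lit 36344967696), (nat_lit 36344967201), (nat_lit 36344967426)]),
  ((nat_lit 3), [(nat_lit 36344967696), (nat_lit 22607720976), (nat_lit 36342940176), (nat_lit 22607782176), (nat_lit 36343861776), (nat_lit 22605693456)]),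
  ((nat_lit 6), [(nat_lit 36344967696), (nat_lit 28040245776), (nat_lit 31815119376)]),
  ((nat_lit 1), [(nat_lit 36344967696), (nat_lit 32318435616)]),
  ((nat_lit 4), [(nat_lit 36344967696), (nat_lit 32317452816)])]

def m9_D5 : List ℕ := [(nat_lit 0), (nat_lit 513), (nat_lit 769), (nat_lit 0), (nat_lit 2049), (nat_lit 1025), (nat_lit 65282), (nat_lit 1281), (nat_lit 188418), (nat_lit 0), (nat_lit 5281027), (nat_lit 5967619), (nat_lit 0), (nat_lit 8958211), (nat_lit 0), (nat_lit 383198980)]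

def m9_L6 : List (ℕ × List ℕ) := [((nat_lit 0), [(nat_lit 36344967696), (nat_lit 36344967201), (nat_lit 36344967426)]),
  ((nat_lit 3), [(nat_lit 36344967696), (nat_lit 22607720976), (nat_lit 36342940176), (nat_lit 35489538576), (nat_lit 36343861776), (nat_lit 22605693456)]),
  ((nat_lit 6), [(nat_lit 36344967696), (nat_lit 28040245776), (nat_lit 31815119376), (nat_lit 31751221776), (nat_lit 31767933216)]),
  ((nat_lit 1), [(nat_lit 36344967696), (nat_lit 35810193696)]),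
  ((nat_lit 4), [(nat_lit 36344967696), (nat_lit 19168309776), (nat_lit 19433730576), (nat_lit 23459279376)]),
  ((nat_lit 5), [(nat_lit 36344967696), (nat_lit 23730598416), (nat_lit 31516275216)])]

def m9_D6 : List ℕ := [(nat_lit 0), (nat_lit 513), (nat_lit 769), (nat_lit 0), (nat_lit 2049), (nat_lit 1025), (nat_lit 3073), (nat_lit 1281), (nat_lit 217090), (nat_lit 0), (nat_lit 6551299), (nat_lit 7351043), (nat_lit 513956100), (nat_lit 594100996), (nat_lit 0), (nat_lit 32850237189), (nat_lit 0), (nat_lit 13129987), (nat_lit 71112011525), (nat_lit 16792323), (nat_lit 0), (nat_lit 126880623365), (nat_lit 146061466885)]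

def m9_L7 : List (ℕ × List ℕ) := [((nat_lit 3), [(nat_lit 36344967696), (nat_lit 35489538576)]),
  ((nat_lit 4), [(nat_lit 36344967696), (nat_lit 22658101776)])]

def m9_D7 : List ℕ := [(nat_lit 0), (nat_lit 513), (nat_lit 0), (nat_lit 1025)]

def m9_L8 : List (ℕ × List ℕ) := [((nat_lit 0), [(nat_lit 36344967696), (nat_lit 36344967201), (nat_lit 36344967426)]),
  ((nat_lit 3), [(nat_lit 36344967696), (nat_lit 28038218256), (nat_lit 31814013456)])]

def m9_D8 : List ℕ := [(nat_lit 0), (nat_lit 513), (nat_lit 769), (nat_lit 0), (nat_lit 1025), (nat_lit 1281)]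

def m9_L9 : List (ℕ × List ℕ) := [((nat_lit 0), [(nat_lit 36344967696), (nat_lit 36344967201), (nat_lit 36344967426)]),
  ((nat_lit 3), [(nat_lit 36344967696), (nat_lit 28038218256), (nat_lit 35489538576), (nat_lit 31814013456), (nat_lit 15106142736), (nat_lit 30958584336)]),
  ((nat_lit 1), [(nat_lit 36344967696), (nat_lit 23463211296)]),
  ((nat_lit 4), [(nat_lit 36344967696), (nat_lit 32317452816), (nat_lit 18630586896), (nat_lit 22658101776)])]

def m9_D9 : List ℕ := [(nat_lit 0), (nat_lit 513), (nat_lit 769), (nat_lit 0), (nat_lit 1025), (nat_lit 1537), (nat_lit 1281), (nat_lit 134658), (nat_lit 158978), (nat_lit 0), (nat_lit 2225923), (nat_lit 0), (nat_lit 97538), (nat_lit 453420804), (nat_lit 24121567493)]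

def m9_L10 : List (ℕ × List ℕ) := [((nat_lit 0), [(nat_lit 36344967696), (nat_lit 36344967201), (nat_lit 36344967426)]),
  ((nat_lit 3), [(nat_lit 36344967696), (nat_lit 36342940176), (nat_lit 22607782176), (nat_lit 36343861776), (nat_lit 22605754656), (nat_lit 22606676256)]),
  ((nat_lit 6), [(nat_lit 36344967696), (nat_lit 28040245776), (nat_lit 31815119376)])]

def m9_D10 : List ℕ := [(nat_lit 0), (nat_lit 513), (nat_lit 769), (nat_lit 0), (nat_lit 1025), (nat_lit 44290), (nat_lit 1281), (nat_lit 2706691), (nat_lit 3863811), (nat_lit 0), (nat_lit 4644099), (nat_lit 5289219)]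

def m9_L11 : List (ℕ × List ℕ) := [((nat_lit 0), [(nat_lit 36344967696), (nat_lit 36344967201), (nat_lit 36344967426)]),
  ((nat_lit 3), [(nat_lit 36344967696), (nat_lit 31813091856), (nat_lit 28039139856)])]

def m9_D11 : List ℕ := [(nat_lit 0), (nat_lit 513), (nat_lit 769), (nat_lit 0), (nat_lit 1025), (nat_lit 1281)]

def m9_L12 : List (ℕ × List ℕ) := [((nat_lit 0), [(nat_lit 36344967696), (nat_lit 36344967201), (nat_lit 8867243331), (nat_lit 36344967426), (nat_lit 22601074806), (nat_lit 8867242836), (nat_lit 22601074311), (nat_lit 8867243061), (nat_lit 22601074536)]),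
  ((nat_lit 3), [(nat_lit 36344967696), (nat_lit 36342940176), (nat_lit 36343861776)]),
  ((nat_lit 6), [(nat_lit 36344967696), (nat_lit 28040245776), (nat_lit 31815119376)])]

def m9_D12 : List ℕ := [(nat_lit 0), (nat_lit 513), (nat_lit 2049), (nat_lit 769), (nat_lit 2305), (nat_lit 63490), (nat_lit 69890), (nat_lit 87298), (nat_lit 108802), (nat_lit 0), (nat_lit 1025), (nat_lit 1281), (nat_lit 0), (nat_lit 1537), (nat_lit 1793)]

def m9_L13 : List (ℕ × List ℕ) := [((nat_lit 0), [(nat_lit 36344967696), (nat_lit 36344967201), (nat_lit 36344967426)]),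
  ((nat_lit 3), [(nat_lit 36344967696), (nat_lit 22607720976), (nat_lit 36342940176), (nat_lit 22356124176), (nat_lit 36343861776), (nat_lit 22605693456)]),
  ((nat_lit 6), [(nat_lit 36344967696), (nat_lit 28040245776), (nat_lit 31815119376)]),
  ((nat_lit 4), [(nat_lit 36344967696), (nat_lit 32317452816)])]

def m9_D13 : List ℕ := [(nat_lit 0), (nat_lit 513), (nat_lit 769), (nat_lit 0), (nat_lit 2049), (nat_lit 1025), (nat_lit 2305), (nat_lit 1281), (nat_lit 161794), (nat_lit 0), (nat_lit 4182787), (nat_lit 4764419), (nat_lit 0), (nat_lit 217846532)]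

def m9_L14 : List (ℕ × List ℕ) := [((nat_lit 3), [(nat_lit 36344967696), (nat_lit 36342940176), (nat_lit 36343861776)]),
  ((nat_lit 6), [(nat_lit 36344967696), (nat_lit 28040245776), (nat_lit 31815119376)])]

def m9_D14 : List ℕ := [(nat_lit 0), (nat_lit 513), (nat_lit 769), (nat_lit 0), (nat_lit 1025), (nat_lit 1281)]

def m9_L15 : List (ℕ × List ℕ) := [((nat_lit 3), [(nat_lit 36344967696), (nat_lit 35489538576)]),
  ((nat_lit 4), [(nat_lit 36344967696), (nat_lit 22658101776)]),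
  ((nat_lit 0), [(nat_lit 36344967696), (nat_lit 23463211521)])]

def m9_D15 : List ℕ := [(nat_lit 0), (nat_lit 513), (nat_lit 0), (nat_lit 1025), (nat_lit 0), (nat_lit 30466)]

def m9_L16 : List (ℕ × List ℕ) := [((nat_lit 3), [(nat_lit 36344967696), (nat_lit 35489538576), (nat_lit 28038218256), (nat_lit 31814013456), (nat_lit 27182789136), (nat_lit 30958584336)]),
  ((nat_lit 4), [(nat_lit 36344967696), (nat_lit 22658101776), (nat_lit 32317452816), (nat_lit 18630586896)]),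
  ((nat_lit 0), [(nat_lit 36344967696), (nat_lit 23463211521)])]

def m9_D16 : List ℕ := [(nat_lit 0), (nat_lit 513), (nat_lit 2049), (nat_lit 2305), (nat_lit 73730), (nat_lit 81154), (nat_lit 0), (nat_lit 1025), (nat_lit 76034), (nat_lit 6071555), (nat_lit 0), (nat_lit 56066)]

def m9_L17 : List (ℕ × List ℕ) := [((nat_lit 0), [(nat_lit 36344967696), (nat_lit 22607782401)]),
  ((nat_lit 3), [(nat_lit 36344967696), (nat_lit 28038218256), (nat_lit 31814013456)])]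

def m9_D17 : List ℕ := [(nat_lit 0), (nat_lit 513), (nat_lit 0), (nat_lit 1025), (nat_lit 1281)]

def m9 : PM :=
  ⟨(nat_lit 9), (nat_lit 4), [(nat_lit 36344967201), (nat_lit 36342940176), (nat_lit 28040245776), (nat_lit 8867243331), (nat_lit 36344906241), (nat_lit 36089955651), (nat_lit 35489538576), (nat_lit 22607720976), (nat_lit 22607782401)],
    [[.l 1, .l 2, .l 3, .l 4, .l 5, .l 6, .l 7, .l 8, .l 9],
    [.l 1, .l 2, .l 3],
    [.l 1, .l 2, .l 3, .l 4, .l 5, .l 6, .l 8, .l 9],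
    [.l 2, .l 3, .l 8],
    [.l 2, .l 3, .l 8, .l 7],
    [.l 1, .l 2, .l 3, .l 8, .l 9],
    [.l 1, .l 2, .l 3, .l 8, .l 9, .l 7],
    [.l 7, .mul (.mul (.mul (.l 2) (.l 3)) (.l 7)) (.inv (.mul (.l 2) (.l 3)))],
    [.l 1, .mul (.l 2) (.l 3)],
    [.l 1, .mul (.l 2) (.l 3), .l 7, .l 9, .mul (.l 8) (.l 8)],
    [.l 1, .l 2, .l 3, .l 9],
    [.l 1, .mul (.l 2) (.inv (.l 3))],
    [.l 1, .l 2, .l 3, .l 4],
    [.l 1, .l 2, .l 3, .l 8],
    [.l 2, .l 3],
    [.l 7, .mul (.mul (.mul (.l 2) (.l 3)) (.l 7)) (.inv (.mul (.l 2) (.l 3))), .l 9],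
    [.l 7, .mul (.mul (.mul (.l 2) (.l 3)) (.l 7)) (.inv (.mul (.l 2) (.l 3))), .l 9, .mul (.l 2) (.l 3), .mul (.l 8) (.l 8)],
    [.l 9, .mul (.l 2) (.l 3)]],
    [m9_L0, m9_L1, m9_L2, m9_L3, m9_L4, m9_L5, m9_L6, m9_L7, m9_L8, m9_L9, m9_L10, m9_L11, m9_L12, m9_L13, m9_L14, m9_L15, m9_L16, m9_L17], [m9_D0, m9_D1, m9_D2, m9_D3, m9_D4, m9_D5, m9_D6, m9_D7, m9_D8, m9_D9, m9_D10, m9_D11, m9_D12, m9_D13, m9_D14, m9_D15, m9_D16, m9_D17]⟩

instance m9_ne : NeZero m9.n := ⟨by decide⟩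

theorem m9_ok0 : m9.ok0 = true := by decide +kernel

theorem m9_k0 : allFrom (nat_lit 0) (nat_lit 1) m9.okK = true := by decide +kernel

theorem m9_k1 : allFrom (nat_lit 1) (nat_lit 1) m9.okK = true := by decide +kernel

theorem m9_k2 : allFrom (nat_lit 2) (nat_lit 1) m9.okK = true := by decide +kernel

theorem m9_k3 : allFrom (nat_lit 3) (nat_lit 1) m9.okK = true := by decide +kernel

theorem m9_k4 : allFrom (nat_lit 4) (nat_lit 1) m9.okK = true := by decide +kernel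

theorem m9_k5 : allFrom (nat_lit 5) (nat_lit 1) m9.okK = true := by decide +kernel

theorem m9_k6 : allFrom (nat_lit 6) (nat_lit 1) m9.okK = true := by decide +kernel

theorem m9_k7 : allFrom (nat_lit 7) (nat_lit 1) m9.okK = true := by decide +kernel

theorem m9_k8 : allFrom (nat_lit 8) (nat_lit 1) m9.okK = true := by decide +kernel

theorem m9_k9 : allFrom (nat_lit 9) (nat_lit 1) m9.okK = true := by decide +kernel

theorem m9_k10 : allFrom (nat_lit 10) (nat_lit 1) m9.okK = true := by decide +kernel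

theorem m9_k11 : allFrom (nat_lit 11) (nat_lit 1) m9.okK = true := by decide +kernel

theorem m9_k12 : allFrom (nat_lit 12) (nat_lit 1) m9.okK = true := by decide +kernel

theorem m9_k13 : allFrom (nat_lit 13) (nat_lit 1) m9.okK = true := by decide +kernel

theorem m9_k14 : allFrom (nat_lit 14) (nat_lit 1) m9.okK = true := by decide +kernel

theorem m9_k15 : allFrom (nat_lit 15) (nat_lit 1) m9.okK = true := by decide +kernel

theorem m9_k16 : allFrom (nat_lit 16) (nat_lit 1) m9.okK = true := by decide +kernel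

theorem m9_k17 : allFrom (nat_lit 17) (nat_lit 1) m9.okK = true := by decide +kernel

theorem m9_ok : m9.OK := PM.OK.of_check m9_ok0
  (of_allFrom_append (of_allFrom_append (of_allFrom_append (of_allFrom_append (of_allFrom_append (of_allFrom_append (of_allFrom_append (of_allFrom_append (of_allFrom_append (of_allFrom_append (of_allFrom_append (of_allFrom_append (of_allFrom_append (of_allFrom_append (of_allFrom_append (of_allFrom_append (of_allFrom_append (of_allFrom_append of_lt_zero m9_k0) m9_k1) m9_k2) m9_k3) m9_k4) m9_k5) m9_k6) m9_k7) m9_k8) m9_k9) m9_k10) m9_k11) m9_k12) m9_k13) m9_k14) m9_k15) m9_k16) m9_k17)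

theorem m9_card0 : Nat.card (genW m9.gam (m9.ws 0)) = 181440 := (m9_ok.card 0).trans (by decide +kernel)

theorem m9_card1 : Nat.card (genW m9.gam (m9.ws 1)) = 27 := (m9_ok.card 1).trans (by decide +kernel)

theorem m9_card2 : Nat.card (genW m9.gam (m9.ws 2)) = 648 := (m9_ok.card 2).trans (by decide +kernel)

theorem m9_card3 : Nat.card (genW m9.gam (m9.ws 3)) = 36 := (m9_ok.card 3).trans (by decide +kernel)

theorem m9_card4 : Nat.card (genW m9.gam (m9.ws 4)) = 360 := (m9_ok.card 4).trans (by decide +kernel)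

theorem m9_card5 : Nat.card (genW m9.gam (m9.ws 5)) = 216 := (m9_ok.card 5).trans (by decide +kernel)

theorem m9_card6 : Nat.card (genW m9.gam (m9.ws 6)) = 2160 := (m9_ok.card 6).trans (by decide +kernel)

theorem m9_card7 : Nat.card (genW m9.gam (m9.ws 7)) = 4 := (m9_ok.card 7).trans (by decide +kernel)

theorem m9_card8 : Nat.card (genW m9.gam (m9.ws 8)) = 9 := (m9_ok.card 8).trans (by decide +kernel)

theorem m9_card9 : Nat.card (genW m9.gam (m9.ws 9)) = 144 := (m9_ok.card 9).trans (by decide +kernel)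

theorem m9_card10 : Nat.card (genW m9.gam (m9.ws 10)) = 54 := (m9_ok.card 10).trans (by decide +kernel)

theorem m9_card11 : Nat.card (genW m9.gam (m9.ws 11)) = 9 := (m9_ok.card 11).trans (by decide +kernel)

theorem m9_card12 : Nat.card (genW m9.gam (m9.ws 12)) = 81 := (m9_ok.card 12).trans (by decide +kernel)

theorem m9_card13 : Nat.card (genW m9.gam (m9.ws 13)) = 108 := (m9_ok.card 13).trans (by decide +kernel)

theorem m9_card14 : Nat.card (genW m9.gam (m9.ws 14)) = 9 := (m9_ok.card 14).trans (by decide +kernel)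

theorem m9_card15 : Nat.card (genW m9.gam (m9.ws 15)) = 8 := (m9_ok.card 15).trans (by decide +kernel)

theorem m9_card16 : Nat.card (genW m9.gam (m9.ws 16)) = 48 := (m9_ok.card 16).trans (by decide +kernel)

theorem m9_card17 : Nat.card (genW m9.gam (m9.ws 17)) = 6 := (m9_ok.card 17).trans (by decide +kernel)

/-- a formula -/
def m9_u_f : Fm := .all 12 40 [] (.or (.mem 1 (.l 40)) (.all 1 41 [(.l 40, .l 40)] (.or (.one (.l 41)) (.or (.eq (.l 41) (.mul (.mul (.l 1) (.l 2)) (.l 3))) (.eq (.l 41) (.inv (.mul (.mul (.l 1) (.l 2)) (.l 3))))))))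

theorem m9_u_ev : m9.eval m9_u_f = true := by decide +kernel

theorem m9_u {G : Type*} [Group G] {γ : ℕ → G} {k : ℕ} {N : List W} (g : Gf m9 γ k N)
    (e : tyB m9 k N m9_u_f = true := by decide +kernel) :
    ∀ y ∈ genW γ (m9.ws 12), y ∈ genW γ (m9.ws 1) ∨ (∀ j ∈ genW γ (m9.ws 1), j * y = y * j → j = 1 ∨ j = γ 1 * γ 2 * γ 3 ∨ j = (γ 1 * γ 2 * γ 3)⁻¹) :=
  g.transfer e m9_u_ev

/-- a formula -/
def m9_c_f : Fm := .and (.all 2 40 [(.mul (.mul (.l 1) (.l 2)) (.l 3), .mul (.mul (.l 1) (.l 2)) (.l 3))] (.mem 12 (.l 40))) (.and (.all 2 40 [(.mul (.l 2) (.l 3), .mul (.l 2) (.l 3))] (.mem 10 (.l 40))) (.and (.all 2 40 [(.l 1, .l 1)] (.mem 13 (.l 40))) (.all 2 40 [(.l 1, .l 1), (.l 2, .l 2), (.l 3, .l 3)] (.mem 1 (.l 40)))))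

theorem m9_c_ev : m9.eval m9_c_f = true := by decide +kernel

theorem m9_c {G : Type*} [Group G] {γ : ℕ → G} {k : ℕ} {N : List W} (g : Gf m9 γ k N)
    (e : tyB m9 k N m9_c_f = true := by decide +kernel) :
    (∀ e ∈ genW γ (m9.ws 2), e * (γ 1 * γ 2 * γ 3) = γ 1 * γ 2 * γ 3 * e → e ∈ genW γ (m9.ws 12)) ∧ (∀ e ∈ genW γ (m9.ws 2), e * (γ 2 * γ 3) = γ 2 * γ 3 * e → e ∈ genW γ (m9.ws 10)) ∧ (∀ e ∈ genW γ (m9.ws 2), e * γ 1 = γ 1 * e → e ∈ genW γ (m9.ws 13)) ∧ (∀ e ∈ genW γ (m9.ws 2), e * γ 1 = γ 1 * e → e * γ 2 = γ 2 * e → e * γ 3 = γ 3 * e → e ∈ genW γ (m9.ws 1)) :=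
  g.transfer e m9_c_ev

/-- a formula -/
def m9_ry_f : Fm := .all 10 40 [] (.all 1 41 [] (.mem 11 (.mul (.l 41) (.mul (.mul (.l 40) (.inv (.l 41))) (.inv (.l 40))))))

theorem m9_ry_ev : m9.eval m9_ry_f = true := by decide +kernel

theorem m9_ry {G : Type*} [Group G] {γ : ℕ → G} {k : ℕ} {N : List W} (g : Gf m9 γ k N)
    (e : tyB m9 k N m9_ry_f = true := by decide +kernel) :
    ∀ n ∈ genW γ (m9.ws 10), ∀ j ∈ genW γ (m9.ws 1), j * (n * j⁻¹ * n⁻¹) ∈ genW γ (m9.ws 11) :=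
  g.transfer e m9_ry_ev

/-- a formula -/
def m9_iy_f : Fm := .all 10 40 [] (.or (.all 11 41 [] (.eq (.mul (.mul (.l 40) (.l 41)) (.inv (.l 40))) (.l 41))) (.all 11 41 [] (.eq (.mul (.mul (.l 40) (.l 41)) (.inv (.l 40))) (.inv (.l 41)))))

theorem m9_iy_ev : m9.eval m9_iy_f = true := by decide +kernel

theorem m9_iy {G : Type*} [Group G] {γ : ℕ → G} {k : ℕ} {N : List W} (g : Gf m9 γ k N)
    (e : tyB m9 k N m9_iy_f = true := by decide +kernel) :
    ∀ n ∈ genW γ (m9.ws 10), (∀ u ∈ genW γ (m9.ws 11), n * u * n⁻¹ = u) ∨ (∀ u ∈ genW γ (m9.ws 11), n * u * n⁻¹ = u⁻¹) :=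
  g.transfer e m9_iy_ev

/-- a formula -/
def m9_ra_f : Fm := .all 13 40 [] (.all 1 41 [] (.mem 14 (.mul (.l 41) (.mul (.mul (.l 40) (.inv (.l 41))) (.inv (.l 40))))))

theorem m9_ra_ev : m9.eval m9_ra_f = true := by decide +kernel

theorem m9_ra {G : Type*} [Group G] {γ : ℕ → G} {k : ℕ} {N : List W} (g : Gf m9 γ k N)
    (e : tyB m9 k N m9_ra_f = true := by decide +kernel) :
    ∀ n ∈ genW γ (m9.ws 13), ∀ j ∈ genW γ (m9.ws 1), j * (n * j⁻¹ * n⁻¹) ∈ genW γ (m9.ws 14) :=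
  g.transfer e m9_ra_ev

/-- a formula -/
def m9_dec_f : Fm := .all 13 40 [] (.or (.mem 3 (.l 40)) (.or (.mem 3 (.mul (.l 40) (.l 1))) (.mem 3 (.mul (.l 40) (.inv (.l 1))))))

theorem m9_dec_ev : m9.eval m9_dec_f = true := by decide +kernel

theorem m9_dec {G : Type*} [Group G] {γ : ℕ → G} {k : ℕ} {N : List W} (g : Gf m9 γ k N)
    (e : tyB m9 k N m9_dec_f = true := by decide +kernel) :
    ∀ e ∈ genW γ (m9.ws 13), e ∈ genW γ (m9.ws 3) ∨ e * γ 1 ∈ genW γ (m9.ws 3) ∨ e * (γ 1)⁻¹ ∈ genW γ (m9.ws 3) :=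
  g.transfer e m9_dec_ev

/-- a formula -/
def m9_dJ_f : Fm := .and (.all 1 40 [] (.or (.mem 14 (.l 40)) (.or (.mem 14 (.mul (.l 40) (.l 1))) (.mem 14 (.mul (.l 40) (.inv (.l 1))))))) (.all 1 40 [] (.or (.mem 11 (.l 40)) (.or (.mem 11 (.mul (.l 40) (.mul (.l 2) (.l 3)))) (.mem 11 (.mul (.l 40) (.inv (.mul (.l 2) (.l 3))))))))

theorem m9_dJ_ev : m9.eval m9_dJ_f = true := by decide +kernel

theorem m9_dJ {G : Type*} [Group G] {γ : ℕ → G} {k : ℕ} {N : List W} (g : Gf m9 γ k N)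
    (e : tyB m9 k N m9_dJ_f = true := by decide +kernel) :
    (∀ e ∈ genW γ (m9.ws 1), e ∈ genW γ (m9.ws 14) ∨ e * γ 1 ∈ genW γ (m9.ws 14) ∨ e * (γ 1)⁻¹ ∈ genW γ (m9.ws 14)) ∧ (∀ e ∈ genW γ (m9.ws 1), e ∈ genW γ (m9.ws 11) ∨ e * (γ 2 * γ 3) ∈ genW γ (m9.ws 11) ∨ e * (γ 2 * γ 3)⁻¹ ∈ genW γ (m9.ws 11)) :=
  g.transfer e m9_dJ_ev

/-- a formula -/
def m9_T_f : Fm := .all 14 40 [] (.or (.one (.l 40)) (.or (.ex 3 41 [(.l 2, .l 40)] (.tt)) (.ex 3 41 [(.mul (.l 2) (.l 3), .l 40)] (.tt))))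

theorem m9_T_ev : m9.eval m9_T_f = true := by decide +kernel

theorem m9_T {G : Type*} [Group G] {γ : ℕ → G} {k : ℕ} {N : List W} (g : Gf m9 γ k N)
    (e : tyB m9 k N m9_T_f = true := by decide +kernel) :
    ∀ u ∈ genW γ (m9.ws 14), u = 1 ∨ (∃ k ∈ genW γ (m9.ws 3), k * γ 2 = u * k ∧ True) ∨ (∃ k ∈ genW γ (m9.ws 3), k * (γ 2 * γ 3) = u * k ∧ True) :=
  g.transfer e m9_T_ev

/-- a formula -/
def m9_sq_f : Fm := .all 3 40 [] (.or (.mem 14 (.pow (.l 40) 2)) (.or (.mem 14 (.mul (.l 40) (.inv (.l 8)))) (.mem 14 (.mul (.l 40) (.l 8)))))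

theorem m9_sq_ev : m9.eval m9_sq_f = true := by decide +kernel

theorem m9_sq {G : Type*} [Group G] {γ : ℕ → G} {k : ℕ} {N : List W} (g : Gf m9 γ k N)
    (e : tyB m9 k N m9_sq_f = true := by decide +kernel) :
    ∀ n ∈ genW γ (m9.ws 3), n ^ 2 ∈ genW γ (m9.ws 14) ∨ n * (γ 8)⁻¹ ∈ genW γ (m9.ws 14) ∨ n * γ 8 ∈ genW γ (m9.ws 14) :=
  g.transfer e m9_sq_ev

/-- a formula -/
def m9_cT_f : Fm := .all 14 40 [] (.imp (.not (.one (.l 40))) (.all 13 41 [(.l 40, .l 40)] (.mem 1 (.l 41))))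

theorem m9_cT_ev : m9.eval m9_cT_f = true := by decide +kernel

theorem m9_cT {G : Type*} [Group G] {γ : ℕ → G} {k : ℕ} {N : List W} (g : Gf m9 γ k N)
    (e : tyB m9 k N m9_cT_f = true := by decide +kernel) :
    ∀ u ∈ genW γ (m9.ws 14), u ≠ 1 → ∀ e ∈ genW γ (m9.ws 13), e * u = u * e → e ∈ genW γ (m9.ws 1) :=
  g.transfer e m9_cT_ev

/-- a formula -/
def m9_nc_f : Fm := .all 2 40 [(.l 1, .mul (.l 2) (.l 3))] (.not (.tt))

theorem m9_nc_ev : m9.eval m9_nc_f = true := by decide +kernel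

theorem m9_nc {G : Type*} [Group G] {γ : ℕ → G} {k : ℕ} {N : List W} (g : Gf m9 γ k N)
    (e : tyB m9 k N m9_nc_f = true := by decide +kernel) :
    ∀ e ∈ genW γ (m9.ws 2), e * γ 1 = γ 2 * γ 3 * e → ¬ True :=
  g.transfer e m9_nc_ev

/-- a formula -/
def m9_cls_f : Fm := .all 1 40 [] (.or (.one (.l 40)) (.or (.ex 2 41 [(.l 1, .l 40)] (.tt)) (.or (.ex 2 41 [(.mul (.l 2) (.l 3), .l 40)] (.tt)) (.ex 2 41 [(.mul (.mul (.l 1) (.l 2)) (.l 3), .l 40)] (.tt)))))

theorem m9_cls_ev : m9.eval m9_cls_f = true := by decide +kernel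

theorem m9_cls {G : Type*} [Group G] {γ : ℕ → G} {k : ℕ} {N : List W} (g : Gf m9 γ k N)
    (e : tyB m9 k N m9_cls_f = true := by decide +kernel) :
    ∀ j ∈ genW γ (m9.ws 1), j = 1 ∨ (∃ k ∈ genW γ (m9.ws 2), k * γ 1 = j * k ∧ True) ∨ (∃ k ∈ genW γ (m9.ws 2), k * (γ 2 * γ 3) = j * k ∧ True) ∨ (∃ k ∈ genW γ (m9.ws 2), k * (γ 1 * γ 2 * γ 3) = j * k ∧ True) :=
  g.transfer e m9_cls_ev

/-- a formula -/
def m9_E_f : Fm := .all 8 40 [] (.or (.one (.l 40)) (.or (.eq (.l 40) (.l 1)) (.or (.eq (.l 40) (.inv (.l 1))) (.or (.eq (.l 40) (.mul (.l 2) (.l 3))) (.or (.eq (.l 40) (.inv (.mul (.l 2) (.l 3)))) (.ex 2 41 [(.mul (.mul (.l 1) (.l 2)) (.l 3), .l 40)] (.tt)))))))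

theorem m9_E_ev : m9.eval m9_E_f = true := by decide +kernel

theorem m9_E {G : Type*} [Group G] {γ : ℕ → G} {k : ℕ} {N : List W} (g : Gf m9 γ k N)
    (e : tyB m9 k N m9_E_f = true := by decide +kernel) :
    ∀ e ∈ genW γ (m9.ws 8), e = 1 ∨ e = γ 1 ∨ e = (γ 1)⁻¹ ∨ e = γ 2 * γ 3 ∨ e = (γ 2 * γ 3)⁻¹ ∨ (∃ k ∈ genW γ (m9.ws 2), k * (γ 1 * γ 2 * γ 3) = e * k ∧ True) :=
  g.transfer e m9_E_ev

/-- a formula -/
def m9_v_f : Fm := .all 4 40 [] (.imp (.one (.mul (.l 40) (.l 40))) (.imp (.one (.pow (.mul (.l 40) (.inv (.l 8))) 2)) (.imp (.one (.pow (.mul (.mul (.l 3) (.l 2)) (.l 40)) 3)) (.imp (.one (.pow (.mul (.mul (.l 2) (.inv (.l 8))) (.l 40)) 3)) (.eq (.l 40) (.l 7))))))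

theorem m9_v_ev : m9.eval m9_v_f = true := by decide +kernel

theorem m9_v {G : Type*} [Group G] {γ : ℕ → G} {k : ℕ} {N : List W} (g : Gf m9 γ k N)
    (e : tyB m9 k N m9_v_f = true := by decide +kernel) :
    ∀ u ∈ genW γ (m9.ws 4), u * u = 1 → (u * (γ 8)⁻¹) ^ 2 = 1 → (γ 3 * γ 2 * u) ^ 3 = 1 → (γ 2 * (γ 8)⁻¹ * u) ^ 3 = 1 → u = γ 7 :=
  g.transfer e m9_v_ev

/-- a formula -/
def m9_nv_f : Fm := .all 7 40 [] (.all 6 41 [(.l 7, .l 40)] (.imp (.mem 7 (.mul (.mul (.l 41) (.mul (.mul (.mul (.l 2) (.l 3)) (.l 7)) (.inv (.mul (.l 2) (.l 3))))) (.inv (.l 41)))) (.mem 9 (.l 41))))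

theorem m9_nv_ev : m9.eval m9_nv_f = true := by decide +kernel

theorem m9_nv {G : Type*} [Group G] {γ : ℕ → G} {k : ℕ} {N : List W} (g : Gf m9 γ k N)
    (e : tyB m9 k N m9_nv_f = true := by decide +kernel) :
    ∀ u ∈ genW γ (m9.ws 7), ∀ n ∈ genW γ (m9.ws 6), n * γ 7 = u * n → n * (γ 2 * γ 3 * γ 7 * (γ 2 * γ 3)⁻¹) * n⁻¹ ∈ genW γ (m9.ws 7) → n ∈ genW γ (m9.ws 9) :=
  g.transfer e m9_nv_ev

/-- a formula -/
def m9_nE_f : Fm := .all 9 40 [] (.ex 7 41 [] (.and (.mem 8 (.mul (.mul (.mul (.l 41) (.l 40)) (.l 1)) (.inv (.mul (.l 41) (.l 40))))) (.mem 8 (.mul (.mul (.mul (.l 41) (.l 40)) (.mul (.l 2) (.l 3))) (.inv (.mul (.l 41) (.l 40)))))))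

theorem m9_nE_ev : m9.eval m9_nE_f = true := by decide +kernel

theorem m9_nE {G : Type*} [Group G] {γ : ℕ → G} {k : ℕ} {N : List W} (g : Gf m9 γ k N)
    (e : tyB m9 k N m9_nE_f = true := by decide +kernel) :
    ∀ n ∈ genW γ (m9.ws 9), ∃ u ∈ genW γ (m9.ws 7), u * n * γ 1 * (u * n)⁻¹ ∈ genW γ (m9.ws 8) ∧ u * n * (γ 2 * γ 3) * (u * n)⁻¹ ∈ genW γ (m9.ws 8) :=
  g.transfer e m9_nE_ev

/-- a formula -/
def m9_ce_f : Fm := .all 9 40 [(.l 1, .l 1), (.mul (.l 2) (.l 3), .mul (.l 2) (.l 3))] (.mem 8 (.l 40))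

theorem m9_ce_ev : m9.eval m9_ce_f = true := by decide +kernel

theorem m9_ce {G : Type*} [Group G] {γ : ℕ → G} {k : ℕ} {N : List W} (g : Gf m9 γ k N)
    (e : tyB m9 k N m9_ce_f = true := by decide +kernel) :
    ∀ n ∈ genW γ (m9.ws 9), n * γ 1 = γ 1 * n → n * (γ 2 * γ 3) = γ 2 * γ 3 * n → n ∈ genW γ (m9.ws 8) :=
  g.transfer e m9_ce_ev

/-- a formula -/
def m9_se_f : Fm := .all 9 40 [] (.ex 7 41 [] (.mem 8 (.mul (.l 41) (.pow (.l 40) 2))))

theorem m9_se_ev : m9.eval m9_se_f = true := by decide +kernel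

theorem m9_se {G : Type*} [Group G] {γ : ℕ → G} {k : ℕ} {N : List W} (g : Gf m9 γ k N)
    (e : tyB m9 k N m9_se_f = true := by decide +kernel) :
    ∀ n ∈ genW γ (m9.ws 9), ∃ u ∈ genW γ (m9.ws 7), u * n ^ 2 ∈ genW γ (m9.ws 8) :=
  g.transfer e m9_se_ev

/-- a formula -/
def m9_ev_f : Fm := .all 8 40 [(.l 7, .l 7)] (.or (.one (.l 40)) (.or (.eq (.l 40) (.l 1)) (.eq (.l 40) (.inv (.l 1)))))

theorem m9_ev_ev : m9.eval m9_ev_f = true := by decide +kernel

theorem m9_ev {G : Type*} [Group G] {γ : ℕ → G} {k : ℕ} {N : List W} (g : Gf m9 γ k N)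
    (e : tyB m9 k N m9_ev_f = true := by decide +kernel) :
    ∀ e ∈ genW γ (m9.ws 8), e * γ 7 = γ 7 * e → e = 1 ∨ e = γ 1 ∨ e = (γ 1)⁻¹ :=
  g.transfer e m9_ev_ev

/-- a formula -/
def m9_cA_f : Fm := .all 6 40 [(.l 9, .l 9), (.l 7, .l 7), (.mul (.mul (.mul (.l 2) (.l 3)) (.l 7)) (.inv (.mul (.l 2) (.l 3))), .mul (.mul (.mul (.l 2) (.l 3)) (.l 7)) (.inv (.mul (.l 2) (.l 3))))] (.mem 15 (.l 40))

theorem m9_cA_ev : m9.eval m9_cA_f = true := by decide +kernel

theorem m9_cA {G : Type*} [Group G] {γ : ℕ → G} {k : ℕ} {N : List W} (g : Gf m9 γ k N)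
    (e : tyB m9 k N m9_cA_f = true := by decide +kernel) :
    ∀ n ∈ genW γ (m9.ws 6), n * γ 9 = γ 9 * n → n * γ 7 = γ 7 * n → n * (γ 2 * γ 3 * γ 7 * (γ 2 * γ 3)⁻¹) = γ 2 * γ 3 * γ 7 * (γ 2 * γ 3)⁻¹ * n → n ∈ genW γ (m9.ws 15) :=
  g.transfer e m9_cA_ev

/-- a formula -/
def m9_ct_f : Fm := .all 10 40 [(.l 9, .l 9)] (.and (.mem 17 (.l 40)) (.or (.one (.pow (.l 40) 2)) (.or (.eq (.pow (.l 40) 2) (.mul (.l 2) (.l 3))) (.eq (.pow (.l 40) 2) (.inv (.mul (.l 2) (.l 3)))))))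

theorem m9_ct_ev : m9.eval m9_ct_f = true := by decide +kernel

theorem m9_ct {G : Type*} [Group G] {γ : ℕ → G} {k : ℕ} {N : List W} (g : Gf m9 γ k N)
    (e : tyB m9 k N m9_ct_f = true := by decide +kernel) :
    ∀ n ∈ genW γ (m9.ws 10), n * γ 9 = γ 9 * n → n ∈ genW γ (m9.ws 17) ∧ (n ^ 2 = 1 ∨ n ^ 2 = γ 2 * γ 3 ∨ n ^ 2 = (γ 2 * γ 3)⁻¹) :=
  g.transfer e m9_ct_ev

/-- a formula -/
def m9_ia_f : Fm := .all 6 40 [(.l 1, .l 1)] (.imp (.one (.mul (.l 40) (.l 40))) (.or (.one (.l 40)) (.ex 6 41 [(.l 7, .l 40)] (.tt))))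

theorem m9_ia_ev : m9.eval m9_ia_f = true := by decide +kernel

theorem m9_ia {G : Type*} [Group G] {γ : ℕ → G} {k : ℕ} {N : List W} (g : Gf m9 γ k N)
    (e : tyB m9 k N m9_ia_f = true := by decide +kernel) :
    ∀ e ∈ genW γ (m9.ws 6), e * γ 1 = γ 1 * e → e * e = 1 → e = 1 ∨ (∃ l ∈ genW γ (m9.ws 6), l * γ 7 = e * l ∧ True) :=
  g.transfer e m9_ia_ev

theorem m9_link : ∀ j ∈ genW m9.gam (m9.ws 1), ∀ i ∈ genW m9.gam (m9.ws 1), ∀ e ∈ genW m9.gam (m9.ws 0), e * m9.gam 1 = j * e → e * m9.gam 2 = i * e → e ∈ genW m9.gam (m9.ws 2) :=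
  m9_ok.holds (φ := .all 1 40 [] (.all 1 41 [] (.all 0 42 [(.l 1, .l 40), (.l 2, .l 41)] (.mem 2 (.l 42))))) (by decide +kernel)

/-- inverse letters -/
def tcL_iv : ℕ := 291690786377245728

/-- inverse letters -/
def tcL_labs : List W := [.l 0, .l 0, .l 2, .l 3, .l 0, .l 0, .l 0, .l 7, .l 8, .inv (.l 2), .inv (.l 3), .inv (.l 8)]

def tcL_F : Tr := .leaf (nat_lit 0xf2763b9dd12b75ca213227548e12a293c1e170864c09868a843ad92e25538d84696399c8ea7442ac96a84528cd68834a08904b358a056080500c120201ca9050931ba894c321aa844891518c52421389c00000)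
def tcL_T : Tr := .leaf (nat_lit 654820258320)
def tcL_P : Tr := .leaf (nat_lit 0x7fc007fc007fc007fc007fc007fc007fc007fd9c68a0000cb96aa1ec1413800080ec12130040520849800020e3e4c00009a93000012420580001353cac30952888802038c3844000156910000020184803012d3a3c010145051e00004307800008c081c010093a8400000c80302305819a160081010d0b00405106c58000206160000218d890000508240000031a0a0080808c0300206)
def tcL_N_0 : Tr := .node (.node (.node (.node (.leaf (nat_lit 2114))
  (.leaf (nat_lit 11272)))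
  (.leaf (nat_lit 323)))
  (.node (.node (.leaf (nat_lit 7974923902211))
  (.leaf (nat_lit 267)))
  (.leaf (nat_lit 198))))
  (.node (.node (.node (.leaf (nat_lit 306280))
  (.leaf (nat_lit 106)))
  (.leaf (nat_lit 4100)))
  (.node (.leaf (nat_lit 290))
  (.leaf (nat_lit 231))))
def tcL_N_1 : Tr := .node (.node (.node (.node (.leaf (nat_lit 336994))
  (.leaf (nat_lit 73)))
  (.leaf (nat_lit 132)))
  (.node (.node (.leaf (nat_lit 33))
  (.leaf (nat_lit 0)))
  (.leaf (nat_lit 6150))))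
  (.node (.node (.node (.leaf (nat_lit 269575))
  (.leaf (nat_lit 3082)))
  (.leaf (nat_lit 165)))
  (.node (.leaf (nat_lit 9218))
  (.leaf (nat_lit 360))))
def tcL_N_2 : Tr := .node (.node (.node (.node (.leaf (nat_lit 3171))
  (.leaf (nat_lit 73)))
  (.leaf (nat_lit 10243)))
  (.node (.node (.leaf (nat_lit 33))
  (.leaf (nat_lit 8203)))
  (.leaf (nat_lit 198))))
  (.node (.node (.node (.leaf (nat_lit 109640))
  (.leaf (nat_lit 106)))
  (.leaf (nat_lit 165)))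
  (.node (.leaf (nat_lit 290))
  (.leaf (nat_lit 7175))))
def tcL_N_3 : Tr := .node (.node (.node (.node (.leaf (nat_lit 270600))
  (.leaf (nat_lit 2057)))
  (.leaf (nat_lit 132)))
  (.node (.node (.leaf (nat_lit 1025))
  (.leaf (nat_lit 0)))
  (.leaf (nat_lit 231))))
  (.node (.node (.node (.leaf (nat_lit 7802046192738))
  (.leaf (nat_lit 267)))
  (.leaf (nat_lit 5125)))
  (.node (.leaf (nat_lit 323))
  (.leaf (nat_lit 360))))
def tcL_N : Tr := .node (.node tcL_N_0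
  tcL_N_1)
  (.node tcL_N_2
  tcL_N_3)
noncomputable def tcL : TC :=
  ⟨[.l 0, .l 1, .l 2, .l 3, .l 4, .l 5, .l 6, .l 7, .l 8, .l 9, .l 10, .l 11],
    (nat_lit 4), (nat_lit 7), (nat_lit 0x40c4b398a452420), (nat_lit 269), (nat_lit 10), (nat_lit 3), (nat_lit 32), (nat_lit 1), (nat_lit 44),
    get (nat_lit 10) (nat_lit 0x1003010030080400c02010030080400c02010030080400c02010030080400c02010030080400c02010030080902404010040100400c03), Tr.get tcL_N, get (nat_lit 20) (nat_lit 0x3ff003ff003ff003ff003ff003ff003ff003ff003ff003ff003ff003ff003ff003ff003ff003ff003ff003ff003ff003ff003ff003ff003ff003ff003ff003ff003ff003ff003ff003ff003ff003ff003ff003ff003ff000090000800007000050000400003000020000100000),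
    Tr.get3 tcL_F (nat_lit 18) (nat_lit 5), Tr.get3 tcL_T (nat_lit 4) (nat_lit 7), Tr.get tcL_P⟩

theorem tcL_head : tcL.headOK relL tcL_iv = true := by decide +kernel

theorem tcL_b0 : allFrom (nat_lit 0) (nat_lit 1) tcL.blockOK = true := by decide +kernel

def tcL_Q7 : Tr := .leaf (nat_lit 0x24ba8d214a856a8182)
theorem tcL_f7_0 : allFrom (nat_lit 0) (nat_lit 10) (tcL.finOK (nat_lit 10) (Tr.get3 tcL_Q7 (nat_lit 7) (nat_lit 7)) (nat_lit 7)) = true := by
  decide +kernel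

def tcL_Q8 : Tr := .leaf (nat_lit 0x22c266e13a44074d18)
theorem tcL_f8_0 : allFrom (nat_lit 0) (nat_lit 10) (tcL.finOK (nat_lit 10) (Tr.get3 tcL_Q8 (nat_lit 7) (nat_lit 7)) (nat_lit 8)) = true := by
  decide +kernel

def tcL_Q3 : Tr := .leaf (nat_lit 0x4fe3ee2f588c196)
theorem tcL_f3_0 : allFrom (nat_lit 0) (nat_lit 10) (tcL.finOK (nat_lit 10) (Tr.get3 tcL_Q3 (nat_lit 6) (nat_lit 7)) (nat_lit 3)) = true := by
  decide +kernel

def tcL_Q2 : Tr := .leaf (nat_lit 0x1e1180d98095a78214)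
theorem tcL_f2_0 : allFrom (nat_lit 0) (nat_lit 10) (tcL.finOK (nat_lit 10) (Tr.get3 tcL_Q2 (nat_lit 7) (nat_lit 7)) (nat_lit 2)) = true := by
  decide +kernel

theorem tcL_blocks : ∀ t < tcL.k, tcL.blockOK t = true :=
  (of_allFrom_append of_lt_zero tcL_b0)

/-- index 10 max 10 total 10 facts 37 | needed cosets 10 facts 37 steps 82 trivial 0 -/
theorem tcL_index {G : Type*} [Group G] {γ : ℕ → G} (hL : Lab γ tcL_iv) (hr : ∀ t ∈ relL, t.ev γ = 1) {K : Subgroup G}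
    (hK : ∀ t ∈ ([.l 2, .l 3, .l 8] : List W), t.ev γ ∈ K) :
    K.relIndex (genW γ [.l 2, .l 3, .l 8, .l 7]) ≠ 0 ∧ K.relIndex (genW γ [.l 2, .l 3, .l 8, .l 7]) ≤ 10 :=
  TC.relIndex_le (D := tcL) (gens := [2, 3, 8, 7]) hL (List.forall_mem_cons.2 ⟨hL.zero_mem K, hK⟩) hr tcL_head tcL_blocks (by decide) (by decide)
   (List.forall_mem_cons.2 ⟨⟨_, (of_allFrom_append of_lt_zero tcL_f2_0)⟩,
    List.forall_mem_cons.2 ⟨⟨_, (of_allFrom_append of_lt_zero tcL_f3_0)⟩,
    List.forall_mem_cons.2 ⟨⟨_, (of_allFrom_append of_lt_zero tcL_f8_0)⟩,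
    List.forall_mem_cons.2 ⟨⟨_, (of_allFrom_append of_lt_zero tcL_f7_0)⟩,
    fun _ h => absurd h List.not_mem_nil⟩⟩⟩⟩)

theorem tcL_idx {G : Type*} [Group G] {γ : ℕ → G} (h0 : γ 0 = 1) (hr : ∀ t ∈ relL, t.ev γ = 1) {K : Subgroup G}
    (hK : ∀ t ∈ ([.l 2, .l 3, .l 8] : List W), t.ev γ ∈ K) :
    K.relIndex (genW γ [.l 2, .l 3, .l 8, .l 7]) ≠ 0 ∧ K.relIndex (genW γ [.l 2, .l 3, .l 8, .l 7]) ≤ 10 := by
  have a := lab_of_rels h0 hr (iv := tcL_iv) (labs := tcL_labs) (by decide +kernel)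
  have b := tcL_index a.1 a.2 (mems_fix (by decide +kernel) hK)
  rwa [genW_fix (by decide +kernel)] at b

/-- inverse letters -/
def tcN_iv : ℕ := 298680184387251088704

/-- inverse letters -/
def tcN_labs : List W := [.l 0, .l 1, .l 2, .l 3, .l 0, .l 0, .l 0, .l 7, .l 8, .l 9, .inv (.l 1), .inv (.l 2), .inv (.l 3), .inv (.l 8)]

def tcN_F : Tr := .leaf (nat_lit 0x3c9d912d76ca217227648e13299548656a293b9dcf0784c25db0865c09950181a3210ed65b8958e365385d2c960b29846b6399c8ea7442b49aa84628cd289552855a8835a089481449a4826a34134c24a248a4422a168a0520906820180305808140101cb1050b31bb098c321ab0448b1618c56421389c00000)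
def tcN_T : Tr := .leaf (nat_lit 654820258320)
def tcN_P : Tr := .node (.leaf (nat_lit 0x12080b00002575856002114f2e3f06093d3611004070e2b110000f0c2611000054111000001028110000a1006090060241270f004050a050f000020c0f000010e240f0000b412a0d0040f0c250d0040b0c0407004023b3c30000063006021a18031e0b00408041e0b00405081f0b00004060b000010a23090000f0a200b0000b061f09000050409000000820090000a0422070040f0621070040b061e05004040421050040a021d03000110214030040d021a0300206))
  (.leaf (nat_lit 0x1ff001ff001ff001ff001ff001ff001ff001ff001ff001ff001ff001ff001ff001ff001ff001ff001ff001ff001ff001ff001ff001ff001ff001ff001ff4d5a69000064a381300405103113000040e2f13000024f130000112345c0000f122d130000b))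
def tcN_N_0 : Tr := .node (.node (.node (.node (.leaf (nat_lit 2114))
  (.leaf (nat_lit 5125)))
  (.node (.leaf (nat_lit 271625))
  (.leaf (nat_lit 75))))
  (.node (.node (.leaf (nat_lit 7974923902211))
  (.leaf (nat_lit 424)))
  (.node (.leaf (nat_lit 387))
  (.leaf (nat_lit 8205)))))
  (.node (.node (.node (.leaf (nat_lit 373864))
  (.leaf (nat_lit 231)))
  (.node (.leaf (nat_lit 10241))
  (.leaf (nat_lit 108))))
  (.node (.node (.leaf (nat_lit 436481))
  (.leaf (nat_lit 9225)))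
  (.leaf (nat_lit 132))))
def tcN_N_1 : Tr := .node (.node (.node (.node (.leaf (nat_lit 404578))
  (.leaf (nat_lit 198)))
  (.node (.leaf (nat_lit 321))
  (.leaf (nat_lit 2059))))
  (.node (.node (.leaf (nat_lit 370753))
  (.leaf (nat_lit 297)))
  (.node (.leaf (nat_lit 12291))
  (.leaf (nat_lit 0)))))
  (.node (.node (.node (.leaf (nat_lit 269575))
  (.leaf (nat_lit 7175)))
  (.node (.leaf (nat_lit 354))
  (.leaf (nat_lit 269))))
  (.node (.node (.leaf (nat_lit 42025))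
  (.leaf (nat_lit 42)))
  (.leaf (nat_lit 165))))
def tcN_N_2 : Tr := .node (.node (.node (.node (.leaf (nat_lit 3171))
  (.leaf (nat_lit 198)))
  (.node (.leaf (nat_lit 238825))
  (.leaf (nat_lit 75))))
  (.node (.node (.leaf (nat_lit 1057))
  (.leaf (nat_lit 13320)))
  (.node (.leaf (nat_lit 387))
  (.leaf (nat_lit 0)))))
  (.node (.node (.node (.leaf (nat_lit 111688))
  (.leaf (nat_lit 231)))
  (.node (.leaf (nat_lit 354))
  (.leaf (nat_lit 3084))))
  (.node (.node (.leaf (nat_lit 239841))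
  (.leaf (nat_lit 42)))
  (.leaf (nat_lit 4100))))
def tcN_N_3 : Tr := .node (.node (.node (.node (.leaf (nat_lit 270600))
  (.leaf (nat_lit 6150)))
  (.node (.leaf (nat_lit 321))
  (.leaf (nat_lit 108))))
  (.node (.node (.leaf (nat_lit 403553))
  (.leaf (nat_lit 297)))
  (.leaf (nat_lit 132))))
  (.node (.node (.node (.leaf (nat_lit 7802046192738))
  (.leaf (nat_lit 424)))
  (.node (.leaf (nat_lit 11266))
  (.leaf (nat_lit 269))))
  (.node (.node (.leaf (nat_lit 402505))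
  (.leaf (nat_lit 1034)))
  (.leaf (nat_lit 165))))
def tcN_N : Tr := .node (.node tcN_N_0
  tcN_N_1)
  (.node tcN_N_2
  tcN_N_3)
noncomputable def tcN : TC :=
  ⟨[.l 0, .l 1, .l 2, .l 3, .l 4, .l 5, .l 6, .l 7, .l 8, .l 9, .l 10, .l 11, .l 12, .l 13],
    (nat_lit 4), (nat_lit 8), (nat_lit 0x1031052d398a462d40), (nat_lit 783), (nat_lit 10), (nat_lit 5), (nat_lit 32), (nat_lit 2), (nat_lit 59),
    get (nat_lit 10) (nat_lit 0x400c0400c02010030080400c02010030080400c02010030080400c02010030080400c02010030080400c02010030080400c020100401004010040100400c0902404010040100400c03), Tr.get tcN_N, get (nat_lit 20) (nat_lit 0x3ff003ff003ff003ff003ff003ff003ff003ff003ff003ff003ff003ff003ff003ff003ff003ff003ff003ff003ff003ff003ff003ff003ff003ff003ff003ff003ff003ff003ff003ff003ff003ff003ff003ff003ff003ff003ff003ff003ff003ff003ff000130001200011000100000e0000d0000c0000b0000a000090000800007000050000400003000020000100000),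
    Tr.get3 tcN_F (nat_lit 18) (nat_lit 5), Tr.get3 tcN_T (nat_lit 4) (nat_lit 7), Tr.get tcN_P⟩

theorem tcN_head : tcN.headOK relN tcN_iv = true := by decide +kernel

theorem tcN_b0 : allFrom (nat_lit 0) (nat_lit 2) tcN.blockOK = true := by decide +kernel

def tcN_Q7 : Tr := .leaf (nat_lit 0x35d8b5a9ebc7ef8182)
theorem tcN_f7_0 : allFrom (nat_lit 0) (nat_lit 10) (tcN.finOK (nat_lit 10) (Tr.get3 tcN_Q7 (nat_lit 7) (nat_lit 7)) (nat_lit 7)) = true := by
  decide +kernel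

def tcN_Q9 : Tr := .leaf (nat_lit 0x3057ad11a3556a911c)
theorem tcN_f9_0 : allFrom (nat_lit 0) (nat_lit 10) (tcN.finOK (nat_lit 10) (Tr.get3 tcN_Q9 (nat_lit 7) (nat_lit 7)) (nat_lit 9)) = true := by
  decide +kernel

def tcN_Q8 : Tr := .leaf (nat_lit 0x34e69b51db8609cf1a)
theorem tcN_f8_0 : allFrom (nat_lit 0) (nat_lit 10) (tcN.finOK (nat_lit 10) (Tr.get3 tcN_Q8 (nat_lit 7) (nat_lit 7)) (nat_lit 8)) = true := by
  decide +kernel

def tcN_Q3 : Tr := .leaf (nat_lit 0x9e21f205cf6c30318)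
theorem tcN_f3_0 : allFrom (nat_lit 0) (nat_lit 10) (tcN.finOK (nat_lit 10) (Tr.get3 tcN_Q3 (nat_lit 7) (nat_lit 7)) (nat_lit 3)) = true := by
  decide +kernel

def tcN_Q2 : Tr := .leaf (nat_lit 0x2e11c94a50982b8216)
theorem tcN_f2_0 : allFrom (nat_lit 0) (nat_lit 10) (tcN.finOK (nat_lit 10) (Tr.get3 tcN_Q2 (nat_lit 7) (nat_lit 7)) (nat_lit 2)) = true := by
  decide +kernel

def tcN_Q1 : Tr := .leaf (nat_lit 0x2f508d0d92c5295094)
theorem tcN_f1_0 : allFrom (nat_lit 0) (nat_lit 10) (tcN.finOK (nat_lit 10) (Tr.get3 tcN_Q1 (nat_lit 7) (nat_lit 7)) (nat_lit 1)) = true := by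
  decide +kernel

theorem tcN_blocks : ∀ t < tcN.k, tcN.blockOK t = true :=
  (of_allFrom_append of_lt_zero tcN_b0)

/-- index 10 max 10 total 10 facts 54 | needed cosets 10 facts 54 steps 122 trivial 0 -/
theorem tcN_index {G : Type*} [Group G] {γ : ℕ → G} (hL : Lab γ tcN_iv) (hr : ∀ t ∈ relN, t.ev γ = 1) {K : Subgroup G}
    (hK : ∀ t ∈ ([.l 1, .l 2, .l 3, .l 8, .l 9] : List W), t.ev γ ∈ K) :
    K.relIndex (genW γ [.l 1, .l 2, .l 3, .l 8, .l 9, .l 7]) ≠ 0 ∧ K.relIndex (genW γ [.l 1, .l 2, .l 3, .l 8, .l 9, .l 7]) ≤ 10 :=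
  TC.relIndex_le (D := tcN) (gens := [1, 2, 3, 8, 9, 7]) hL (List.forall_mem_cons.2 ⟨hL.zero_mem K, hK⟩) hr tcN_head tcN_blocks (by decide) (by decide)
   (List.forall_mem_cons.2 ⟨⟨_, (of_allFrom_append of_lt_zero tcN_f1_0)⟩,
    List.forall_mem_cons.2 ⟨⟨_, (of_allFrom_append of_lt_zero tcN_f2_0)⟩,
    List.forall_mem_cons.2 ⟨⟨_, (of_allFrom_append of_lt_zero tcN_f3_0)⟩,
    List.forall_mem_cons.2 ⟨⟨_, (of_allFrom_append of_lt_zero tcN_f8_0)⟩,
    List.forall_mem_cons.2 ⟨⟨_, (of_allFrom_append of_lt_zero tcN_f9_0)⟩,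
    List.forall_mem_cons.2 ⟨⟨_, (of_allFrom_append of_lt_zero tcN_f7_0)⟩,
    fun _ h => absurd h List.not_mem_nil⟩⟩⟩⟩⟩⟩)

theorem tcN_idx {G : Type*} [Group G] {γ : ℕ → G} (h0 : γ 0 = 1) (hr : ∀ t ∈ relN, t.ev γ = 1) {K : Subgroup G}
    (hK : ∀ t ∈ ([.l 1, .l 2, .l 3, .l 8, .l 9] : List W), t.ev γ ∈ K) :
    K.relIndex (genW γ [.l 1, .l 2, .l 3, .l 8, .l 9, .l 7]) ≠ 0 ∧ K.relIndex (genW γ [.l 1, .l 2, .l 3, .l 8, .l 9, .l 7]) ≤ 10 := by
  have a := lab_of_rels h0 hr (iv := tcN_iv) (labs := tcN_labs) (by decide +kernel)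
  have b := tcN_index a.1 a.2 (mems_fix (by decide +kernel) hK)
  rwa [genW_fix (by decide +kernel)] at b

def a6_L0 : List (ℕ × List ℕ) := [((nat_lit 0), [(nat_lit 181896), (nat_lit 181777), (nat_lit 181826), (nat_lit 144397), (nat_lit 55427), (nat_lit 107052)]),
  ((nat_lit 1), [(nat_lit 181896), (nat_lit 55504), (nat_lit 88152), (nat_lit 144488), (nat_lit 105120)]),
  ((nat_lit 2), [(nat_lit 181896), (nat_lit 174280), (nat_lit 109320), (nat_lit 116040)]),
  ((nat_lit 3), [(nat_lit 181896), (nat_lit 146056), (nat_lit 120968)])]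

def a6_D0 : List ℕ := [(nat_lit 0), (nat_lit 513), (nat_lit 769), (nat_lit 25858), (nat_lit 36866), (nat_lit 50434), (nat_lit 0), (nat_lit 1025), (nat_lit 1016579), (nat_lit 1281), (nat_lit 147458), (nat_lit 0), (nat_lit 4644611), (nat_lit 169904900), (nat_lit 10466702085), (nat_lit 0), (nat_lit 456949508), (nat_lit 362719492)]

def a6 : PM :=
  ⟨(nat_lit 6), (nat_lit 3), [(nat_lit 181777), (nat_lit 55504)],
    [[.l 1, .l 2]],
    [a6_L0], [a6_D0]⟩

instance a6_ne : NeZero a6.n := ⟨by decide⟩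

theorem a6_ok0 : a6.ok0 = true := by decide +kernel

theorem a6_k0 : allFrom (nat_lit 0) (nat_lit 1) a6.okK = true := by decide +kernel

theorem a6_ok : a6.OK := PM.OK.of_check a6_ok0
  (of_allFrom_append of_lt_zero a6_k0)

theorem a6_card0 : Nat.card (genW a6.gam (a6.ws 0)) = 360 := (a6_ok.card 0).trans (by decide +kernel)

/-- a formula -/
def a6_v_f : Fm := .all 0 40 [] (.imp (.one (.pow (.l 40) 3)) (.imp (.not (.one (.l 40))) (.all 0 41 [(.l 40, .l 40)] (.all 0 42 [(.l 40, .l 41), (.l 41, .inv (.l 40))] (.ex 0 43 [(.l 42, .inv (.l 42))] (.and (.one (.mul (.l 43) (.l 43))) (.and (.one (.pow (.mul (.mul (.l 41) (.l 40)) (.l 43)) 3)) (.and (.one (.pow (.mul (.mul (.l 40) (.l 42)) (.l 43)) 3)) (.not (.eq (.mul (.l 41) (.mul (.mul (.l 43) (.l 41)) (.inv (.l 43)))) (.mul (.mul (.mul (.l 43) (.l 41)) (.inv (.l 43))) (.l 41))))))))))))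

theorem a6_v_ev : a6.eval a6_v_f = true := by decide +kernel

theorem a6_v {G : Type*} [Group G] {γ : ℕ → G} {k : ℕ} {N : List W} (g : Gf a6 γ k N)
    (e : tyB a6 k N a6_v_f = true := by decide +kernel) :
    ∀ c ∈ genW γ (a6.ws 0), c ^ 3 = 1 → c ≠ 1 → ∀ b ∈ genW γ (a6.ws 0), b * c = c * b → ∀ r ∈ genW γ (a6.ws 0), r * c = b * r → r * b = c⁻¹ * r → ∃ v ∈ genW γ (a6.ws 0), v * r = r⁻¹ * v ∧ v * v = 1 ∧ (b * c * v) ^ 3 = 1 ∧ (c * r * v) ^ 3 = 1 ∧ b * (v * b * v⁻¹) ≠ v * b * v⁻¹ * b :=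
  g.transfer e a6_v_ev

end Cfsg.Lib.Loc3
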