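import Cfsg.Agent.Lib.Loc3.Nine

/-! The subgroup `3³ : S₄` contains the centralisers of the elements of `3³` (helper8). -/

set_option autoImplicit false

namespace Cfsg.Lib.Loc3

open Subgroup Cfsg.Lib.BG Cfsg.Lib.Transfer Cfsg.Lib.OddChar Cfsg.Lib.Char Cfsg.Lib.Block Cfsg.Lib.Calc Cfsg.Lib.T2 Cfsg.Lib.T3
open scoped Cfsg.Lib.Transfer ComplexConjugate

theorem n9_x {G : Type*} [Group G] {γ : ℕ → G} (g : Gf n9 γ 0 []) : ∀ e ∈ genW γ (n9.ws 0), e ^ 3 = 1 →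
    e ∈ genW γ (n9.ws 1) ∨ ∃ k ∈ genW γ (n9.ws 0), k * γ 4 = e * k ∧ True :=
  g.tr (φ := .all 0 40 [] (.imp (.one (.pow (.l 40) 3)) (.or (.mem 1 (.l 40)) (.ex 0 41 [(.l 4, .l 40)] .tt))))
    (by decide +kernel)

variable {G : Type*} [Group G] [Finite G] {γ : ℕ → G} {x y k : G}

set_option hygiene false in
local notation "𝐚" => γ 1
set_option hygiene false in
local notation "𝐛" => γ 2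
set_option hygiene false in
local notation "𝐜" => γ 3
set_option hygiene false in
local notation "𝐱" => γ 4
set_option hygiene false in
local notation "𝐝" => γ 5
set_option hygiene false in
local notation "𝐬" => γ 6
set_option hygiene false in
local notation "𝐊" k:max => genW γ (n9.ws k)

omit [Finite G] in
theorem cj_comm' (h : x * y = y * x) : k * x * k⁻¹ * (k * y * k⁻¹) = k * y * k⁻¹ * (k * x * k⁻¹) := by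
  rw [conj_mul, conj_mul, h]

/-- the hypotheses -/
structure W9 (γ : ℕ → G) : Prop where
  g : Gf n9 γ 0 []
  cen : ∀ j ∈ genW γ (n9.ws 1), j ≠ 1 → 𝐂[j] ≤ genW γ (n9.ws 0)

namespace W9

variable (J : W9 γ)
include J

omit [Finite G] in
theorem cen' (n : ℕ) (a : x ^ n ∈ 𝐊 1) (b : x ^ n ≠ 1) {j : ℕ} (c : 𝐊 j ≤ 𝐂[x])
    (d : ∀ e ∈ 𝐊 0, e * x = x * e → e ∈ 𝐊 j) : 𝐂[x] = 𝐊 j :=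
  le_antisymm (fun e f => d e (J.cen _ a b (mcs ((show Commute e x from cms f).pow_right n).eq)) (cms f)) c

omit [Finite G] in
theorem pw (i : Fin 9) : ∃ n, rep9 γ i ^ n ∈ 𝐊 1 ∧ rep9 γ i ^ n ≠ 1 ∧ rep9 γ i ∈ 𝐊 0 := by
  have g := J.g
  refine ⟨![4, 4, 4, 4, 4, 3, 3, 4, 4] i, ?_⟩
  fin_cases i <;> simp only [rep9, Matrix.cons_val, Fin.reduceFinMk] <;> exact ⟨g.mem, g.ne, g.mem⟩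

omit [Finite G] in
theorem cens : 𝐂[𝐚] = 𝐊 2 ∧ 𝐂[𝐚 * 𝐛] = 𝐊 3 ∧ 𝐂[𝐚 * 𝐛 * 𝐜] = 𝐊 4 ∧ ∀ i, Nat.card 𝐂[rep9 γ i] = nc9 i := by
  have g := J.g
  obtain ⟨h0, h1, h2, h3, h4, h5, h6, h7, h8⟩ := (n9_cen g :)
  replace h2 := J.cen' 4 g.mem g.ne g.cen h2
  replace h3 := J.cen' 4 g.mem g.ne g.cen h3
  replace h4 := J.cen' 4 g.mem g.ne g.cen h4
  refine ⟨h2, h3, h4, fun i => ?_⟩
  fin_cases i <;> simp only [rep9, nc9, Matrix.cons_val, Fin.reduceFinMk]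
  exacts [J.cen' 4 g.mem g.ne g.cen h0 ▸ g.card 7, J.cen' 4 g.mem g.ne g.cen h1 ▸ g.card 7, h2 ▸ g.card 2, h3 ▸ g.card 3,
    h4 ▸ g.card 4, J.cen' 3 g.mem g.ne g.cen h5 ▸ g.card 5, J.cen' 3 g.mem g.ne g.cen h6 ▸ g.card 6,
    J.cen' 4 g.mem g.ne g.cen h7 ▸ g.card 7, J.cen' 4 g.mem g.ne g.cen h8 ▸ g.card 8]

theorem ti (a : x ∈ 𝐊 1) (b : x ≠ 1) (c : k * x * k⁻¹ ∈ 𝐊 1) : k ∈ 𝐊 0 := by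
  have cls : ∀ j ∈ 𝐊 1, j ≠ 1 → ∃ i : Fin 3, ∃ h ∈ 𝐊 0, h * rep9 γ (i.castAdd 4).succ.succ * h⁻¹ = j := fun j a b => by
    rcases (n9_cls J.g :) j a with e | ⟨h, m, e, -⟩ | ⟨h, m, e, -⟩ | ⟨h, m, e, -⟩
    exacts [absurd e b, ⟨0, h, m, cj_of e⟩, ⟨1, h, m, cj_of e⟩, ⟨2, h, m, cj_of e⟩]
  obtain ⟨i, p, m, rfl⟩ := cls x a b
  obtain ⟨j, q, n, e⟩ := cls _ c (by simpa using b)
  have f := card_centralizer_eq_of_isConj ((cjk q e).trans ((cjk p rfl).trans (cjk k rfl)).symm)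
  rw [J.cens.2.2.2, J.cens.2.2.2] at f
  obtain rfl : j = i := (by decide : ∀ j i : Fin 3, nc9 (j.castAdd 4).succ.succ = nc9 (i.castAdd 4).succ.succ → j = i) j i f
  generalize rep9 γ _ = r at *
  have := J.cen _ a b (x := k⁻¹ * q * p⁻¹) (mcs (calc
    _ = k⁻¹ * (q * r * q⁻¹) * (q * p⁻¹) := by group
    _ = _ := by rw [e]; group))
  exact inv_mem_iff.1 ((mul_mem_cancel_right n).1 ((mul_mem_cancel_right (inv_mem m)).1 this))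

theorem fus (n : ℕ) (a : x ^ n ∈ 𝐊 1) (b : x ^ n ≠ 1) (c : y ^ n ∈ 𝐊 1) (e : IsConj x y) :
    ∃ k ∈ 𝐊 0, k * x = y * k ∧ True := by
  obtain ⟨k, rfl⟩ := isConj_iff.1 e
  exact ⟨k, J.ti a b (by rwa [← conj_pow]), by simp, trivial⟩

theorem sc {a : G} (a3 : a ^ 3 = 1) (ma : a ∈ 𝐊 1) (h3 : ∀ e ∈ 𝐂[a], e ^ 3 = 1 → e ∈ 𝐊 1) (m : k * a * k⁻¹ ∈ 𝐊 0) :
    k * a * k⁻¹ ∈ 𝐊 1 := by
  have g := J.g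
  refine (n9_x g _ m (conj_cube a3 k)).resolve_right fun ⟨h, _, e, _⟩ => ?_
  have f : (h⁻¹ * k) * a * (h⁻¹ * k)⁻¹ = 𝐱 := by rw [← cjcj, ← cj_of e]; group
  generalize h⁻¹ * k = l at f
  have := J.ti (k := l⁻¹) (x := 𝐚 * 𝐛 * 𝐜) g.mem g.ne (h3 _ (mcs (by
    simpa [← f, mul_assoc] using cj_comm' (k := l⁻¹) (g.eq : 𝐚 * 𝐛 * 𝐜 * 𝐱 = 𝐱 * (𝐚 * 𝐛 * 𝐜)))) (conj_cube g.eq _))
  exact (g.nmem : 𝐱 ∉ 𝐊 1) (f ▸ conj_mem_of_norm ((g.norm 0 1 :) (inv_mem_iff.1 this)) ma)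

theorem nc {i j : Fin 9} (e : IsConj (rep9 γ i) (rep9 γ j)) : i = j := by
  have f := card_centralizer_eq_of_isConj e
  rw [J.cens.2.2.2, J.cens.2.2.2] at f
  obtain ⟨h1, h2, h3, h4⟩ := (n9_nc J.g :)
  have g := J.g
  have h : ∀ {x y} n, x ^ n ∈ 𝐊 1 → x ^ n ≠ 1 → y ^ n ∈ 𝐊 1 →
      (∀ e ∈ 𝐊 0, e * x = y * e → ¬ True) → ¬ IsConj x y := fun n a b c h e =>
    let ⟨k, p, q⟩ := J.fus n a b c e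
    h k p q.1 q.2
  replace h1 := h 4 g.mem g.ne g.mem h1
  replace h2 := h 4 g.mem g.ne g.mem h2
  replace h3 := h 4 g.mem g.ne g.mem h3
  replace h4 := h 3 g.mem g.ne g.mem h4
  rcases (by decide : ∀ i j, nc9 i = nc9 j → i = j ∨ i = 0 ∧ j = 1 ∨ i = 0 ∧ j = 7 ∨ i = 1 ∧ j = 7 ∨ i = 5 ∧ j = 6 ∨
    j = 0 ∧ i = 1 ∨ j = 0 ∧ i = 7 ∨ j = 1 ∧ i = 7 ∨ j = 5 ∧ i = 6) i j f with
    e | ⟨rfl, rfl⟩ | ⟨rfl, rfl⟩ | ⟨rfl, rfl⟩ | ⟨rfl, rfl⟩ | ⟨rfl, rfl⟩ | ⟨rfl, rfl⟩ | ⟨rfl, rfl⟩ | ⟨rfl, rfl⟩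
  exacts [e, absurd e h1, absurd e h2, absurd e h3, absurd e h4, absurd e.symm h1,
    absurd e.symm h2, absurd e.symm h3, absurd e.symm h4]

theorem syl : Syl 3 (𝐊 4) ⊤ := by
  have g := J.g
  have le : 𝐊 4 ≤ 𝐊 0 := g.le
  refine (Syl.mk' le (.of_card (n := 4) (g.card 4)) fun d => ?_).of_norm_le le_top fun n m =>
    J.ti (x := 𝐚) g.mem g.ne (J.sc g.eq g.mem (J.cens.1 ▸ (n9_3 g :).1) (le (conj_mem_of_norm m.2 g.mem)))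
  have := relIndex_mul_relIndex ⊥ _ _ bot_le le
  rw [relIndex_bot_left, relIndex_bot_left, g.card 4 (n := 81), g.card 0 (n := 648)] at this
  omega

theorem dich (χ : IrrCharacter G) (h : (χ : G → ℂ) (𝐚 * 𝐛 * 𝐜) = 0) (i : Fin 9) : (χ : G → ℂ) (rep9 γ i) = 0 := by
  obtain ⟨M, hM⟩ := Modular.exists_isPModular Nat.prime_three
  have := Modular.mk hM
  have g := J.g
  by_contra e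
  obtain ⟨n, a, b, -⟩ := J.pw i
  have p : IsPGroup 3 (𝐊 1) := .of_card (n := 3) (g.card 1)
  refine apply_ne_zero_of_mem_principalBlock (prin_of_ne (M := M) n e ?_ (fun y m => mcs (N9.comm g m a))
    ((J.cen _ a b).trans (g.norm 0 1)) p fun y m => (n9_C g :) y (J.cen 𝐚 g.mem g.ne (mcs (m _ g.mem).symm))
      (m _ g.mem).symm (m _ g.mem).symm (m _ g.mem).symm) ?_ h
  · rcases (n9_cls g :) _ a with e | ⟨h, m, e, -⟩ | ⟨h, m, e, -⟩ | ⟨h, m, e, -⟩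
    exacts [absurd e b, cj_of e ▸ conj_cube g.eq h, cj_of e ▸ conj_cube g.eq h, cj_of e ▸ conj_cube g.eq h]
  · rw [J.cens.2.2.1]
    simpa using J.syl.not_dvd'

theorem sol {a c : G} (a3 : a ^ 3 = 1) (c3 : c ^ 3 = 1) (ma : a ∈ 𝐊 1) (h3 : ∀ e ∈ 𝐂[a], e ^ 3 = 1 → e ∈ 𝐊 1) (m : c ∈ 𝐊 1)
    (n : c ≠ 1) (nc : IsConj a c⁻¹ → False) (hx : IsConj a x) (hy : IsConj a y) (e : x * y = c) :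
    x ∈ 𝐊 1 ∧ x⁻¹ * c ∈ 𝐊 1 := by
  obtain ⟨k, rfl⟩ := isConj_iff.1 hx
  obtain ⟨l, rfl⟩ := isConj_iff.1 hy
  suffices k * a * k⁻¹ ∈ 𝐊 1 from ⟨this, mul_mem (inv_mem this) m⟩
  rcases triangle_333 (conj_cube a3 k) (conj_cube a3 l) (e ▸ c3) with ⟨A, -, -, -, -, -, h⟩ | ⟨t, ht, h1, h2⟩
  · exact absurd (hx.trans (e ▸ h)) nc
  · have t1 := h3 (k⁻¹ * t * k⁻¹⁻¹) (mcs (calc
      _ = k⁻¹ * (t * (k * a * k⁻¹)) * k := by group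
      _ = _ := by rw [h1]; group)) (conj_cube (cube_of_orderOf ht) _)
    have t2 := J.sc (k := k⁻¹ * l) a3 ma h3 (J.cen _ t1 (mt conj_eq_one_iff.1 (ne_one_of_orderOf_three ht))
      (mcs (by rw [← cjcj]; exact cj_comm' h2.symm)))
    refine conj_mem_of_norm ((J.g.norm 0 1 :) (inv_mem_iff.1 (J.ti m n ?_))) ma
    convert mul_mem ma t2 using 1
    rw [← e]; group

set_option maxHeartbeats 1000000 in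
theorem top : 𝐊 0 = ⊤ := by
  classical
  letI := Fintype.ofFinite G
  have g := J.g
  have a3 : 𝐚 ^ 3 = 1 := g.eq
  have b3 : (𝐚 * 𝐛) ^ 3 = 1 := g.eq
  have c3 : (𝐚 * 𝐛 * 𝐜) ^ 3 = 1 := g.eq
  have ra : IsConj 𝐚 𝐚⁻¹ := cjk 𝐝 g.eq
  have rb : IsConj (𝐚 * 𝐛) (𝐚 * 𝐛)⁻¹ := cjk 𝐝 g.eq
  have rc : IsConj (𝐚 * 𝐛 * 𝐜) (𝐚 * 𝐛 * 𝐜)⁻¹ := cjk (𝐬 * 𝐝) g.eq
  obtain ⟨A, hA, A3⟩ := exists_int_col a3 ra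
  obtain ⟨B, hB, -⟩ := exists_int_col b3 rb
  obtain ⟨C, hC, -⟩ := exists_int_col c3 rc
  obtain ⟨M, hM, M3⟩ := exists_int_col9 (y := 𝐚 * 𝐱) g.eq g.ne (cjk (𝐬 * 𝐝 * 𝐚) g.eq)
  obtain ⟨N, hN, N3⟩ := exists_int_col9 (y := 𝐚⁻¹ * 𝐱) g.eq g.ne (cjk (𝐬 * 𝐝 * 𝐚⁻¹) g.eq)
  obtain ⟨E, hE⟩ := exists_int_col6 (y := (𝐚 * 𝐬 * 𝐱) ^ 2) (order_six g.eq g.ne g.ne) (cjk 𝐝 g.eq)
  obtain ⟨F, hF⟩ := exists_int_col6 (y := 𝐚 * 𝐛 * 𝐬) (order_six g.eq g.ne g.ne) (cjk 𝐝 g.eq)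
  have hζ := Complex.isPrimitiveRoot_exp 12 (by norm_num)
  generalize Complex.exp _ = ζ at hζ
  choose T U h0 h1 l1 l2 using fun χ : IrrCharacter G => mult12 hζ χ.2.isCharacter (g := 𝐚 * 𝐬 * 𝐱) g.eq (cjk 𝐝 g.eq)
    ((congrArg _ g.eq).trans (hA χ)) (hE χ)
  have z12 := hζ.pow_eq_one
  have z6 : ζ ^ 6 = -1 := (hζ.pow (by norm_num) (show 12 = 6 * 2 from rfl)).eq_neg_one_of_two_right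
  have z4 : ζ ^ 4 = ζ ^ 2 - 1 := mul_left_cancel₀ (fun e : ζ ^ 2 + 1 = 0 => hζ.pow_ne_one_of_pos_of_lt (l := 4) (by norm_num)
    (by norm_num) (by linear_combination (ζ ^ 2 - 1) * e)) (by linear_combination z6)
  have s2 : (ζ + ζ ^ 11) ^ 2 = 3 := by grind
  have sc : conj (ζ + ζ ^ 11) = ζ + ζ ^ 11 := by
    have : conj ζ = ζ ^ 11 := by
      rw [← Complex.inv_eq_conj (hζ.norm'_eq_one (by norm_num))]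
      exact inv_eq_of_mul_eq_one_right (by linear_combination z12)
    rw [map_add, map_pow, this]
    grind
  generalize ζ + ζ ^ 11 = s at *
  let v : IrrCharacter G → Fin 9 → ℤ := fun χ => ![T χ, U χ, A χ, B χ, C χ, M χ, N χ, E χ, F χ]
  have h2 : ∀ (k : Fin 7) (χ : IrrCharacter G), (χ : G → ℂ) (rep9 γ k.succ.succ) = v χ k.succ.succ := fun k => by
    fin_cases k
    exacts [hA, hB, hC, hM, hN, hE, hF]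
  have z : ∀ χ : IrrCharacter G, ∀ w, (χ : G → ℂ) (𝐚 * 𝐬 * 𝐱) = w → (χ : G → ℂ) ((𝐚 * 𝐬 * 𝐱) ^ 5) = w → T χ = w ∧ U χ = 0 :=
    fun χ w a b => by
      rw [h0] at a
      rw [h1] at b
      exact ⟨by linear_combination (a + b) / 2, Int.cast_eq_zero.1 (show (U χ : ℂ) = 0 by grind)⟩
  have c2 : Nat.card 𝐂[𝐚] = 108 := J.cens.2.2.2 2
  have c3' : Nat.card 𝐂[𝐚 * 𝐛] = 54 := J.cens.2.2.2 3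
  have le : 𝐊 1 ≤ 𝐊 0 := g.le
  have t1 := card_class_mul_col hA hA hB
  have t2 := card_class_mul_col hB hB hA
  have t3 := card_class_mul_col hB hB hC
  have fa : ∀ {y}, y ∈ 𝐊 1 → IsConj 𝐚 y → _ := fun m => J.fus 4 g.mem g.ne (pow_mem m 4)
  have fb : ∀ {y}, y ∈ 𝐊 1 → IsConj (𝐚 * 𝐛) y → _ := fun m => J.fus 4 g.mem g.ne (pow_mem m 4)
  have ea := J.cens.1 ▸ (n9_3 g :).1
  have eb := J.cens.2.1 ▸ (n9_3 g :).2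
  rw [c2, card_pairs_list [𝐚, 𝐛] (by simpa using g.ne) (fun x y a b e =>
    have m := J.sol a3 b3 g.mem ea g.mem g.ne (fun e => absurd (J.nc (i := 2) (j := 3) (e.trans rb.symm)) (by decide)) a b e
    by simpa using (n9_p1 g :) x m.1 (fa m.1 a) (fa m.2 (inv_mul_eq_of_eq_mul e.symm ▸ b)))
    (by simp only [List.forall_mem_cons]; exact ⟨⟨cjk 1 g.eq, cjk 𝐬 g.eq⟩, ⟨cjk 𝐬 g.eq, cjk 1 g.eq⟩, by simp⟩)] at t1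
  rw [c3', card_pairs_list [𝐚⁻¹ * 𝐛, 𝐚⁻¹ * 𝐛⁻¹, 𝐚⁻¹ * 𝐜, 𝐚⁻¹ * 𝐜⁻¹] (by
      simp only [List.nodup_cons, List.mem_cons, List.not_mem_nil, or_false, not_or, List.nodup_nil, not_false_eq_true, and_true]
      exact ⟨⟨g.ne, g.ne, g.ne⟩, ⟨g.ne, g.ne⟩, g.ne⟩) (fun x y a b e =>
    have m := J.sol b3 a3 g.mem eb g.mem g.ne (fun e => absurd (J.nc (i := 3) (j := 2) (e.trans ra.symm)) (by decide)) a b e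
    by simpa only [List.mem_cons, List.not_mem_nil, or_false] using
      (n9_p2 g :) x m.1 (fb m.1 a) (fb m.2 (inv_mul_eq_of_eq_mul e.symm ▸ b)))
    (by simp only [List.forall_mem_cons]; exact ⟨⟨cjk (𝐱 * 𝐬 * 𝐱) g.eq, cjk 𝐝 g.eq⟩, ⟨cjk 𝐝 g.eq, cjk (𝐱 * 𝐬 * 𝐱) g.eq⟩,
      ⟨cjk (𝐝 * 𝐱⁻¹) g.eq, cjk (𝐱⁻¹ * 𝐝) g.eq⟩, ⟨cjk (𝐱⁻¹ * 𝐝) g.eq, cjk (𝐝 * 𝐱⁻¹) g.eq⟩, by simp⟩)] at t2
  rw [c3', card_pairs_list [𝐚 * 𝐜⁻¹, 𝐛 * 𝐜⁻¹, 𝐛⁻¹ * 𝐜, 𝐚 * 𝐛⁻¹, 𝐚⁻¹ * 𝐛, 𝐚⁻¹ * 𝐜] (by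
      simp only [List.nodup_cons, List.mem_cons, List.not_mem_nil, or_false, not_or, List.nodup_nil, not_false_eq_true, and_true]
      exact ⟨⟨g.ne, g.ne, g.ne, g.ne, g.ne⟩, ⟨g.ne, g.ne, g.ne, g.ne⟩, ⟨g.ne, g.ne, g.ne⟩, ⟨g.ne, g.ne⟩, g.ne⟩) (fun x y a b e =>
    have m := J.sol b3 c3 g.mem eb g.mem g.ne (fun e => absurd (J.nc (i := 3) (j := 4) (e.trans rc.symm)) (by decide)) a b e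
    by simpa only [List.mem_cons, List.not_mem_nil, or_false] using
      (n9_p3 g :) x m.1 (fb m.1 a) (fb m.2 (inv_mul_eq_of_eq_mul e.symm ▸ b)))
    (by simp only [List.forall_mem_cons]; exact ⟨⟨cjk (𝐬 * 𝐱) g.eq, cjk (𝐬 * 𝐱⁻¹) g.eq⟩, ⟨cjk (𝐬 * 𝐱⁻¹) g.eq, cjk (𝐬 * 𝐱) g.eq⟩,
      ⟨cjk (𝐝 * 𝐱) g.eq, cjk (𝐱 * 𝐝 * 𝐱⁻¹) g.eq⟩, ⟨cjk (𝐱 * 𝐝 * 𝐱⁻¹) g.eq, cjk (𝐝 * 𝐱) g.eq⟩,
      ⟨cjk (𝐱 * 𝐬 * 𝐱) g.eq, cjk (𝐝 * 𝐱⁻¹) g.eq⟩, ⟨cjk (𝐝 * 𝐱⁻¹) g.eq, cjk (𝐱 * 𝐬 * 𝐱) g.eq⟩, by simp⟩)] at t3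
  simp only [List.length_cons, List.length_nil] at t1 t2 t3
  refine eq_top_of_card_eq _ ((g.card 0 (n := 648)).trans (Int.natCast_inj.1 (nine_num (x := v) (o := irrOne G)
    (D := fun χ => charDegree (χ : G → ℂ)) ?_ (gram9 (y := fun χ k => (χ : G → ℂ) (rep9 γ k)) s2 sc h0 h1 (fun χ k => h2 k χ)
      fun k l => ?_) (fun χ e => ?_) (fun χ => ?_)
    (fun k => sum_col_degree (h2 k) fun e => by obtain ⟨n, -, b, -⟩ := J.pw k.succ.succ; simp [e] at b)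
    (by exact_mod_cast sum_charDegree_sq G) (by push_cast at t1 ⊢; simp only [v, Matrix.cons_val]; linarith)
    (by push_cast at t2 ⊢; simp only [v, Matrix.cons_val]; linarith)
    (by push_cast at t3 ⊢; simp only [v, Matrix.cons_val]; linarith)).symm))
  · obtain ⟨a, b⟩ := z (irrOne G) 1 (irrOne_apply _) (irrOne_apply _)
    simp only [v, col_one hA, col_one hB, col_one hC, col_one hM, col_one hN, col_one hE, col_one hF, b,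
      show T (irrOne G) = 1 by exact_mod_cast a]
    rfl
  · split_ifs with e
    · rw [← e, sum_irr_mul_conj_of_isConj (.refl _), J.cens.2.2.2]
    · exact sum_irr_mul_conj_of_not_isConj fun f => e (J.nc f)
  · have d := J.dich χ ((hC χ).trans (Int.cast_eq_zero.2 e))
    obtain ⟨a, b⟩ := z χ 0 (d 0) (d 1)
    exact funext (Fin.forall_fin_succ.2 ⟨Int.cast_eq_zero.1 a, Fin.forall_fin_succ.2 ⟨b, fun k =>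
      Int.cast_eq_zero.1 ((h2 k χ).symm.trans (d _))⟩⟩)
  · have hχ := χ.2.isCharacter
    have cl : ∀ y x k : G, k * x * k⁻¹ = y → (χ : G → ℂ) y = (χ : G → ℂ) x := fun y x k e =>
      (hχ.isClassFunction.eq_of_isConj (cjk k e)).symm
    have e1 := Small.card_mul_fixDim (A := 𝐊 1) hχ
    have e2 := Small.card_mul_fixDim (A := 𝐊 9) hχ
    rw [sum_list [γ 0, 𝐜, 𝐜⁻¹, 𝐛, 𝐛 * 𝐜, 𝐛 * 𝐜⁻¹, 𝐛⁻¹, 𝐛⁻¹ * 𝐜, 𝐛⁻¹ * 𝐜⁻¹, 𝐚, 𝐚 * 𝐜, 𝐚 * 𝐜⁻¹, 𝐚 * 𝐛, 𝐚 * 𝐛 * 𝐜,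
      𝐚 * 𝐛 * 𝐜⁻¹, 𝐚 * 𝐛⁻¹, 𝐚 * 𝐛⁻¹ * 𝐜, 𝐚 * 𝐛⁻¹ * 𝐜⁻¹, 𝐚⁻¹, 𝐚⁻¹ * 𝐜, 𝐚⁻¹ * 𝐜⁻¹, 𝐚⁻¹ * 𝐛, 𝐚⁻¹ * 𝐛 * 𝐜, 𝐚⁻¹ * 𝐛 * 𝐜⁻¹,
      𝐚⁻¹ * 𝐛⁻¹, 𝐚⁻¹ * 𝐛⁻¹ * 𝐜, 𝐚⁻¹ * 𝐛⁻¹ * 𝐜⁻¹]
      (by simpa only [List.mem_cons, List.not_mem_nil, or_false] using (n9_J g :)) (g.card 1 (n := 27)),
      g.card 1 (n := 27)] at e1
    rw [sum_list [γ 0, 𝐜, 𝐜⁻¹, 𝐛, 𝐛 * 𝐜, 𝐛 * 𝐜⁻¹, 𝐛⁻¹, 𝐛⁻¹ * 𝐜, 𝐛⁻¹ * 𝐜⁻¹]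
      (by simpa only [List.mem_cons, List.not_mem_nil, or_false] using (n9_B g :)) (g.card 9 (n := 9)),
      g.card 9 (n := 9)] at e2
    simp only [List.map_cons, List.map_nil, List.sum_cons, List.sum_nil, g.zero, χ.2.apply_one_eq,
      cl 𝐜 𝐚 (𝐱⁻¹) g.eq, cl (𝐜⁻¹) 𝐚 (𝐬 * 𝐱⁻¹) g.eq, cl 𝐛 𝐚 𝐬 g.eq, cl (𝐛 * 𝐜) (𝐚 * 𝐛) 𝐱 g.eq,
      cl (𝐛 * 𝐜⁻¹) (𝐚 * 𝐛) (𝐬 * 𝐱⁻¹) g.eq, cl (𝐛⁻¹) 𝐚 (𝐬 * 𝐝) g.eq, cl (𝐛⁻¹ * 𝐜) (𝐚 * 𝐛) (𝐝 * 𝐱) g.eq,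
      cl (𝐛⁻¹ * 𝐜⁻¹) (𝐚 * 𝐛) (𝐱 * 𝐝) g.eq, cl (𝐚 * 𝐜) (𝐚 * 𝐛) (𝐱⁻¹) g.eq, cl (𝐚 * 𝐜⁻¹) (𝐚 * 𝐛) (𝐬 * 𝐱) g.eq,
      cl (𝐚 * 𝐛 * 𝐜⁻¹) (𝐚 * 𝐛 * 𝐜) 𝐬 g.eq, cl (𝐚 * 𝐛⁻¹) (𝐚 * 𝐛) (𝐱 * 𝐝 * 𝐱⁻¹) g.eq,
      cl (𝐚 * 𝐛⁻¹ * 𝐜) (𝐚 * 𝐛 * 𝐜) (𝐱⁻¹ * 𝐬) g.eq, cl (𝐚 * 𝐛⁻¹ * 𝐜⁻¹) (𝐚 * 𝐛 * 𝐜) (𝐱 * 𝐝) g.eq,
      cl (𝐚⁻¹) 𝐚 𝐝 g.eq, cl (𝐚⁻¹ * 𝐜) (𝐚 * 𝐛) (𝐝 * 𝐱⁻¹) g.eq, cl (𝐚⁻¹ * 𝐜⁻¹) (𝐚 * 𝐛) (𝐱⁻¹ * 𝐝) g.eq,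
      cl (𝐚⁻¹ * 𝐛) (𝐚 * 𝐛) (𝐱 * 𝐬 * 𝐱) g.eq, cl (𝐚⁻¹ * 𝐛 * 𝐜) (𝐚 * 𝐛 * 𝐜) (𝐱 * 𝐬) g.eq,
      cl (𝐚⁻¹ * 𝐛 * 𝐜⁻¹) (𝐚 * 𝐛 * 𝐜) (𝐱⁻¹ * 𝐝) g.eq, cl (𝐚⁻¹ * 𝐛⁻¹) (𝐚 * 𝐛) 𝐝 g.eq,
      cl (𝐚⁻¹ * 𝐛⁻¹ * 𝐜) (𝐚 * 𝐛 * 𝐜) 𝐝 g.eq, cl (𝐚⁻¹ * 𝐛⁻¹ * 𝐜⁻¹) (𝐚 * 𝐛 * 𝐜) (𝐬 * 𝐝) g.eq,
      hA, hB, hC] at e1 e2
    norm_cast at e1 e2
    have := dvd_sub_of_comm hχ Nat.prime_two (g.eq : 𝐬 ^ 2 = 1) (y := 𝐚 * 𝐛) g.eq ((congrArg _ g.eq).trans (hF χ)) (hB χ)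
    have := A3 χ
    have := M3 χ
    have := N3 χ
    have := l1 χ
    have := l2 χ
    simp only [v, Matrix.cons_val]
    omega

end W9

end Cfsg.Lib.Loc3
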