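import Cfsg.Agent.Lib.Loc3.Gen7
import Cfsg.Agent.Lib.IA.G3B

/-! Facts on the centraliser of an involution of `G₂(3)` (helper8). -/

set_option autoImplicit false
set_option maxRecDepth 100000

namespace Cfsg.Lib.Loc3.G2

open Subgroup Cfsg.Lib.BG Cfsg.Lib.Transfer Cfsg.Lib.OddChar Cfsg.Lib.Calc Cfsg.Lib.Grp Cfsg.Lib.T2 Cfsg.Lib.T3 Cfsg.Lib.IA
open scoped Cfsg.Lib.Transfer

theorem g3_soc : ∀ e ∈ genW g3.gam (g3.ws 0), e = 1 ∨ e = g3.gam 5 ∨ (∃ l ∈ genW g3.gam (g3.ws 0), l * e = g3.gam 5 * e * l ∧ True) ∨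
    ∃ k ∈ genW g3.gam (g3.ws 0), ∃ l ∈ genW g3.gam (g3.ws 0), l * (k * e * k⁻¹ * e⁻¹) = g3.gam 5 * (k * e * k⁻¹ * e⁻¹) * l ∧ True :=
  g3_ok.holds (φ := .all 0 40 [] (.or (.one (.l 40)) (.or (.eq (.l 40) (.l 5)) (.or (.ex 0 41 [(.l 40, .mul (.l 5) (.l 40))] .tt)
    (.ex 0 41 [] (.ex 0 42 [(.mul (.mul (.mul (.l 41) (.l 40)) (.inv (.l 41))) (.inv (.l 40)),
      .mul (.l 5) (.mul (.mul (.mul (.l 41) (.l 40)) (.inv (.l 41))) (.inv (.l 40))))] .tt)))))) (by decide +kernel)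

variable {G : Type*} [Group G] {γ : ℕ → G}

section
variable (g : Gf g3 γ 0 [])
include g

theorem f_cls : ∀ e ∈ genW γ (g3.ws 0), e * e = 1 → (e = 1 ∨ e = γ 5 ∨ ∃ f ∈ genW γ (g3.ws 0), f * γ 1 = e * f ∧ True) ∨
    e ∉ genW γ (g3.ws 8) ∧ ∃ f ∈ genW γ (g3.ws 0), f * γ 7 = e * f ∧ True :=
  g.transfer (φ := .all 0 40 [] (.imp (.one (.mul (.l 40) (.l 40))) (.or (.or (.one (.l 40)) (.or (.eq (.l 40) (.l 5))
    (.ex 0 41 [(.l 1, .l 40)] .tt))) (.and (.not (.mem 8 (.l 40))) (.ex 0 41 [(.l 7, .l 40)] .tt))))) (by decide +kernel)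
    (by decide +kernel)

theorem f_out : ∀ e ∈ genW γ (g3.ws 0), e * γ 7 = γ 7 * e → e * e = 1 ∧ (e ∈ genW γ (g3.ws 8) ∨
    ∃ f ∈ genW γ (g3.ws 0), f * γ 7 = e * f ∧ True) :=
  g.transfer (φ := .all 0 40 [(.l 7, .l 7)] (.and (.one (.mul (.l 40) (.l 40))) (.or (.mem 8 (.l 40))
    (.ex 0 41 [(.l 7, .l 40)] .tt)))) (by decide +kernel) (by decide +kernel)

theorem f_two : ∀ p ∈ genW γ (g3.ws 0), p * p = 1 → ∀ q ∈ genW γ (g3.ws 0), q * p = p * q → q * q = 1 →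
    p ∈ genW γ (g3.ws 8) ∨ q ∈ genW γ (g3.ws 8) ∨ p * q * γ 5 ∈ genW γ (g3.ws 8) :=
  g.transfer (φ := .all 0 40 [] (.imp (.one (.mul (.l 40) (.l 40))) (.all 0 41 [(.l 40, .l 40)] (.imp (.one (.mul (.l 41) (.l 41)))
    (.or (.mem 8 (.l 40)) (.or (.mem 8 (.l 41)) (.mem 8 (.mul (.mul (.l 40) (.l 41)) (.l 5))))))))) (by decide +kernel)
    (by decide +kernel)

theorem f_cm : ∀ p ∈ genW γ (g3.ws 0), p * γ 1 = γ 1 * p → p * p = 1 → ∀ q ∈ genW γ (g3.ws 0), q * γ 1 = γ 1 * q → q * q = 1 →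
    p * q = γ 1 * q * p → p ∈ genW γ (g3.ws 8) ∨ γ 5 * q * γ 1 ∈ genW γ (g3.ws 8) :=
  g.transfer (φ := .all 0 40 [(.l 1, .l 1)] (.imp (.one (.mul (.l 40) (.l 40))) (.all 0 41 [(.l 1, .l 1)]
    (.imp (.one (.mul (.l 41) (.l 41))) (.imp (.eq (.mul (.l 40) (.l 41)) (.mul (.mul (.l 1) (.l 41)) (.l 40)))
    (.or (.mem 8 (.l 40)) (.mem 8 (.mul (.mul (.l 5) (.l 41)) (.l 1))))))))) (by decide +kernel) (by decide +kernel)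

theorem f_ex : ∀ f ∈ genW γ (g3.ws 8), f * γ 1 = γ 1 * f → f * f = 1 → f = γ 1 ∨ f = γ 1 * γ 5 ∨
    ∃ e ∈ genW γ (g3.ws 8), e * f = f * e ∧ e * γ 1 = γ 1 * γ 5 * e ∧ e * e = 1 :=
  g.transfer (φ := .all 8 40 [(.l 1, .l 1)] (.imp (.one (.mul (.l 40) (.l 40))) (.or (.eq (.l 40) (.l 1))
    (.or (.eq (.l 40) (.mul (.l 1) (.l 5))) (.ex 8 41 [(.l 40, .l 40), (.l 1, .mul (.l 1) (.l 5))] (.one (.mul (.l 41) (.l 41))))))))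
    (by decide +kernel) (by decide +kernel)

end

end Cfsg.Lib.Loc3.G2
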