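import Cfsg.Agent.Lib.T3.Gf

/-! The group `3³ : S₄` on 9 points (generated data, helper8). -/

set_option autoImplicit false
set_option maxRecDepth 1000000
set_option maxHeartbeats 0

namespace Cfsg.Lib.Loc3

open Cfsg.Lib.Calc Cfsg.Lib.Grp Cfsg.Lib.T2 Cfsg.Lib.T3

def n9_L0 : List (ℕ × List ℕ) := [((nat_lit 0), [(nat_lit 36344967696), (nat_lit 36344967201), (nat_lit 8867243331), (nat_lit 36344967426), (nat_lit 22601074806), (nat_lit 8867242836), (nat_lit 22601074311), (nat_lit 8867243061), (nat_lit 22601074536)]),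
  ((nat_lit 3), [(nat_lit 36344967696), (nat_lit 22607720976), (nat_lit 36342940176), (nat_lit 22356124176), (nat_lit 36343861776), (nat_lit 22605693456)]),
  ((nat_lit 6), [(nat_lit 36344967696), (nat_lit 28040245776), (nat_lit 31815119376)]),
  ((nat_lit 1), [(nat_lit 36344967696), (nat_lit 36343984416)]),
  ((nat_lit 4), [(nat_lit 36344967696), (nat_lit 32317452816)])]

def n9_D0 : List ℕ := [(nat_lit 0), (nat_lit 513), (nat_lit 2049), (nat_lit 769), (nat_lit 2305), (nat_lit 100354), (nat_lit 108802), (nat_lit 130306), (nat_lit 155906), (nat_lit 0), (nat_lit 159746), (nat_lit 1025), (nat_lit 131330), (nat_lit 1281), (nat_lit 18259971), (nat_lit 0), (nat_lit 18473731), (nat_lit 20124419), (nat_lit 0), (nat_lit 7158019), (nat_lit 0), (nat_lit 4819538754822)]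

def n9_L1 : List (ℕ × List ℕ) := [((nat_lit 0), [(nat_lit 36344967696), (nat_lit 36344967201), (nat_lit 36344967426)]),
  ((nat_lit 3), [(nat_lit 36344967696), (nat_lit 36342940176), (nat_lit 36343861776)]),
  ((nat_lit 6), [(nat_lit 36344967696), (nat_lit 28040245776), (nat_lit 31815119376)])]

def n9_D1 : List ℕ := [(nat_lit 0), (nat_lit 513), (nat_lit 769), (nat_lit 0), (nat_lit 1025), (nat_lit 1281), (nat_lit 0), (nat_lit 1537), (nat_lit 1793)]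

def n9_L2 : List (ℕ × List ℕ) := [((nat_lit 0), [(nat_lit 36344967696), (nat_lit 36344967201), (nat_lit 36344967426)]),
  ((nat_lit 3), [(nat_lit 36344967696), (nat_lit 22607720976), (nat_lit 36342940176), (nat_lit 22356124176), (nat_lit 36343861776), (nat_lit 22605693456)]),
  ((nat_lit 6), [(nat_lit 36344967696), (nat_lit 28040245776), (nat_lit 31815119376)]),
  ((nat_lit 4), [(nat_lit 36344967696), (nat_lit 32317452816)])]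

def n9_D2 : List ℕ := [(nat_lit 0), (nat_lit 513), (nat_lit 769), (nat_lit 0), (nat_lit 2049), (nat_lit 1025), (nat_lit 2305), (nat_lit 1281), (nat_lit 161794), (nat_lit 0), (nat_lit 4182787), (nat_lit 4764419), (nat_lit 0), (nat_lit 217846532)]

def n9_L3 : List (ℕ × List ℕ) := [((nat_lit 0), [(nat_lit 36344967696), (nat_lit 36344967201), (nat_lit 36089955651), (nat_lit 36344967426), (nat_lit 36089955156), (nat_lit 36089955381)]),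
  ((nat_lit 3), [(nat_lit 36344967696), (nat_lit 36342940176), (nat_lit 36343861776)]),
  ((nat_lit 6), [(nat_lit 36344967696), (nat_lit 28040245776), (nat_lit 31815119376)])]

def n9_D3 : List ℕ := [(nat_lit 0), (nat_lit 513), (nat_lit 2049), (nat_lit 769), (nat_lit 57346), (nat_lit 72962), (nat_lit 0), (nat_lit 1025), (nat_lit 1281), (nat_lit 0), (nat_lit 1537), (nat_lit 1793)]

def n9_L4 : List (ℕ × List ℕ) := [((nat_lit 0), [(nat_lit 36344967696), (nat_lit 36344967201), (nat_lit 8867243331), (nat_lit 36344967426), (nat_lit 22601074806), (nat_lit 8867242836), (nat_lit 22601074311), (nat_lit 8867243061), (nat_lit 22601074536)]),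
  ((nat_lit 3), [(nat_lit 36344967696), (nat_lit 36342940176), (nat_lit 36343861776)]),
  ((nat_lit 6), [(nat_lit 36344967696), (nat_lit 28040245776), (nat_lit 31815119376)])]

def n9_D4 : List ℕ := [(nat_lit 0), (nat_lit 513), (nat_lit 2049), (nat_lit 769), (nat_lit 2305), (nat_lit 63490), (nat_lit 69890), (nat_lit 87298), (nat_lit 108802), (nat_lit 0), (nat_lit 1025), (nat_lit 1281), (nat_lit 0), (nat_lit 1537), (nat_lit 1793)]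

def n9_L5 : List (ℕ × List ℕ) := [((nat_lit 0), [(nat_lit 36344967696), (nat_lit 562521411), (nat_lit 22601074536), (nat_lit 14294325366), (nat_lit 8866137141), (nat_lit 28038217761), (nat_lit 31814013186), (nat_lit 4335366996), (nat_lit 18070120071)])]

def n9_D5 : List ℕ := [(nat_lit 0), (nat_lit 513), (nat_lit 769), (nat_lit 15874), (nat_lit 25346), (nat_lit 36354), (nat_lit 49922), (nat_lit 65026), (nat_lit 82690)]

def n9_L6 : List (ℕ × List ℕ) := [((nat_lit 0), [(nat_lit 36344967696), (nat_lit 4337395011), (nat_lit 22601074311), (nat_lit 18070120566), (nat_lit 8865215316), (nat_lit 31814013186), (nat_lit 28038217761), (nat_lit 561415221), (nat_lit 14294325096)])]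

def n9_D6 : List ℕ := [(nat_lit 0), (nat_lit 513), (nat_lit 769), (nat_lit 15874), (nat_lit 25346), (nat_lit 36354), (nat_lit 49922), (nat_lit 65026), (nat_lit 82690)]

def n9_L7 : List (ℕ × List ℕ) := [((nat_lit 0), [(nat_lit 36344967696), (nat_lit 22607720481), (nat_lit 22356123906)]),
  ((nat_lit 3), [(nat_lit 36344967696), (nat_lit 22356124176), (nat_lit 22607720976), (nat_lit 36093248016)])]

def n9_D7 : List ℕ := [(nat_lit 0), (nat_lit 513), (nat_lit 769), (nat_lit 0), (nat_lit 229635), (nat_lit 413955), (nat_lit 12986628)]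

def n9_L8 : List (ℕ × List ℕ) := [((nat_lit 0), [(nat_lit 36344967696), (nat_lit 36087927636), (nat_lit 36088849461), (nat_lit 36343861506), (nat_lit 36342939681), (nat_lit 36089955651)])]

def n9_D8 : List ℕ := [(nat_lit 0), (nat_lit 513), (nat_lit 769), (nat_lit 15874), (nat_lit 25346), (nat_lit 36354)]

def n9_L9 : List (ℕ × List ℕ) := [((nat_lit 3), [(nat_lit 36344967696), (nat_lit 36342940176), (nat_lit 36343861776)]),
  ((nat_lit 6), [(nat_lit 36344967696), (nat_lit 28040245776), (nat_lit 31815119376)])]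

def n9_D9 : List ℕ := [(nat_lit 0), (nat_lit 513), (nat_lit 769), (nat_lit 0), (nat_lit 1025), (nat_lit 1281)]

def n9 : PM :=
  ⟨(nat_lit 9), (nat_lit 4), [(nat_lit 36344967201), (nat_lit 36342940176), (nat_lit 28040245776), (nat_lit 8867243331), (nat_lit 36344906241), (nat_lit 36089955651)],
    [[.l 1, .l 2, .l 3, .l 4, .l 5, .l 6],
    [.l 1, .l 2, .l 3],
    [.l 1, .l 2, .l 3, .mul (.l 6) (.l 4)],
    [.l 1, .l 2, .l 3, .l 6],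
    [.l 1, .l 2, .l 3, .l 4],
    [.mul (.l 1) (.l 4)],
    [.mul (.inv (.l 1)) (.l 4)],
    [.mul (.mul (.l 1) (.l 6)) (.l 4)],
    [.mul (.mul (.l 1) (.l 2)) (.l 6)],
    [.l 2, .l 3]],
    [n9_L0, n9_L1, n9_L2, n9_L3, n9_L4, n9_L5, n9_L6, n9_L7, n9_L8, n9_L9], [n9_D0, n9_D1, n9_D2, n9_D3, n9_D4, n9_D5, n9_D6, n9_D7, n9_D8, n9_D9]⟩

instance n9_ne : NeZero n9.n := ⟨by decide⟩

theorem n9_ok0 : n9.ok0 = true := by decide +kernel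

theorem n9_k0 : allFrom (nat_lit 0) (nat_lit 1) n9.okK = true := by decide +kernel

theorem n9_k1 : allFrom (nat_lit 1) (nat_lit 1) n9.okK = true := by decide +kernel

theorem n9_k2 : allFrom (nat_lit 2) (nat_lit 1) n9.okK = true := by decide +kernel

theorem n9_k3 : allFrom (nat_lit 3) (nat_lit 1) n9.okK = true := by decide +kernel

theorem n9_k4 : allFrom (nat_lit 4) (nat_lit 1) n9.okK = true := by decide +kernel

theorem n9_k5 : allFrom (nat_lit 5) (nat_lit 1) n9.okK = true := by decide +kernel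

theorem n9_k6 : allFrom (nat_lit 6) (nat_lit 1) n9.okK = true := by decide +kernel

theorem n9_k7 : allFrom (nat_lit 7) (nat_lit 1) n9.okK = true := by decide +kernel

theorem n9_k8 : allFrom (nat_lit 8) (nat_lit 1) n9.okK = true := by decide +kernel

theorem n9_k9 : allFrom (nat_lit 9) (nat_lit 1) n9.okK = true := by decide +kernel

theorem n9_ok : n9.OK := PM.OK.of_check n9_ok0
  (of_allFrom_append (of_allFrom_append (of_allFrom_append (of_allFrom_append (of_allFrom_append (of_allFrom_append (of_allFrom_append (of_allFrom_append (of_allFrom_append (of_allFrom_append of_lt_zero n9_k0) n9_k1) n9_k2) n9_k3) n9_k4) n9_k5) n9_k6) n9_k7) n9_k8) n9_k9)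

theorem n9_card0 : Nat.card (genW n9.gam (n9.ws 0)) = 648 := (n9_ok.card 0).trans (by decide +kernel)

theorem n9_card1 : Nat.card (genW n9.gam (n9.ws 1)) = 27 := (n9_ok.card 1).trans (by decide +kernel)

theorem n9_card2 : Nat.card (genW n9.gam (n9.ws 2)) = 108 := (n9_ok.card 2).trans (by decide +kernel)

theorem n9_card3 : Nat.card (genW n9.gam (n9.ws 3)) = 54 := (n9_ok.card 3).trans (by decide +kernel)

theorem n9_card4 : Nat.card (genW n9.gam (n9.ws 4)) = 81 := (n9_ok.card 4).trans (by decide +kernel)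

theorem n9_card5 : Nat.card (genW n9.gam (n9.ws 5)) = 9 := (n9_ok.card 5).trans (by decide +kernel)

theorem n9_card6 : Nat.card (genW n9.gam (n9.ws 6)) = 9 := (n9_ok.card 6).trans (by decide +kernel)

theorem n9_card7 : Nat.card (genW n9.gam (n9.ws 7)) = 12 := (n9_ok.card 7).trans (by decide +kernel)

theorem n9_card8 : Nat.card (genW n9.gam (n9.ws 8)) = 6 := (n9_ok.card 8).trans (by decide +kernel)

theorem n9_card9 : Nat.card (genW n9.gam (n9.ws 9)) = 9 := (n9_ok.card 9).trans (by decide +kernel)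

/-- a formula -/
def n9_cen_f : Fm := .and (.all 0 40 [(.mul (.mul (.l 1) (.l 6)) (.l 4), .mul (.mul (.l 1) (.l 6)) (.l 4))] (.mem 7 (.l 40))) (.and (.all 0 40 [(.pow (.mul (.mul (.l 1) (.l 6)) (.l 4)) 5, .pow (.mul (.mul (.l 1) (.l 6)) (.l 4)) 5)] (.mem 7 (.l 40))) (.and (.all 0 40 [(.l 1, .l 1)] (.mem 2 (.l 40))) (.and (.all 0 40 [(.mul (.l 1) (.l 2), .mul (.l 1) (.l 2))] (.mem 3 (.l 40))) (.and (.all 0 40 [(.mul (.mul (.l 1) (.l 2)) (.l 3), .mul (.mul (.l 1) (.l 2)) (.l 3))] (.mem 4 (.l 40))) (.and (.all 0 40 [(.mul (.l 1) (.l 4), .mul (.l 1) (.l 4))] (.mem 5 (.l 40))) (.and (.all 0 40 [(.mul (.inv (.l 1)) (.l 4), .mul (.inv (.l 1)) (.l 4))] (.mem 6 (.l 40))) (.and (.all 0 40 [(.pow (.mul (.mul (.l 1) (.l 6)) (.l 4)) 2, .pow (.mul (.mul (.l 1) (.l 6)) (.l 4)) 2)] (.mem 7 (.l 40))) (.all 0 40 [(.mul (.mul (.l 1) (.l 2)) (.l 6), .mul (.mul (.l 1)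 (.l 2)) (.l 6))] (.mem 8 (.l 40))))))))))

theorem n9_cen_ev : n9.eval n9_cen_f = true := by decide +kernel

theorem n9_cen {G : Type*} [Group G] {γ : ℕ → G} {k : ℕ} {N : List W} (g : Gf n9 γ k N)
    (e : tyB n9 k N n9_cen_f = true := by decide +kernel) :
    (∀ e ∈ genW γ (n9.ws 0), e * (γ 1 * γ 6 * γ 4) = γ 1 * γ 6 * γ 4 * e → e ∈ genW γ (n9.ws 7)) ∧ (∀ e ∈ genW γ (n9.ws 0), e * (γ 1 * γ 6 * γ 4) ^ 5 = (γ 1 * γ 6 * γ 4) ^ 5 * e → e ∈ genW γ (n9.ws 7)) ∧ (∀ e ∈ genW γ (n9.ws 0), e * γ 1 = γ 1 * e → e ∈ genW γ (n9.ws 2)) ∧ (∀ e ∈ genW γ (n9.ws 0), e * (γ 1 * γ 2) = γ 1 * γ 2 * e → e ∈ genW γ (n9.ws 3)) ∧ (∀ e ∈ genW γ (n9.ws 0), e * (γ 1 * γ 2 * γ 3) = γ 1 * γ 2 * γ 3 * e → e ∈ genW γ (n9.ws 4)) ∧ (∀ e ∈ genW γ (n9.ws 0), e * (γ 1 * γ 4) = γ 1 * γ 4 * e → e ∈ genW γ (n9.ws 5)) ∧ (∀ e ∈ genW γ (n9.ws 0), e * ((γ 1)⁻¹ * γ 4) = (γ 1)⁻¹ * γ 4 * e → e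 ∈ genW γ (n9.ws 6)) ∧ (∀ e ∈ genW γ (n9.ws 0), e * (γ 1 * γ 6 * γ 4) ^ 2 = (γ 1 * γ 6 * γ 4) ^ 2 * e → e ∈ genW γ (n9.ws 7)) ∧ (∀ e ∈ genW γ (n9.ws 0), e * (γ 1 * γ 2 * γ 6) = γ 1 * γ 2 * γ 6 * e → e ∈ genW γ (n9.ws 8)) :=
  g.transfer e n9_cen_ev

/-- a formula -/
def n9_nc_f : Fm := .and (.all 0 40 [(.mul (.mul (.l 1) (.l 6)) (.l 4), .pow (.mul (.mul (.l 1) (.l 6)) (.l 4)) 5)] (.not (.tt))) (.and (.all 0 40 [(.mul (.mul (.l 1) (.l 6)) (.l 4), .pow (.mul (.mul (.l 1) (.l 6)) (.l 4)) 2)] (.not (.tt))) (.and (.all 0 40 [(.pow (.mul (.mul (.l 1) (.l 6)) (.l 4)) 5, .pow (.mul (.mul (.l 1) (.l 6)) (.l 4)) 2)] (.not (.tt))) (.all 0 40 [(.mul (.l 1) (.l 4), .mul (.inv (.l 1)) (.l 4))] (.not (.tt)))))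

theorem n9_nc_ev : n9.eval n9_nc_f = true := by decide +kernel

theorem n9_nc {G : Type*} [Group G] {γ : ℕ → G} {k : ℕ} {N : List W} (g : Gf n9 γ k N)
    (e : tyB n9 k N n9_nc_f = true := by decide +kernel) :
    (∀ e ∈ genW γ (n9.ws 0), e * (γ 1 * γ 6 * γ 4) = (γ 1 * γ 6 * γ 4) ^ 5 * e → ¬ True) ∧ (∀ e ∈ genW γ (n9.ws 0), e * (γ 1 * γ 6 * γ 4) = (γ 1 * γ 6 * γ 4) ^ 2 * e → ¬ True) ∧ (∀ e ∈ genW γ (n9.ws 0), e * (γ 1 * γ 6 * γ 4) ^ 5 = (γ 1 * γ 6 * γ 4) ^ 2 * e → ¬ True) ∧ (∀ e ∈ genW γ (n9.ws 0), e * (γ 1 * γ 4) = (γ 1)⁻¹ * γ 4 * e → ¬ True) :=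
  g.transfer e n9_nc_ev

/-- a formula -/
def n9_cls_f : Fm := .all 1 40 [] (.or (.one (.l 40)) (.or (.ex 0 41 [(.l 1, .l 40)] (.tt)) (.or (.ex 0 41 [(.mul (.l 1) (.l 2), .l 40)] (.tt)) (.ex 0 41 [(.mul (.mul (.l 1) (.l 2)) (.l 3), .l 40)] (.tt)))))

theorem n9_cls_ev : n9.eval n9_cls_f = true := by decide +kernel

theorem n9_cls {G : Type*} [Group G] {γ : ℕ → G} {k : ℕ} {N : List W} (g : Gf n9 γ k N)
    (e : tyB n9 k N n9_cls_f = true := by decide +kernel) :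
    ∀ j ∈ genW γ (n9.ws 1), j = 1 ∨ (∃ k ∈ genW γ (n9.ws 0), k * γ 1 = j * k ∧ True) ∨ (∃ k ∈ genW γ (n9.ws 0), k * (γ 1 * γ 2) = j * k ∧ True) ∨ (∃ k ∈ genW γ (n9.ws 0), k * (γ 1 * γ 2 * γ 3) = j * k ∧ True) :=
  g.transfer e n9_cls_ev

/-- a formula -/
def n9_J_f : Fm := .all 1 40 [] (.or (.eq (.l 40) (.l 0)) (.or (.eq (.l 40) (.l 3)) (.or (.eq (.l 40) (.inv (.l 3))) (.or (.eq (.l 40) (.l 2)) (.or (.eq (.l 40) (.mul (.l 2) (.l 3))) (.or (.eq (.l 40) (.mul (.l 2) (.inv (.l 3)))) (.or (.eq (.l 40) (.inv (.l 2))) (.or (.eq (.l 40) (.mul (.inv (.l 2)) (.l 3))) (.or (.eq (.l 40) (.mul (.inv (.l 2)) (.inv (.l 3)))) (.or (.eq (.l 40) (.l 1)) (.or (.eq (.l 40) (.mul (.l 1) (.l 3))) (.or (.eq (.l 40) (.mul (.l 1) (.inv (.l 3)))) (.or (.eq (.l 40) (.mul (.l 1) (.l 2))) (.or (.eq (.l 40) (.mul (.mul (.l 1) (.l 2)) (.l 3))) (.or (.eq (.l 40) (.mul (.mul (.l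 1) (.l 2)) (.inv (.l 3)))) (.or (.eq (.l 40) (.mul (.l 1) (.inv (.l 2)))) (.or (.eq (.l 40) (.mul (.mul (.l 1) (.inv (.l 2))) (.l 3))) (.or (.eq (.l 40) (.mul (.mul (.l 1) (.inv (.l 2))) (.inv (.l 3)))) (.or (.eq (.l 40) (.inv (.l 1))) (.or (.eq (.l 40) (.mul (.inv (.l 1)) (.l 3))) (.or (.eq (.l 40) (.mul (.inv (.l 1)) (.inv (.l 3)))) (.or (.eq (.l 40) (.mul (.inv (.l 1)) (.l 2))) (.or (.eq (.l 40) (.mul (.mul (.inv (.l 1)) (.l 2)) (.l 3))) (.or (.eq (.l 40) (.mul (.mul (.inv (.l 1)) (.l 2)) (.inv (.l 3)))) (.or (.eq (.l 40) (.mul (.inv (.l 1)) (.inv (.l 2)))) (.or (.eq (.l 40) (.mul (.mul (.inv (.l 1)) (.inv (.l 2))) (.l 3))) (.eq (.l 40) (.mul (.mul (.inv (.l 1)) (.inv (.l 2))) (.inv (.l 3))))))))))))))))))))))))))))))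

theorem n9_J_ev : n9.eval n9_J_f = true := by decide +kernel

theorem n9_J {G : Type*} [Group G] {γ : ℕ → G} {k : ℕ} {N : List W} (g : Gf n9 γ k N)
    (e : tyB n9 k N n9_J_f = true := by decide +kernel) :
    ∀ j ∈ genW γ (n9.ws 1), j = γ 0 ∨ j = γ 3 ∨ j = (γ 3)⁻¹ ∨ j = γ 2 ∨ j = γ 2 * γ 3 ∨ j = γ 2 * (γ 3)⁻¹ ∨ j = (γ 2)⁻¹ ∨ j = (γ 2)⁻¹ * γ 3 ∨ j = (γ 2)⁻¹ * (γ 3)⁻¹ ∨ j = γ 1 ∨ j = γ 1 * γ 3 ∨ j = γ 1 * (γ 3)⁻¹ ∨ j = γ 1 * γ 2 ∨ j = γ 1 * γ 2 * γ 3 ∨ j = γ 1 * γ 2 * (γ 3)⁻¹ ∨ j = γ 1 * (γ 2)⁻¹ ∨ j = γ 1 * (γ 2)⁻¹ * γ 3 ∨ j = γ 1 * (γ 2)⁻¹ * (γ 3)⁻¹ ∨ j = (γ 1)⁻¹ ∨ j = (γ 1)⁻¹ * γ 3 ∨ j = (γ 1)⁻¹ * (γ 3)⁻¹ ∨ j = (γ 1)⁻¹ * γ 2 ∨ j = (γ 1)⁻¹ * γ 2 * γ 3 ∨ j = (γ 1)⁻¹ * γ 2 * (γ 3)⁻¹ ∨ j = (γ 1)⁻¹ * (γ 2)⁻¹ ∨ j = (γ 1)⁻¹ * (γ 2)⁻¹ * γ 3 ∨ j = (γ 1)⁻¹ * (γ 2)⁻¹ * (γ 3)⁻¹ :=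
  g.transfer e n9_J_ev

/-- a formula -/
def n9_B_f : Fm := .all 9 40 [] (.or (.eq (.l 40) (.l 0)) (.or (.eq (.l 40) (.l 3)) (.or (.eq (.l 40) (.inv (.l 3))) (.or (.eq (.l 40) (.l 2)) (.or (.eq (.l 40) (.mul (.l 2) (.l 3))) (.or (.eq (.l 40) (.mul (.l 2) (.inv (.l 3)))) (.or (.eq (.l 40) (.inv (.l 2))) (.or (.eq (.l 40) (.mul (.inv (.l 2)) (.l 3))) (.eq (.l 40) (.mul (.inv (.l 2)) (.inv (.l 3))))))))))))

theorem n9_B_ev : n9.eval n9_B_f = true := by decide +kernel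

theorem n9_B {G : Type*} [Group G] {γ : ℕ → G} {k : ℕ} {N : List W} (g : Gf n9 γ k N)
    (e : tyB n9 k N n9_B_f = true := by decide +kernel) :
    ∀ j ∈ genW γ (n9.ws 9), j = γ 0 ∨ j = γ 3 ∨ j = (γ 3)⁻¹ ∨ j = γ 2 ∨ j = γ 2 * γ 3 ∨ j = γ 2 * (γ 3)⁻¹ ∨ j = (γ 2)⁻¹ ∨ j = (γ 2)⁻¹ * γ 3 ∨ j = (γ 2)⁻¹ * (γ 3)⁻¹ :=
  g.transfer e n9_B_ev

/-- a formula -/
def n9_O_f : Fm := .all 4 40 [] (.imp (.mem 4 (.mul (.mul (.l 5) (.l 40)) (.inv (.l 5)))) (.mem 1 (.l 40)))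

theorem n9_O_ev : n9.eval n9_O_f = true := by decide +kernel

theorem n9_O {G : Type*} [Group G] {γ : ℕ → G} {k : ℕ} {N : List W} (g : Gf n9 γ k N)
    (e : tyB n9 k N n9_O_f = true := by decide +kernel) :
    ∀ y ∈ genW γ (n9.ws 4), γ 5 * y * (γ 5)⁻¹ ∈ genW γ (n9.ws 4) → y ∈ genW γ (n9.ws 1) :=
  g.transfer e n9_O_ev

/-- a formula -/
def n9_3_f : Fm := .and (.all 2 40 [] (.imp (.one (.pow (.l 40) 3)) (.mem 1 (.l 40)))) (.all 3 40 [] (.imp (.one (.pow (.l 40) 3)) (.mem 1 (.l 40))))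

theorem n9_3_ev : n9.eval n9_3_f = true := by decide +kernel

theorem n9_3 {G : Type*} [Group G] {γ : ℕ → G} {k : ℕ} {N : List W} (g : Gf n9 γ k N)
    (e : tyB n9 k N n9_3_f = true := by decide +kernel) :
    (∀ e ∈ genW γ (n9.ws 2), e ^ 3 = 1 → e ∈ genW γ (n9.ws 1)) ∧ (∀ e ∈ genW γ (n9.ws 3), e ^ 3 = 1 → e ∈ genW γ (n9.ws 1)) :=
  g.transfer e n9_3_ev

/-- a formula -/
def n9_C_f : Fm := .all 0 40 [(.l 1, .l 1), (.l 2, .l 2), (.l 3, .l 3)] (.mem 1 (.l 40))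

theorem n9_C_ev : n9.eval n9_C_f = true := by decide +kernel

theorem n9_C {G : Type*} [Group G] {γ : ℕ → G} {k : ℕ} {N : List W} (g : Gf n9 γ k N)
    (e : tyB n9 k N n9_C_f = true := by decide +kernel) :
    ∀ e ∈ genW γ (n9.ws 0), e * γ 1 = γ 1 * e → e * γ 2 = γ 2 * e → e * γ 3 = γ 3 * e → e ∈ genW γ (n9.ws 1) :=
  g.transfer e n9_C_ev

/-- a formula -/
def n9_p1_f : Fm := .all 1 40 [] (.imp (.ex 0 41 [(.l 1, .l 40)] (.tt)) (.imp (.ex 0 41 [(.l 1, .mul (.inv (.l 40)) (.mul (.l 1) (.l 2)))] (.tt)) (.or (.eq (.l 40) (.l 1)) (.eq (.l 40) (.l 2)))))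

theorem n9_p1_ev : n9.eval n9_p1_f = true := by decide +kernel

theorem n9_p1 {G : Type*} [Group G] {γ : ℕ → G} {k : ℕ} {N : List W} (g : Gf n9 γ k N)
    (e : tyB n9 k N n9_p1_f = true := by decide +kernel) :
    ∀ y ∈ genW γ (n9.ws 1), (∃ k ∈ genW γ (n9.ws 0), k * γ 1 = y * k ∧ True) → (∃ k ∈ genW γ (n9.ws 0), k * γ 1 = y⁻¹ * (γ 1 * γ 2) * k ∧ True) → y = γ 1 ∨ y = γ 2 :=
  g.transfer e n9_p1_ev

/-- a formula -/
def n9_p2_f : Fm := .all 1 40 [] (.imp (.ex 0 41 [(.mul (.l 1) (.l 2), .l 40)] (.tt)) (.imp (.ex 0 41 [(.mul (.l 1) (.l 2), .mul (.inv (.l 40)) (.l 1))] (.tt)) (.or (.eq (.l 40) (.mul (.inv (.l 1)) (.l 2))) (.or (.eq (.l 40) (.mul (.inv (.l 1)) (.inv (.l 2)))) (.or (.eq (.l 40) (.mul (.inv (.l 1)) (.l 3))) (.eq (.l 40) (.mul (.inv (.l 1)) (.inv (.l 3)))))))))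

theorem n9_p2_ev : n9.eval n9_p2_f = true := by decide +kernel

theorem n9_p2 {G : Type*} [Group G] {γ : ℕ → G} {k : ℕ} {N : List W} (g : Gf n9 γ k N)
    (e : tyB n9 k N n9_p2_f = true := by decide +kernel) :
    ∀ y ∈ genW γ (n9.ws 1), (∃ k ∈ genW γ (n9.ws 0), k * (γ 1 * γ 2) = y * k ∧ True) → (∃ k ∈ genW γ (n9.ws 0), k * (γ 1 * γ 2) = y⁻¹ * γ 1 * k ∧ True) → y = (γ 1)⁻¹ * γ 2 ∨ y = (γ 1)⁻¹ * (γ 2)⁻¹ ∨ y = (γ 1)⁻¹ * γ 3 ∨ y = (γ 1)⁻¹ * (γ 3)⁻¹ :=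
  g.transfer e n9_p2_ev

/-- a formula -/
def n9_p3_f : Fm := .all 1 40 [] (.imp (.ex 0 41 [(.mul (.l 1) (.l 2), .l 40)] (.tt)) (.imp (.ex 0 41 [(.mul (.l 1) (.l 2), .mul (.inv (.l 40)) (.mul (.mul (.l 1) (.l 2)) (.l 3)))] (.tt)) (.or (.eq (.l 40) (.mul (.l 1) (.inv (.l 3)))) (.or (.eq (.l 40) (.mul (.l 2) (.inv (.l 3)))) (.or (.eq (.l 40) (.mul (.inv (.l 2)) (.l 3))) (.or (.eq (.l 40) (.mul (.l 1) (.inv (.l 2)))) (.or (.eq (.l 40) (.mul (.inv (.l 1)) (.l 2))) (.eq (.l 40) (.mul (.inv (.l 1)) (.l 3))))))))))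

theorem n9_p3_ev : n9.eval n9_p3_f = true := by decide +kernel

theorem n9_p3 {G : Type*} [Group G] {γ : ℕ → G} {k : ℕ} {N : List W} (g : Gf n9 γ k N)
    (e : tyB n9 k N n9_p3_f = true := by decide +kernel) :
    ∀ y ∈ genW γ (n9.ws 1), (∃ k ∈ genW γ (n9.ws 0), k * (γ 1 * γ 2) = y * k ∧ True) → (∃ k ∈ genW γ (n9.ws 0), k * (γ 1 * γ 2) = y⁻¹ * (γ 1 * γ 2 * γ 3) * k ∧ True) → y = γ 1 * (γ 3)⁻¹ ∨ y = γ 2 * (γ 3)⁻¹ ∨ y = (γ 2)⁻¹ * γ 3 ∨ y = γ 1 * (γ 2)⁻¹ ∨ y = (γ 1)⁻¹ * γ 2 ∨ y = (γ 1)⁻¹ * γ 3 :=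
  g.transfer e n9_p3_ev

end Cfsg.Lib.Loc3
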