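import Cfsg.Agent.Lib.Loc3.SixNum

/-! A finite check for the analysis of a strongly closed elementary abelian subgroup of order 27 (helper8). -/

set_option autoImplicit false

namespace Cfsg.Lib.Loc3

open Finset
open scoped ComplexConjugate

/-- an interval -/
def rng (n : ℕ) : List ℤ := (List.range (2 * n + 1)).map fun i : ℕ => (i : ℤ) - n

theorem mem_rng {x : ℤ} {n : ℕ} (h : x ^ 2 < (n + 1) ^ 2) : x ∈ rng n := by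
  have := abs_lt.1 (abs_lt_of_sq_lt_sq h (by omega))
  exact List.mem_map.2 ⟨(x + n).toNat, List.mem_range.2 (by omega), by omega⟩

/-- the norms of the columns -/
def nr9 : Fin 9 → ℤ := ![6, 2, 108, 54, 81, 9, 9, 12, 6]

/-- the fourteen types -/
def ty9 : Fin 14 → Fin 9 → ℤ :=
  ![![1, 0, 1, 1, 1, 1, 1, 1, 1], ![-1, 0, 1, 1, 1, 1, 1, 1, -1], ![0, 0, 2, 2, 2, -1, -1, 2, 0],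
    ![-1, 0, 3, 3, 3, 0, 0, -1, 1], ![1, 0, 3, 3, 3, 0, 0, -1, -1], ![0, -1, -3, 0, 3, 0, 0, -1, 0],
    ![0, 1, -3, 0, 3, 0, 0, -1, 0], ![-1, 0, -3, 0, 3, 0, 0, 1, 0], ![1, 0, -3, 0, 3, 0, 0, 1, 0],
    ![0, 0, 0, -3, 3, 0, 0, 0, -1], ![0, 0, 0, -3, 3, 0, 0, 0, 1], ![0, 0, 4, -2, 1, -2, 1, 0, 0],
    ![0, 0, 4, -2, 1, 1, -2, 0, 0], ![0, 0, 4, -2, 1, 1, 1, 0, 0]]

/-- quadratic forms separating the types -/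
def q9 (j : Fin 14) (k l : Fin 9) : ℤ :=
  ((([[],
    [[324, 0, 27, -162, 0, -108, 0, 81, 486], [0, 486, 0, 0, 0, 0, 0, 0, 0], [0, 0, -7, -8, 22, 18, -54, -9, -18], [0, 0, 0, 8, -8, 0, -144, -90, -72], [0, 0, 0, 0, -16, -72, 0, 18, -72], [0, 0, 0, 0, 0, -72, -72, 0, -648], [0, 0, 0, 0, 0, 0, 0, 0, 0], [0, 0, 0, 0, 0, 0, 0, 0, 0], [0, 0, 0, 0, 0, 0, 0, 0, 0]],
    [[0, 0, -9, 0, 0, -72, 0, -27, 0], [0, 54, 0, 0, 0, 0, 0, 0, 0], [0, 0, -1, 2, 2, 4, 6, -3, 0], [0, 0, 0, 0, 0, -8, 0, 6, 0], [0, 0, 0, 0, 0, -8, 0, 6, 0], [0, 0, 0, 0, 0, 0, -24, -90, 0], [0, 0, 0, 0, 0, 0, 0, 0, 0], [0, 0, 0, 0, 0, 0, 0, 0, 0], [0, 0, 0, 0, 0, 0, 0, 0, 0]],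
    [[0, 0, -27, -90, 0, -180, 0, -81, -162], [0, 54, 0, 0, 0, 0, 0, 0, 0], [0, 0, -1, -4, 2, 10, 6, -3, -18], [0, 0, 0, 0, 0, -8, -48, -30, 0], [0, 0, 0, 0, 0, -8, 0, 6, 0], [0, 0, 0, 0, 0, -72, -120, -108, -144], [0, 0, 0, 0, 0, 0, 0, 0, 0], [0, 0, 0, 0, 0, 0, 0, 0, 0], [0, 0, 0, 0, 0, 0, 0, 0, 0]],
    [[324, 0, -27, 54, 0, -108, 0, -81, -162], [0, 162, 0, 0, 0, 0, 0, 0, 0], [0, 0, -1, 16, 10, 30, 54, 9, -18], [0, 0, 0, 8, -8, -24, 0, -18, -72], [0, 0, 0, 0, -16, -24, 0, -18, -72], [0, 0, 0, 0, 0, -72, -216, -216, 0], [0, 0, 0, 0, 0, 0, 0, 0, 0], [0, 0, 0, 0, 0, 0, 0, 0, 0], [0, 0, 0, 0, 0, 0, 0, 0, 0]],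
    [[0, 0, 0, 0, 0, 0, 0, 0, 0], [0, 3, 1, 0, 0, 0, 0, 0, 0], [0, 0, 0, 0, 0, 0, 0, 0, 0], [0, 0, 0, 0, 0, 0, 0, 0, 0], [0, 0, 0, 0, 0, 0, 0, 0, 0], [0, 0, 0, 0, 0, 0, 0, 0, 0], [0, 0, 0, 0, 0, 0, 0, 0, 0], [0, 0, 0, 0, 0, 0, 0, 0, 0], [0, 0, 0, 0, 0, 0, 0, 0, 0]],
    [[0, 0, 0, 0, 0, 0, 0, 0, 0], [0, 3, -1, 0, 0, 0, 0, 0, 0], [0, 0, 0, 0, 0, 0, 0, 0, 0], [0, 0, 0, 0, 0, 0, 0, 0, 0], [0, 0, 0, 0, 0, 0, 0, 0, 0], [0, 0, 0, 0, 0, 0, 0, 0, 0], [0, 0, 0, 0, 0, 0, 0, 0, 0], [0, 0, 0, 0, 0, 0, 0, 0, 0], [0, 0, 0, 0, 0, 0, 0, 0, 0]],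
    [[27, 0, 3, -6, -6, -18, 0, -27, 0], [0, -27, 0, 0, 0, 0, 0, 0, 0], [0, 0, 1, -2, -2, -1, 6, 0, 0], [0, 0, 0, 0, 0, -4, 0, 0, 0], [0, 0, 0, 0, 0, -4, 0, 0, 0], [0, 0, 0, 0, 0, -24, -24, -27, 0], [0, 0, 0, 0, 0, 0, 0, 0, 0], [0, 0, 0, 0, 0, 0, 0, 0, 0], [0, 0, 0, 0, 0, 0, 0, 0, 0]],
    [[54, 0, -15, 12, 12, -36, 0, 27, 0], [0, 0, 0, 0, 0, 0, 0, 0, 0], [0, 0, 1, -2, -2, 2, 6, -3, 0], [0, 0, 0, 0, 0, 8, 0, 6, 0], [0, 0, 0, 0, 0, 8, 0, 6, 0], [0, 0, 0, 0, 0, -24, -24, -36, 0], [0, 0, 0, 0, 0, 0, 0, 0, 0], [0, 0, 0, 0, 0, 0, 0, 0, 0], [0, 0, 0, 0, 0, 0, 0, 0, 0]],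
    [[0, 0, -27, -54, 0, -108, 0, -81, -54], [0, 54, 0, 0, 0, 0, 0, 0, 0], [0, 0, -1, -8, 2, 2, 6, -3, -30], [0, 0, 0, 8, -16, -16, -48, -30, 24], [0, 0, 0, 0, 0, -40, 0, 6, -48], [0, 0, 0, 0, 0, -120, -120, -108, -216], [0, 0, 0, 0, 0, 0, 0, 0, 0], [0, 0, 0, 0, 0, 0, 0, 0, 0], [0, 0, 0, 0, 0, 0, 0, 0, 0]],
    [[0, 0, 0, -18, 0, -36, 0, 0, 0], [0, 0, 0, 0, 0, 0, 0, 0, 0], [0, 0, 0, -1, 0, -2, 0, 0, 0], [0, 0, 0, 2, -4, -8, -12, -9, -18], [0, 0, 0, 0, 0, -8, 0, 0, 0], [0, 0, 0, 0, 0, -24, -24, -18, -36], [0, 0, 0, 0, 0, 0, 0, 0, 0], [0, 0, 0, 0, 0, 0, 0, 0, 0], [0, 0, 0, 0, 0, 0, 0, 0, 0]],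
    [[0, 0, -3, -3, 0, -12, 0, -9, -9], [0, 0, 0, 0, 0, 0, 0, 0, 0], [0, 0, 0, -1, 0, 0, 1, 0, -3], [0, 0, 0, 0, 0, 2, -4, 0, 0], [0, 0, 0, 0, 0, 0, 0, 0, 0], [0, 0, 0, 0, 0, -4, -12, -9, -6], [0, 0, 0, 0, 0, 0, 0, 0, 0], [0, 0, 0, 0, 0, 0, 0, 0, 0], [0, 0, 0, 0, 0, 0, 0, 0, 0]],
    [[0, 0, -3, -3, 0, -12, 0, -9, -9], [0, 0, 0, 0, 0, 0, 0, 0, 0], [0, 0, 0, -1, 0, 1, 0, 0, -3], [0, 0, 0, 0, 0, -2, 0, 0, 0], [0, 0, 0, 0, 0, 0, 0, 0, 0], [0, 0, 0, 0, 0, -4, -12, -9, -6], [0, 0, 0, 0, 0, 0, 0, 0, 0], [0, 0, 0, 0, 0, 0, 0, 0, 0], [0, 0, 0, 0, 0, 0, 0, 0, 0]],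
    [[324, 0, 81, -54, 0, 540, 0, 243, 162], [0, 162, 0, 0, 0, 0, 0, 0, 0], [0, 0, -1, -20, 10, 66, 54, 9, 90], [0, 0, 0, 8, -8, -96, 0, -18, -72], [0, 0, 0, 0, -16, -24, 0, -18, -72], [0, 0, 0, 0, 0, 216, 216, 108, 216], [0, 0, 0, 0, 0, 0, 0, 0, 0], [0, 0, 0, 0, 0, 0, 0, 0, 0], [0, 0, 0, 0, 0, 0, 0, 0, 0]]] : List (List (List ℤ))).getD j []).getD k []).getD l 0

/-- the value of a form -/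
def qf9 (j : Fin 14) (v : Fin 9 → ℤ) : ℤ := ∑ k, ∑ l, q9 j k l * (v k * v l)

theorem chk9 : ∀ a ∈ rng 10, ∀ b ∈ rng 7, ∀ c ∈ rng 9, c ≠ 0 → 3 ∣ a - c → 9 ∣ 2 * a - b - c → ∀ m ∈ rng 3, 3 ∣ a - m →
    ∀ n ∈ rng 3, 3 ∣ a - n → ∀ e ∈ rng 3, ∀ t ∈ rng 2, 4 ∣ a + e + 2 * t → ∀ u ∈ rng 1, 4 ∣ a - e + 2 * u →
    ∀ f ∈ rng 2, 2 ∣ b - f → 104 * (3 * a * a + 6 * b * b + 4 * c * c + 36 * (m * m + n * n) + 27 * e * e + 54 * t * t +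
      162 * u * u + 54 * f * f) + (3 * a + 6 * b + 4 * c + 36 * (m + n) + 27 * e + 54 * t + 54 * f) ^ 2 ≤ 33696 →
    ∀ j, 0 < qf9 j ![t, u, a, b, c, m, n, e, f] →
      ![t, u, a, b, c, m, n, e, f] = ty9 j ∨ -![t, u, a, b, c, m, n, e, f] = ty9 j := by decide +kernel

end Cfsg.Lib.Loc3
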