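import Cfsg.Agent.Lib.Loc3.SpM
import Cfsg.Agent.Lib.Loc3.Gen6

/-! More facts about the 3-local subgroups of `Sp₆(2)` (generated data, helper8). -/

set_option autoImplicit false
set_option maxRecDepth 1000000
set_option maxHeartbeats 0

namespace Cfsg.Lib.Loc3

open Cfsg.Lib.Calc Cfsg.Lib.Grp Cfsg.Lib.T2 Cfsg.Lib.T3
open Cfsg.Lib.T2.L (MJ)

/-- a formula -/
def ps_y_f : Fm := .all 2 40 [] (.imp (.one (.pow (.l 40) 3)) (.or (.mem 1 (.l 40)) (.ex 4 41 [(.mul (.l 1) (.inv (.l 2)), .l 40)] (.tt))))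

theorem ps_y_ev : sp.eval ps_y_f = true := by decide +kernel

theorem ps_y {G : Type*} [Group G] {γ : ℕ → G} {k : ℕ} {N : List W} (g : Gf sp γ k N)
    (e : tyB sp k N ps_y_f = true := by decide +kernel) :
    ∀ y ∈ genW γ (sp.ws 2), y ^ 3 = 1 → y ∈ genW γ (sp.ws 1) ∨ (∃ k ∈ genW γ (sp.ws 4), k * (γ 1 * (γ 2)⁻¹) = y * k ∧ True) :=
  g.transfer e ps_y_ev

/-- a formula -/
def ps_iu_f : Fm := .all 4 40 [(.inv (.mul (.l 1) (.inv (.l 2))), .inv (.l 4)), (.l 4, .mul (.mul (.mul (.l 1) (.inv (.l 2))) (.inv (.l 4))) (.mul (.l 1) (.inv (.l 2))))] (.imp (.eq (.mul (.mul (.inv (.l 3)) (.l 40)) (.inv (.l 3))) (.mul (.mul (.l 40) (.inv (.l 3))) (.l 40))) (.eq (.l 40) (.mul (.mul (.l 3) (.inv (.l 6))) (.inv (.l 3)))))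

theorem ps_iu_ev : sp.eval ps_iu_f = true := by decide +kernel

theorem ps_iu {G : Type*} [Group G] {γ : ℕ → G} {k : ℕ} {N : List W} (g : Gf sp γ k N)
    (e : tyB sp k N ps_iu_f = true := by decide +kernel) :
    ∀ y ∈ genW γ (sp.ws 4), y * (γ 1 * (γ 2)⁻¹)⁻¹ = (γ 4)⁻¹ * y → y * γ 4 = γ 1 * (γ 2)⁻¹ * (γ 4)⁻¹ * (γ 1 * (γ 2)⁻¹) * y → (γ 3)⁻¹ * y * (γ 3)⁻¹ = y * (γ 3)⁻¹ * y → y = γ 3 * (γ 6)⁻¹ * (γ 3)⁻¹ :=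
  g.transfer e ps_iu_ev

/-- a formula -/
def ps_tE_f : Fm := .all 10 40 [(.l 5, .l 5)] (.or (.all 9 41 [] (.eq (.mul (.mul (.l 40) (.l 41)) (.inv (.l 40))) (.l 41))) (.all 9 41 [] (.eq (.mul (.mul (.l 40) (.l 41)) (.inv (.l 40))) (.inv (.l 41)))))

theorem ps_tE_ev : sp.eval ps_tE_f = true := by decide +kernel

theorem ps_tE {G : Type*} [Group G] {γ : ℕ → G} {k : ℕ} {N : List W} (g : Gf sp γ k N)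
    (e : tyB sp k N ps_tE_f = true := by decide +kernel) :
    ∀ n ∈ genW γ (sp.ws 10), n * γ 5 = γ 5 * n → (∀ e ∈ genW γ (sp.ws 9), n * e * n⁻¹ = e) ∨ (∀ e ∈ genW γ (sp.ws 9), n * e * n⁻¹ = e⁻¹) :=
  g.transfer e ps_tE_ev

/-- a formula -/
def ps_t11_f : Fm := .all 11 40 [(.l 5, .l 5)] (.imp (.one (.mul (.l 40) (.l 40))) (.or (.one (.l 40)) (.or (.eq (.l 40) (.l 5)) (.eq (.mul (.l 40) (.mul (.mul (.l 1) (.l 2)) (.l 3))) (.mul (.inv (.mul (.mul (.l 1) (.l 2)) (.l 3))) (.l 40))))))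

theorem ps_t11_ev : sp.eval ps_t11_f = true := by decide +kernel

theorem ps_t11 {G : Type*} [Group G] {γ : ℕ → G} {k : ℕ} {N : List W} (g : Gf sp γ k N)
    (e : tyB sp k N ps_t11_f = true := by decide +kernel) :
    ∀ y ∈ genW γ (sp.ws 11), y * γ 5 = γ 5 * y → y * y = 1 → y = 1 ∨ y = γ 5 ∨ y * (γ 1 * γ 2 * γ 3) = (γ 1 * γ 2 * γ 3)⁻¹ * y :=
  g.transfer e ps_t11_ev

/-- a formula -/
def ps_p10_f : Fm := .all 9 40 [] (.all 10 41 [(.mul (.l 1) (.inv (.l 2)), .l 40)] (.not (.tt)))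

theorem ps_p10_ev : sp.eval ps_p10_f = true := by decide +kernel

theorem ps_p10 {G : Type*} [Group G] {γ : ℕ → G} {k : ℕ} {N : List W} (g : Gf sp γ k N)
    (e : tyB sp k N ps_p10_f = true := by decide +kernel) :
    ∀ e ∈ genW γ (sp.ws 9), ∀ n ∈ genW γ (sp.ws 10), n * (γ 1 * (γ 2)⁻¹) = e * n → ¬ True :=
  g.transfer e ps_p10_ev

/-- a formula -/
def ps_y5_f : Fm := .all 5 40 [(.l 3, .l 3), (.l 5, .l 5)] (.imp (.one (.pow (.l 40) 4)) (.imp (.one (.pow (.mul (.mul (.mul (.mul (.l 1) (.l 2)) (.l 40)) (.inv (.mul (.l 1) (.l 2)))) (.inv (.l 40))) 4)) (.or (.one (.l 40)) (.eq (.l 40) (.l 5)))))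

theorem ps_y5_ev : sp.eval ps_y5_f = true := by decide +kernel

theorem ps_y5 {G : Type*} [Group G] {γ : ℕ → G} {k : ℕ} {N : List W} (g : Gf sp γ k N)
    (e : tyB sp k N ps_y5_f = true := by decide +kernel) :
    ∀ y ∈ genW γ (sp.ws 5), y * γ 3 = γ 3 * y → y * γ 5 = γ 5 * y → y ^ 4 = 1 → (γ 1 * γ 2 * y * (γ 1 * γ 2)⁻¹ * y⁻¹) ^ 4 = 1 → y = 1 ∨ y = γ 5 :=
  g.transfer e ps_y5_ev

/-- a formula -/
def ps_yR_f : Fm := .all 4 40 [(.l 5, .l 5)] (.imp (.one (.pow (.l 40) 4)) (.and (.eq (.mul (.l 40) (.mul (.mul (.l 7) (.mul (.l 3) (.inv (.l 6)))) (.l 7))) (.mul (.mul (.mul (.l 7) (.mul (.l 3) (.inv (.l 6)))) (.l 7)) (.l 40))) (.imp (.one (.mul (.l 40) (.l 40))) (.or (.one (.l 40)) (.eq (.l 40) (.l 5))))))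

theorem ps_yR_ev : sp.eval ps_yR_f = true := by decide +kernel

theorem ps_yR {G : Type*} [Group G] {γ : ℕ → G} {k : ℕ} {N : List W} (g : Gf sp γ k N)
    (e : tyB sp k N ps_yR_f = true := by decide +kernel) :
    ∀ y ∈ genW γ (sp.ws 4), y * γ 5 = γ 5 * y → y ^ 4 = 1 → y * (γ 7 * (γ 3 * (γ 6)⁻¹) * γ 7) = γ 7 * (γ 3 * (γ 6)⁻¹) * γ 7 * y ∧ (y * y = 1 → y = 1 ∨ y = γ 5) :=
  g.transfer e ps_yR_ev

/-- a formula -/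
def ps_c14_f : Fm := .all 12 40 [(.l 5, .l 5)] (.mem 14 (.l 40))

theorem ps_c14_ev : sp.eval ps_c14_f = true := by decide +kernel

theorem ps_c14 {G : Type*} [Group G] {γ : ℕ → G} {k : ℕ} {N : List W} (g : Gf sp γ k N)
    (e : tyB sp k N ps_c14_f = true := by decide +kernel) :
    ∀ y ∈ genW γ (sp.ws 12), y * γ 5 = γ 5 * y → y ∈ genW γ (sp.ws 14) :=
  g.transfer e ps_c14_ev

/-- a formula -/
def ps_c13_f : Fm := .all 13 40 [(.l 5, .l 5)] (.or (.mem 12 (.l 40)) (.mem 12 (.mul (.l 40) (.l 8))))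

theorem ps_c13_ev : sp.eval ps_c13_f = true := by decide +kernel

theorem ps_c13 {G : Type*} [Group G] {γ : ℕ → G} {k : ℕ} {N : List W} (g : Gf sp γ k N)
    (e : tyB sp k N ps_c13_f = true := by decide +kernel) :
    ∀ y ∈ genW γ (sp.ws 13), y * γ 5 = γ 5 * y → y ∈ genW γ (sp.ws 12) ∨ y * γ 8 ∈ genW γ (sp.ws 12) :=
  g.transfer e ps_c13_ev

/-- a formula -/
def ps_cJ_f : Fm := .all 1 40 [(.l 7, .l 7), (.l 4, .l 4)] (.one (.l 40))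

theorem ps_cJ_ev : sp.eval ps_cJ_f = true := by decide +kernel

theorem ps_cJ {G : Type*} [Group G] {γ : ℕ → G} {k : ℕ} {N : List W} (g : Gf sp γ k N)
    (e : tyB sp k N ps_cJ_f = true := by decide +kernel) :
    ∀ y ∈ genW γ (sp.ws 1), y * γ 7 = γ 7 * y → y * γ 4 = γ 4 * y → y = 1 :=
  g.transfer e ps_cJ_ev

/-- a formula -/
def ps_c15_f : Fm := .all 0 40 [(.l 5, .l 5)] (.mem 15 (.l 40))

theorem ps_c15_ev : sp.eval ps_c15_f = true := by decide +kernel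

theorem ps_c15 {G : Type*} [Group G] {γ : ℕ → G} {k : ℕ} {N : List W} (g : Gf sp γ k N)
    (e : tyB sp k N ps_c15_f = true := by decide +kernel) :
    ∀ y ∈ genW γ (sp.ws 0), y * γ 5 = γ 5 * y → y ∈ genW γ (sp.ws 15) :=
  g.transfer e ps_c15_ev

/-- a decision tree -/
def ps_iz_T : DT := .node [5] (.node [4] (.node [8] (.leaf [(0, [6, 3, 3])])
  (.node [3, 6, 8] (.leaf [(0, [6])])
  (.node [8, 3, 6] (.leaf [(0, [6, 3])])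
  (.leaf [(0, [6, 3, 3, 1]), (0, [6, 3, 1]), (0, [6, 1]), (0, [8, 6, 1]), (0, [6, 1, 1]), (0, [6, 8, 3, 1])]))))
  (.node [1, 1, 2] (.node [8] (.leaf [(0, [])])
  (.node [1, 8] (.leaf [(0, [1, 1])])
  (.node [3, 8] (.leaf [(0, [3, 3])])
  (.node [8, 1] (.leaf [(0, [1])])
  (.node [8, 3] (.leaf [(0, [3])])
  (.node [1, 3, 8] (.leaf [(0, [8, 3, 1])])
  (.node [1, 8, 3] (.leaf [(0, [3, 1, 1])])
  (.leaf [(0, [3, 3, 1]), (0, [3, 1])]))))))))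
  (.node [6, 8, 3] (.leaf [(0, [6, 6, 3]), (0, [3, 6, 3])])
  (.node [3, 8] (.leaf [(0, [6, 6])])
  (.node [8, 3] (.leaf [(0, [8, 6, 6])])
  (.node [1, 2, 8] (.leaf [(0, [3, 6, 3, 1])])
  (.node [2, 4, 8] (.leaf [(0, [4, 6, 6, 4])])
  (.node [3, 6, 8] (.leaf [(0, [8, 3, 6])])
  (.node [4, 8, 1] (.leaf [(0, [3, 6, 1, 1])])
  (.node [8, 1, 2] (.leaf [(0, [6, 8, 6, 1])])
  (.node [8, 3, 6] (.leaf [(0, [3, 6])])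
  (.leaf [(0, [6, 6, 3, 1]), (0, [8, 6, 6, 1, 1]), (0, [6, 6, 1]), (0, [8, 6, 6, 1]), (0, [1, 6, 4]), (0, [6, 6, 1, 1]), (0, [2, 1, 6]), (0, [3, 6, 1])]))))))))))))
  (.node [4, 5] (.node [1, 1, 3] (.node [8] (.leaf [(0, [4, 4])])
  (.node [1, 8] (.leaf [(0, [4, 4, 1, 1])])
  (.node [2, 8] (.leaf [(0, [4, 4, 3, 3])])
  (.node [8, 1] (.leaf [(0, [4, 4, 1])])
  (.node [8, 2] (.leaf [(0, [4, 4, 3])])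
  (.node [1, 2, 8] (.leaf [(0, [6, 1, 1, 6])])
  (.node [1, 8, 2] (.leaf [(0, [6, 4, 6, 6])])
  (.leaf [(0, [4, 4, 3, 1]), (0, [4, 4, 3, 3, 1])]))))))))
  (.node [2, 8] (.leaf [(0, [4, 4, 6, 6])])
  (.node [8, 2] (.leaf [(0, [2, 6, 3, 3])])
  (.node [1, 3, 8] (.leaf [(0, [2, 6, 3, 1])])
  (.node [1, 4, 8] (.leaf [(0, [6, 6, 4])])
  (.node [2, 6, 8] (.leaf [(0, [3, 1, 6, 3])])
  (.node [4, 8, 3] (.leaf [(0, [2, 6, 1, 1])])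
  (.node [6, 8, 2] (.leaf [(0, [1, 8, 6, 4])])
  (.node [6, 8, 3] (.leaf [(0, [3, 1, 6])])
  (.node [8, 1, 3] (.leaf [(0, [6, 4, 6, 4])])
  (.node [8, 2, 6] (.leaf [(0, [1, 6, 4, 4])])
  (.leaf [(0, [6, 6, 4, 3]), (0, [2, 6, 1]), (0, [2, 2, 6, 1]), (0, [2, 6, 3]), (0, [2, 2, 6]), (0, [2, 6]), (0, [8, 2, 6]), (0, [2, 8, 6, 1])]))))))))))))
  (.node [5, 4] (.node [2, 2, 3] (.node [8] (.leaf [(0, [4])])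
  (.node [1, 8] (.leaf [(0, [4, 3, 3])])
  (.node [2, 8] (.leaf [(0, [4, 1, 1])])
  (.node [8, 1] (.leaf [(0, [4, 3])])
  (.node [8, 2] (.leaf [(0, [4, 1])])
  (.node [1, 2, 8] (.leaf [(0, [8, 4, 3, 1])])
  (.node [1, 8, 2] (.leaf [(0, [4, 3, 3, 1])])
  (.leaf [(0, [4, 3, 1]), (0, [4, 3, 1, 1])]))))))))
  (.node [1, 8] (.leaf [(0, [4, 6, 6])])
  (.node [8, 1] (.leaf [(0, [1, 6, 3, 3])])
  (.node [1, 6, 8] (.leaf [(0, [3, 2, 6, 3])])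
  (.node [2, 3, 8] (.leaf [(0, [1, 6, 3, 1])])
  (.node [3, 4, 8] (.leaf [(0, [6, 6, 4, 4])])
  (.node [4, 8, 2] (.leaf [(0, [1, 6, 1, 1])])
  (.node [6, 8, 1] (.leaf [(0, [2, 6, 4, 1])])
  (.node [6, 8, 3] (.leaf [(0, [3, 2, 6])])
  (.node [8, 1, 6] (.leaf [(0, [2, 6, 4])])
  (.node [8, 2, 3] (.leaf [(0, [2, 8, 6, 6])])
  (.leaf [(0, [1, 1, 6, 1]), (0, [1, 1, 6]), (0, [1, 6, 3]), (0, [1, 6]), (0, [8, 1, 6]), (0, [1, 6, 1]), (0, [4, 6, 6, 1]), (0, [1, 8, 6, 1])]))))))))))))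
  (.node [5, 8] (.leaf [(0, [3, 6, 6, 4]), (0, [6, 4, 1, 1])])
  (.node [3, 6, 8] (.leaf [(0, [6, 4]), (0, [6, 4, 4])])
  (.node [4, 5, 8] (.leaf [(0, [1, 6, 6]), (0, [6, 4, 3, 1])])
  (.node [5, 4, 8] (.leaf [(0, [2, 6, 6]), (0, [8, 2, 6, 6])])
  (.node [8, 3, 6] (.leaf [(0, [8, 6, 4]), (0, [6, 4, 1])])
  (.leaf [(0, [6, 4, 3]), (0, [6, 4, 4, 3]), (0, [4, 6, 4]), (0, [2, 8, 1, 6]), (0, [4, 6, 4, 4]), (0, [4, 4, 6, 4]), (0, [1, 6, 6, 1]), (0, [4, 6, 4, 1])]))))))))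

/-- a formula -/
def ps_iz_f : Fm := .all 11 40 [(.mul (.mul (.l 1) (.l 2)) (.l 3), .inv (.mul (.mul (.l 1) (.l 2)) (.l 3)))] (.imp (.one (.mul (.l 40) (.l 40))) (dtF [(.mul (.l 5) (.l 8), .l 40)] (.l 40) ps_iz_T))

theorem ps_iz_ev : sp.eval ps_iz_f = true := by decide +kernel

theorem ps_iz {G : Type*} [Group G] {γ : ℕ → G} {k : ℕ} {N : List W} (g : Gf sp γ k N)
    (e : tyB sp k N ps_iz_f = true := by decide +kernel) :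
    ∀ y ∈ genW γ (sp.ws 11), y * (γ 1 * γ 2 * γ 3) = (γ 1 * γ 2 * γ 3)⁻¹ * y → y * y = 1 → MJ (genW γ (sp.ws 11)) (γ 5 * γ 8) y :=
  fun y a p0 b => by
  have h := g.transfer e ps_iz_ev y a p0 b
  obtain ⟨q, m, h⟩ := dt_mj h g.zero (sp.ws 11)
  simp only [List.mem_cons, List.not_mem_nil, or_false] at m
  rcases m with rfl
  exacts [h]

/-- a decision tree -/
def ps_28_T : DT := .node [7] (.node [10] (.node [8] (.node [4] (.node [3, 6] (.leaf [(0, [6, 10])])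
  (.leaf [(1, [6, 3, 3]), (3, [6, 10, 3, 3])]))
  (.node [1] (.leaf [(1, [])])
  (.node [3] (.leaf [(2, [])])
  (.leaf [(3, [6, 10, 6, 6]), (2, [3, 6, 10, 3, 6])]))))
  (.node [3, 8] (.leaf [(2, [6, 10, 3, 6]), (0, [6, 6, 10])])
  (.leaf [(2, [6, 10, 6]), (0, [3, 6, 10])])))
  (.node [8] (.node [3] (.leaf [(0, []), (0, [10])])
  (.node [1, 2] (.leaf [(3, [])])
  (.node [3, 6] (.leaf [(2, [6])])
  (.node [1, 1, 2] (.leaf [(3, [10])])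
  (.node [3, 6, 6] (.leaf [(2, [10, 6])])
  (.leaf [(3, [6, 3, 3]), (3, [10, 6, 3, 3])]))))))
  (.node [3, 8] (.leaf [(2, [10, 6, 6]), (2, [6, 6])])
  (.leaf [(2, [10, 3, 6]), (2, [3, 6])]))))
  (.node [7, 8] (.node [1, 2, 7] (.node [1, 10] (.leaf [(1, [3, 6, 3]), (2, [6, 10, 4, 6, 6, 1])])
  (.leaf [(2, [10, 6, 4, 2, 2]), (3, [3, 6, 3])]))
  (.node [10, 1] (.leaf [(1, [6, 6, 3]), (2, [6, 10, 6, 6, 4])])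
  (.leaf [(2, [1, 10, 2, 6]), (3, [6, 6, 3])])))
  (.node [1, 2, 7] (.node [1, 10] (.leaf [(2, [2, 6, 7, 6, 4]), (2, [2, 6, 10, 6, 4])])
  (.leaf [(2, [10, 2, 6, 2, 1]), (2, [10, 4, 6, 6, 1])]))
  (.node [6, 8, 3] (.leaf [(3, [3, 6, 10, 3]), (3, [7, 3, 6, 10, 3]), (3, [6, 6, 10, 3]), (3, [7, 6, 6, 10, 3])])
  (.node [10, 1] (.leaf [(2, [10, 6, 7, 6, 4]), (2, [10, 6, 10, 6, 4])])
  (.leaf [(2, [10, 6, 6, 4]), (2, [10, 1, 6, 2, 1])])))))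

/-- a formula -/
def ps_28_f : Fm := .all 28 40 [] (.imp (.one (.mul (.l 40) (.l 40))) (.or (.one (.l 40)) (dtF [(.l 5, .l 40), (.mul (.l 7) (.l 8), .l 40), (.l 7, .l 40), (.mul (.l 5) (.mul (.l 7) (.l 8)), .l 40)] (.l 40) ps_28_T)))

theorem ps_28_ev : sp.eval ps_28_f = true := by decide +kernel

theorem ps_28 {G : Type*} [Group G] {γ : ℕ → G} {k : ℕ} {N : List W} (g : Gf sp γ k N)
    (e : tyB sp k N ps_28_f = true := by decide +kernel) :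
    ∀ y ∈ genW γ (sp.ws 28), y * y = 1 → y = 1 ∨ MJ (genW γ (sp.ws 13)) (γ 5) y ∨ MJ (genW γ (sp.ws 13)) (γ 7 * γ 8) y ∨ MJ (genW γ (sp.ws 13)) (γ 7) y ∨ MJ (genW γ (sp.ws 13)) (γ 5 * (γ 7 * γ 8)) y :=
  fun y a b => (g.transfer e ps_28_ev y a b).imp_right fun h => by
  obtain ⟨q, m, h⟩ := dt_mj h g.zero (sp.ws 13)
  simp only [List.mem_cons, List.not_mem_nil, or_false] at m
  rcases m with rfl | rfl | rfl | rfl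
  exacts [.inl h, .inr (.inl h), .inr (.inr (.inl h)), .inr (.inr (.inr (h)))]

/-- a decision tree -/
def ps_29_T : DT := .node [7] (.node [8] (.node [3] (.node [6] (.leaf [(0, [])])
  (.leaf [(1, []), (0, [10])]))
  (.node [10] (.leaf [(1, [3, 6, 10, 3, 6]), (0, [6, 10])])
  (.leaf [(1, [10, 6]), (1, [6])])))
  (.node [10] (.node [3, 8] (.leaf [(1, [6, 10, 3, 6]), (0, [6, 6, 10])])
  (.leaf [(1, [6, 10, 6]), (0, [3, 6, 10])]))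
  (.node [3, 8] (.leaf [(1, [10, 6, 6]), (1, [6, 6])])
  (.leaf [(1, [10, 3, 6]), (1, [3, 6])]))))
  (.node [1, 2, 7] (.node [1, 10] (.node [7, 8] (.leaf [(1, [6, 10, 4, 6, 6, 1])])
  (.leaf [(1, [2, 6, 7, 6, 4]), (1, [2, 6, 10, 6, 4])]))
  (.node [7, 8] (.leaf [(1, [10, 6, 4, 2, 2])])
  (.leaf [(1, [10, 2, 6, 2, 1]), (1, [10, 4, 6, 6, 1])])))
  (.node [10, 1] (.node [7, 8] (.leaf [(1, [6, 10, 6, 6, 4])])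
  (.leaf [(1, [10, 6, 7, 6, 4]), (1, [10, 6, 10, 6, 4])]))
  (.node [7, 8] (.leaf [(1, [1, 10, 2, 6])])
  (.leaf [(1, [10, 6, 6, 4]), (1, [10, 1, 6, 2, 1])]))))

/-- a formula -/
def ps_29_f : Fm := .all 29 40 [] (.imp (.one (.mul (.l 40) (.l 40))) (.or (.one (.l 40)) (dtF [(.l 5, .l 40), (.l 7, .l 40)] (.l 40) ps_29_T)))

theorem ps_29_ev : sp.eval ps_29_f = true := by decide +kernel

theorem ps_29 {G : Type*} [Group G] {γ : ℕ → G} {k : ℕ} {N : List W} (g : Gf sp γ k N)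
    (e : tyB sp k N ps_29_f = true := by decide +kernel) :
    ∀ y ∈ genW γ (sp.ws 29), y * y = 1 → y = 1 ∨ MJ (genW γ (sp.ws 13)) (γ 5) y ∨ MJ (genW γ (sp.ws 13)) (γ 7) y :=
  fun y a b => (g.transfer e ps_29_ev y a b).imp_right fun h => by
  obtain ⟨q, m, h⟩ := dt_mj h g.zero (sp.ws 13)
  simp only [List.mem_cons, List.not_mem_nil, or_false] at m
  rcases m with rfl | rfl
  exacts [.inl h, .inr (h)]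

/-- a decision tree -/
def ps_31_T : DT := .node [7, 8] (.node [7] (.node [10] (.node [3] (.node [6] (.leaf [(1, [1, 9, 4, 3])])
  (.leaf [(2, []), (0, [2, 2, 1, 9, 1])]))
  (.node [4] (.node [3, 6] (.leaf [(0, [6, 10])])
  (.leaf [(1, [6, 3, 3]), (3, [6, 10, 3, 3])]))
  (.node [1, 9, 1] (.leaf [(3, [2, 2, 1, 9, 1]), (1, [])])
  (.node [3, 6, 6] (.leaf [(0, [2, 9, 4, 2, 9, 2]), (2, [3, 6, 10, 3, 6])])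
  (.node [3, 6] (.leaf [(2, [4, 6, 2, 9, 2, 1])])
  (.leaf [(2, [4, 2, 1, 9, 2, 6]), (3, [6, 10, 6, 6]), (3, [2, 1, 1, 9, 6, 4, 1]), (2, [2, 9, 4, 1])]))))))
  (.node [3] (.node [6] (.leaf [(0, []), (2, [4, 9, 4, 4, 6])])
  (.leaf [(2, [1, 9, 2, 9, 1, 1]), (0, [10])]))
  (.node [3, 6] (.leaf [(0, [4, 9, 6, 2]), (2, [6])])
  (.node [3, 6, 6] (.leaf [(0, [4, 9, 7, 6, 2]), (2, [10, 6])])
  (.node [1, 2] (.leaf [(3, [])])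
  (.node [1, 1, 2] (.leaf [(3, [10])])
  (.leaf [(3, [4, 9, 7, 6, 8, 3, 1]), (3, [6, 3, 3]), (3, [4, 9, 7, 4, 4]), (3, [4, 9, 6, 8, 3, 1]), (3, [4, 9, 4, 4]), (3, [10, 6, 3, 3])])))))))
  (.node [1, 2, 7] (.node [1, 10] (.node [3, 6, 3] (.node [3] (.leaf [(1, [2, 2, 9, 4, 3])])
  (.leaf [(0, [6, 10, 6, 1, 9, 4, 1]), (2, [6, 10, 4, 6, 6, 1])]))
  (.node [6, 8, 3] (.leaf [(1, [3, 6, 3])])
  (.leaf [(2, [1, 1, 9, 4, 1]), (2, [1, 6, 4, 9, 4, 1])])))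
  (.node [3, 6, 3] (.node [3] (.leaf [(2, [2, 9, 2, 1, 1])])
  (.leaf [(2, [10, 6, 4, 2, 2]), (0, [1, 9, 6, 7, 4, 1])]))
  (.node [6, 8, 3] (.leaf [(3, [3, 6, 3])])
  (.leaf [(3, [4, 7, 1, 9, 5, 4, 1]), (3, [1, 9, 6, 7, 4, 1])]))))
  (.node [7, 1, 2] (.node [10, 1] (.node [3, 3, 6] (.node [3] (.leaf [(1, [2, 9, 4, 3, 3])])
  (.leaf [(0, [2, 9, 6, 4, 9, 4, 1]), (2, [1, 9, 4, 9, 1])]))
  (.node [6, 8, 3] (.leaf [(1, [6, 6, 3])])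
  (.leaf [(2, [10, 6, 5, 4, 9, 4, 1]), (2, [1, 9, 4, 1, 1])])))
  (.node [3, 3, 6] (.node [3] (.leaf [(2, [10, 1, 9, 2, 1])])
  (.leaf [(0, [10, 4, 1, 9, 6, 4]), (2, [1, 10, 2, 6])]))
  (.node [6, 8, 3] (.leaf [(3, [6, 6, 3])])
  (.leaf [(3, [7, 1, 9, 6, 7, 4, 1]), (3, [4, 1, 9, 7, 4, 4, 1])]))))
  (.node [3, 3, 6] (.leaf [(3, [10, 4, 1, 9, 2, 6, 4]), (3, [10, 6, 2, 9, 6, 7, 4, 3]), (3, [1, 9, 4, 2, 2, 9, 3, 1]), (3, [4, 9, 1, 9, 6, 6, 1])])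
  (.node [3, 6, 3] (.leaf [(3, [4, 2, 9, 6, 4, 9, 3, 1]), (3, [6, 10, 6, 1, 9, 4, 3, 1]), (3, [2, 9, 4, 6, 7, 6, 2]), (3, [2, 9, 6, 7, 2, 6, 4])])
  (.node [3, 6, 6] (.leaf [(3, [4, 9, 2, 7, 6, 2]), (3, [2, 9, 4, 2, 9, 2, 6, 3]), (3, [4, 2, 9, 2, 7, 6, 10]), (3, [4, 9, 1, 7, 6, 6, 1])])
  (.node [6, 8, 3] (.leaf [(2, [10, 6, 1, 9, 1]), (2, [10, 6, 2, 9, 2]), (3, [4, 2, 9, 2, 6, 10]), (3, [1, 6, 2, 9, 7, 4])])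
  (.leaf [(2, [4, 9, 1, 6, 4, 6]), (3, [6, 2, 9, 6, 6, 7, 4]), (3, [2, 6, 6, 1, 9, 7, 4]), (2, [10, 6, 4, 4, 9, 1]), (3, [10, 6, 2, 9, 6, 7, 6, 1]), (3, [2, 9, 6, 4, 9, 4, 1]), (2, [4, 9, 2, 6, 6, 1]), (2, [10, 6, 4, 9, 2])]))))))))
  (.node [3, 7, 8] (.node [7] (.node [10] (.node [6, 3] (.leaf [(2, [2, 1, 9, 4, 6, 2]), (0, [6, 6, 10])])
  (.leaf [(2, [6, 10, 3, 6]), (0, [2, 9, 4, 9, 2])]))
  (.node [6, 3] (.leaf [(2, [6, 6]), (0, [6, 4, 9, 6, 2])])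
  (.leaf [(2, [10, 6, 6]), (0, [4, 7, 2, 9, 6, 2])])))
  (.node [3, 6, 3] (.node [7, 1, 2] (.node [10, 1] (.leaf [(0, [1, 9, 4, 2, 9, 1]), (2, [10, 6, 7, 6, 4])])
  (.leaf [(0, [1, 10, 6, 4, 9, 1]), (2, [10, 6, 6, 4])]))
  (.leaf [(3, [1, 9, 4, 2, 9, 3, 1]), (3, [10, 6, 2, 9, 2, 6, 6, 1]), (3, [6, 1, 9, 4, 9, 3, 1]), (3, [7, 4, 9, 6, 4, 9, 3, 1])]))
  (.node [1, 2, 7] (.node [1, 10] (.leaf [(2, [2, 6, 7, 6, 4]), (0, [4, 9, 6, 4, 9, 1])])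
  (.leaf [(0, [10, 6, 1, 9, 4, 1]), (2, [10, 4, 6, 6, 1])]))
  (.node [3, 3, 6] (.leaf [(3, [2, 9, 4, 9, 2, 6, 3]), (3, [10, 6, 4, 4, 9, 4, 3]), (3, [10, 6, 4, 9, 4, 4, 3]), (3, [4, 9, 2, 7, 6, 10])])
  (.leaf [(3, [10, 6, 1, 9, 4, 3, 1]), (3, [1, 10, 9, 6, 1, 10, 6]), (3, [8, 1, 9, 4, 9, 3, 1]), (3, [4, 9, 6, 4, 9, 3, 1])])))))
  (.node [6, 8, 3] (.node [6] (.node [10] (.leaf [(0, [3, 6, 10]), (2, [2, 1, 9, 7, 6, 2, 1])])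
  (.leaf [(2, [3, 6]), (0, [4, 2, 9, 6, 2])]))
  (.leaf [(3, [3, 6, 10, 3]), (3, [2, 2, 6, 4, 9, 1]), (3, [7, 3, 6, 10, 3]), (3, [1, 6, 2, 9, 4]), (3, [2, 8, 6, 4, 9, 1]), (3, [6, 6, 10, 3]), (3, [7, 6, 6, 10, 3]), (3, [4, 2, 9, 2, 6, 2])]))
  (.node [3, 3, 6] (.node [1, 2, 7] (.node [1, 10] (.leaf [(0, [7, 1, 9, 4, 9, 1]), (2, [2, 6, 10, 6, 4])])
  (.leaf [(2, [10, 2, 6, 2, 1]), (0, [10, 2, 6, 10, 9, 1])]))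
  (.leaf [(3, [7, 1, 9, 4, 9, 3, 1]), (3, [2, 1, 1, 9, 4, 9, 3, 1]), (3, [10, 6, 10, 1, 9, 4, 3, 1]), (3, [2, 9, 4, 1, 6, 7, 6, 1])]))
  (.node [3, 6, 3] (.node [7] (.node [10] (.leaf [(0, [2, 9, 7, 4, 9, 1]), (2, [6, 10, 6])])
  (.leaf [(0, [4, 2, 9, 7, 6, 2]), (2, [10, 3, 6])]))
  (.leaf [(3, [4, 2, 9, 2, 7, 6, 2]), (3, [2, 2, 9, 4, 9, 3, 1]), (3, [2, 9, 7, 4, 9, 3, 1]), (3, [4, 2, 9, 1, 7, 6, 6, 1])]))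
  (.node [7, 1, 2] (.node [10, 1] (.leaf [(2, [10, 6, 10, 6, 4]), (0, [1, 9, 4, 9, 1])])
  (.leaf [(2, [10, 1, 6, 2, 1]), (0, [10, 1, 6, 10, 9, 1])]))
  (.leaf [(3, [1, 9, 4, 9, 2, 2, 6]), (3, [10, 6, 6, 1, 9, 4, 3]), (3, [4, 2, 9, 1, 9, 6, 6, 1]), (3, [1, 9, 4, 9, 3, 1])]))))))

/-- a formula -/
def ps_31_f : Fm := .all 31 40 [] (.imp (.one (.mul (.l 40) (.l 40))) (.or (.one (.l 40)) (dtF [(.l 5, .l 40), (.mul (.l 7) (.l 8), .l 40), (.l 7, .l 40), (.mul (.l 5) (.mul (.l 7) (.l 8)), .l 40)] (.l 40) ps_31_T)))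

theorem ps_31_ev : sp.eval ps_31_f = true := by decide +kernel

theorem ps_31 {G : Type*} [Group G] {γ : ℕ → G} {k : ℕ} {N : List W} (g : Gf sp γ k N)
    (e : tyB sp k N ps_31_f = true := by decide +kernel) :
    ∀ y ∈ genW γ (sp.ws 31), y * y = 1 → y = 1 ∨ MJ (genW γ (sp.ws 0)) (γ 5) y ∨ MJ (genW γ (sp.ws 0)) (γ 7 * γ 8) y ∨ MJ (genW γ (sp.ws 0)) (γ 7) y ∨ MJ (genW γ (sp.ws 0)) (γ 5 * (γ 7 * γ 8)) y :=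
  fun y a b => (g.transfer e ps_31_ev y a b).imp_right fun h => by
  obtain ⟨q, m, h⟩ := dt_mj h g.zero (sp.ws 0)
  simp only [List.mem_cons, List.not_mem_nil, or_false] at m
  rcases m with rfl | rfl | rfl | rfl
  exacts [.inl h, .inr (.inl h), .inr (.inr (.inl h)), .inr (.inr (.inr (h)))]

/-- a decision tree -/
def ps_F1_T : DT := .node [7] (.node [10] (.node [8] (.node [3] (.node [6] (.leaf [(3, [4, 9, 4, 4, 6])])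
  (.leaf [(1, [2, 2, 1, 9, 1]), (0, [2, 2, 1, 9, 1])]))
  (.node [4] (.node [3, 6] (.leaf [(3, [6])])
  (.leaf [(4, [6, 3, 3]), (4, [10])]))
  (.node [1, 9, 1] (.leaf [(4, [4, 9, 6, 8, 3, 1]), (4, [])])
  (.node [3, 6, 6] (.leaf [(3, [10, 6]), (0, [2, 9, 4, 2, 9, 2])])
  (.node [3, 6] (.leaf [(1, [6, 10])])
  (.leaf [(4, [4, 9, 7, 4, 4]), (4, [4, 9, 4, 4]), (4, [10, 6, 3, 3]), (4, [4, 9, 7, 6, 8, 3, 1])]))))))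
  (.node [3, 8] (.node [6, 3] (.leaf [(3, [6, 6]), (1, [6, 6, 10])])
  (.node [1, 9, 1] (.leaf [(4, [3, 3]), (4, [6, 4, 9, 6, 2])])
  (.node [3, 3, 6] (.leaf [(0, [2, 9, 4, 9, 2]), (3, [10, 6, 6])])
  (.leaf [(4, [10, 6, 4, 9, 6, 2]), (4, [10, 3, 3]), (4, [6, 6]), (4, [4, 7, 2, 9, 4, 4]), (4, [6, 7, 4, 9, 6, 2]), (4, [10, 6, 6])]))))
  (.node [6] (.leaf [(3, [3, 6]), (1, [3, 6, 10])])
  (.node [1, 9, 1] (.leaf [(4, [3]), (4, [8, 6, 4, 9, 6, 2])])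
  (.node [3, 6, 3] (.leaf [(3, [10, 3, 6]), (0, [2, 9, 7, 4, 9, 1])])
  (.leaf [(4, [4, 2, 9, 7, 4, 4]), (4, [8, 6, 6]), (4, [10, 8, 6, 4, 9, 6, 2]), (4, [4, 2, 9, 4, 4]), (4, [10, 8, 6, 6]), (4, [10, 3])]))))))
  (.node [8] (.node [3] (.node [6] (.leaf [(0, []), (1, [])])
  (.leaf [(3, []), (1, [10])]))
  (.node [3, 6] (.leaf [(0, [4, 9, 6, 2]), (1, [4, 9, 6, 2])])
  (.node [3, 6, 6] (.leaf [(0, [4, 9, 7, 6, 2]), (1, [4, 9, 7, 6, 2])])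
  (.node [1, 2] (.leaf [(2, [])])
  (.node [1, 1, 2] (.leaf [(4, [6, 10, 3, 3])])
  (.leaf [(3, [4, 2, 1, 9, 2, 6]), (2, [6, 3, 3]), (3, [2, 9, 4, 1]), (4, [2, 1, 1, 9, 6, 4, 1]), (4, [6, 10, 6, 6]), (4, [2, 2, 1, 9, 1])]))))))
  (.node [3, 8] (.node [6, 3] (.leaf [(0, [6, 4, 9, 6, 2]), (1, [6, 4, 9, 6, 2])])
  (.node [3, 3, 6] (.leaf [(0, [4, 7, 2, 9, 6, 2]), (3, [6, 10, 3, 6])])
  (.node [1, 2] (.leaf [(2, [3, 3])])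
  (.node [1, 1, 2] (.leaf [(4, [6, 6, 10])])
  (.leaf [(3, [2, 9, 4, 2, 2, 1]), (2, [6, 6]), (3, [4, 1, 9, 2, 6]), (4, [2, 8, 1, 9, 3, 1]), (4, [6, 7, 6, 10]), (4, [6, 6, 4, 9, 4, 4])])))))
  (.node [6] (.leaf [(0, [4, 2, 9, 6, 2]), (1, [4, 2, 9, 6, 2])])
  (.node [3, 6, 3] (.leaf [(3, [6, 10, 6]), (0, [4, 2, 9, 7, 6, 2])])
  (.node [1, 2] (.leaf [(2, [3])])
  (.node [1, 1, 2] (.leaf [(4, [8, 6, 6, 10])])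
  (.leaf [(3, [6, 10, 6, 2, 9, 2]), (2, [8, 6, 6]), (3, [2, 9, 4, 2, 1]), (4, [1, 6, 2, 1, 9, 4]), (4, [3, 6, 10, 6, 6]), (4, [2, 2, 1, 9, 3, 1])]))))))))
  (.node [7, 8] (.node [1, 2, 7] (.node [1, 10] (.node [3, 6, 3] (.node [3] (.leaf [(3, [2, 9, 2, 1, 1])])
  (.leaf [(0, [6, 10, 6, 1, 9, 4, 1]), (3, [10, 6, 4, 2, 2])]))
  (.node [6, 8, 3] (.leaf [(4, [3, 6, 3])])
  (.leaf [(4, [1, 9, 6, 7, 4, 1]), (4, [4, 7, 1, 9, 5, 4, 1])])))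
  (.node [3, 6, 3] (.node [3] (.leaf [(2, [2, 2, 9, 4, 3])])
  (.leaf [(3, [6, 10, 4, 6, 6, 1]), (0, [1, 9, 6, 7, 4, 1])]))
  (.node [6, 8, 3] (.leaf [(2, [3, 6, 3])])
  (.leaf [(3, [1, 6, 4, 9, 4, 1]), (3, [1, 1, 9, 4, 1])]))))
  (.node [7, 1, 2] (.node [10, 1] (.node [3, 3, 6] (.node [3] (.leaf [(3, [10, 1, 9, 2, 1])])
  (.leaf [(0, [2, 9, 6, 4, 9, 4, 1]), (3, [1, 10, 2, 6])]))
  (.node [6, 8, 3] (.leaf [(4, [6, 6, 3])])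
  (.leaf [(4, [4, 1, 9, 7, 4, 4, 1]), (4, [7, 1, 9, 6, 7, 4, 1])])))
  (.node [3, 3, 6] (.node [3] (.leaf [(2, [2, 9, 4, 3, 3])])
  (.leaf [(3, [1, 9, 4, 9, 1]), (0, [10, 4, 1, 9, 6, 4])]))
  (.node [6, 8, 3] (.leaf [(2, [6, 6, 3])])
  (.leaf [(3, [10, 6, 5, 4, 9, 4, 1]), (3, [1, 9, 4, 1, 1])]))))
  (.node [3, 3, 6] (.leaf [(4, [4, 9, 1, 9, 6, 6, 1]), (1, [10, 4, 1, 9, 6, 4]), (1, [2, 9, 6, 4, 9, 4, 1]), (4, [10, 6, 2, 9, 6, 7, 4, 3])])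
  (.node [3, 6, 3] (.leaf [(4, [2, 9, 4, 6, 7, 6, 2]), (1, [6, 10, 6, 1, 9, 4, 1]), (4, [4, 2, 9, 6, 4, 9, 3, 1]), (1, [1, 9, 6, 7, 4, 1])])
  (.node [3, 6, 6] (.leaf [(4, [4, 2, 9, 2, 7, 6, 10]), (4, [4, 9, 1, 7, 6, 6, 1]), (4, [2, 9, 4, 2, 9, 2, 6, 3]), (4, [4, 9, 2, 7, 6, 2])])
  (.node [6, 8, 3] (.leaf [(4, [1, 6, 2, 9, 7, 4]), (3, [10, 6, 1, 9, 1]), (4, [4, 2, 9, 2, 6, 10]), (3, [10, 6, 2, 9, 2])])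
  (.leaf [(3, [4, 9, 2, 6, 6, 1]), (4, [2, 9, 6, 4, 9, 4, 1]), (3, [10, 6, 4, 9, 2]), (4, [6, 2, 9, 6, 6, 7, 4]), (3, [4, 9, 1, 6, 4, 6]), (4, [2, 6, 6, 1, 9, 7, 4]), (4, [10, 6, 2, 9, 6, 7, 6, 1]), (3, [10, 6, 4, 4, 9, 1])])))))))
  (.node [3, 7, 8] (.node [1, 2, 7] (.node [1, 10] (.node [3, 6, 6] (.leaf [(3, [10, 4, 6, 6, 1]), (0, [4, 9, 6, 4, 9, 1])])
  (.node [4] (.leaf [(4, [6, 3])])
  (.leaf [(4, [10, 6, 1, 9, 2, 6, 1]), (4, [2, 9, 6, 6, 7, 4])])))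
  (.node [3, 6, 6] (.leaf [(0, [10, 6, 1, 9, 4, 1]), (3, [2, 6, 7, 6, 4])])
  (.node [8, 3, 6] (.leaf [(2, [6, 3])])
  (.leaf [(3, [4, 9, 2, 6, 6]), (3, [8, 1, 9, 4, 2, 1, 1])]))))
  (.node [7, 1, 2] (.node [10, 1] (.node [3, 6, 3] (.leaf [(3, [10, 6, 6, 4]), (0, [1, 9, 4, 2, 9, 1])])
  (.node [3, 10, 4] (.leaf [(4, [3, 6])])
  (.leaf [(4, [10, 3, 1, 6, 10, 9, 1]), (4, [10, 6, 2, 9, 1, 6, 2])])))
  (.node [3, 6, 3] (.leaf [(3, [10, 6, 7, 6, 4]), (0, [1, 10, 6, 4, 9, 1])])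
  (.node [8, 3, 6] (.leaf [(2, [3, 6])])
  (.leaf [(3, [1, 9, 8, 4, 2, 1]), (3, [4, 10, 9, 3, 2, 6])]))))
  (.node [3, 3, 6] (.leaf [(4, [10, 6, 4, 9, 4, 4, 3]), (4, [4, 9, 2, 7, 6, 10]), (4, [2, 9, 4, 9, 2, 6, 3]), (4, [10, 6, 4, 4, 9, 4, 3])])
  (.node [3, 6, 3] (.leaf [(4, [7, 4, 9, 6, 4, 9, 3, 1]), (1, [1, 9, 4, 2, 9, 1]), (4, [10, 6, 2, 9, 2, 6, 6, 1]), (1, [1, 10, 6, 4, 9, 1])])
  (.node [3, 6, 6] (.leaf [(1, [10, 6, 1, 9, 4, 1]), (4, [4, 9, 6, 4, 9, 3, 1]), (1, [4, 9, 6, 4, 9, 1]), (4, [1, 10, 9, 6, 1, 10, 6])])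
  (.node [8, 3, 6] (.leaf [(4, [4, 9, 2, 6, 10]), (3, [6, 2, 9, 4, 2, 1]), (4, [7, 4, 9, 2, 6, 10]), (3, [3, 6, 2, 9, 4, 1])])
  (.leaf [(4, [6, 10, 1, 6, 10, 9, 1]), (3, [2, 9, 6, 7, 6, 1]), (3, [4, 9, 7, 3, 6, 1]), (4, [1, 6, 7, 1, 9, 4, 1]), (3, [4, 7, 1, 9, 6, 1]), (4, [4, 1, 1, 9, 6, 7, 4]), (3, [2, 6, 4, 9, 1, 6]), (4, [1, 9, 4, 2, 9, 1, 6])])))))))
  (.node [7, 8, 3] (.node [1, 2, 7] (.node [1, 10] (.node [3, 3, 6] (.leaf [(0, [7, 1, 9, 4, 9, 1]), (3, [10, 2, 6, 2, 1])])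
  (.node [1, 6, 10] (.leaf [(4, [7, 6])])
  (.leaf [(4, [4, 10, 2, 1, 9, 5, 4, 1]), (4, [10, 2, 6, 10, 9, 1])])))
  (.node [3, 3, 6] (.leaf [(3, [2, 6, 10, 6, 4]), (0, [10, 2, 6, 10, 9, 1])])
  (.node [3, 6, 8] (.leaf [(2, [7, 6])])
  (.leaf [(3, [1, 1, 9, 4, 2, 1]), (3, [7, 6, 1, 9, 4, 1, 1])]))))
  (.node [7, 1, 2] (.node [10, 1] (.node [3, 6, 6] (.leaf [(3, [10, 1, 6, 2, 1]), (0, [1, 9, 4, 9, 1])])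
  (.node [4] (.leaf [(4, [6])])
  (.leaf [(4, [10, 6, 2, 2, 9, 6, 4]), (4, [10, 1, 6, 10, 9, 1])])))
  (.node [3, 6, 6] (.leaf [(3, [10, 6, 10, 6, 4]), (0, [10, 1, 6, 10, 9, 1])])
  (.node [3, 6, 8] (.leaf [(2, [6])])
  (.leaf [(3, [6, 1, 9, 4, 1, 1]), (3, [1, 9, 4, 2, 1, 1])]))))
  (.node [3, 3, 6] (.leaf [(1, [7, 1, 9, 4, 9, 1]), (4, [2, 9, 4, 1, 6, 7, 6, 1]), (1, [10, 2, 6, 10, 9, 1]), (4, [2, 1, 1, 9, 4, 9, 3, 1])])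
  (.node [3, 6, 3] (.leaf [(4, [2, 2, 9, 4, 9, 3, 1]), (4, [4, 2, 9, 2, 7, 6, 2]), (4, [4, 2, 9, 1, 7, 6, 6, 1]), (4, [2, 9, 7, 4, 9, 3, 1])])
  (.node [3, 6, 6] (.leaf [(4, [1, 9, 4, 9, 2, 2, 6]), (1, [1, 9, 4, 9, 1]), (4, [4, 2, 9, 1, 9, 6, 6, 1]), (1, [10, 1, 6, 10, 9, 1])])
  (.node [3, 6, 8] (.node [10, 6, 10] (.leaf [(4, [4, 9, 8, 2, 6, 10]), (4, [6, 4, 9, 7, 4, 4])])
  (.leaf [(3, [7, 6, 2, 9, 4, 1]), (3, [6, 2, 9, 4, 1])]))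
  (.leaf [(3, [4, 9, 6, 4, 1, 1]), (3, [10, 4, 1, 9, 6, 1]), (4, [1, 9, 4, 9, 1, 6]), (3, [10, 4, 9, 3, 6, 1]), (4, [6, 1, 9, 6, 7, 4, 1]), (4, [2, 6, 6, 7, 1, 9, 4]), (3, [4, 10, 1, 9, 6, 1]), (4, [10, 6, 2, 9, 7, 6, 4])])))))))
  (.node [3, 6, 8] (.node [4] (.leaf [(4, [8, 3, 6, 10])])
  (.node [4, 7, 4] (.leaf [(4, [6, 6, 10, 6, 6])])
  (.leaf [(4, [4, 9, 6, 2]), (4, [1, 6, 2, 9, 6, 1]), (4, [6, 10]), (4, [6, 4, 9, 4, 4]), (4, [7, 6, 10]), (4, [7, 4, 9, 6, 2])])))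
  (.node [6, 8, 3] (.leaf [(4, [7, 6, 6, 10, 3]), (4, [4, 2, 9, 2, 6, 2]), (4, [7, 3, 6, 10, 3]), (4, [1, 6, 2, 9, 4]), (4, [3, 6, 10, 3]), (4, [2, 2, 6, 4, 9, 1]), (4, [6, 6, 10, 3]), (4, [2, 8, 6, 4, 9, 1])])
  (.node [4] (.leaf [(4, [3, 6, 10])])
  (.node [4, 7, 4] (.leaf [(4, [7, 3, 6, 10])])
  (.leaf [(4, [4, 9, 6, 3, 2]), (4, [7, 4, 2, 9, 6, 2]), (4, [7, 6, 10, 3]), (4, [6, 10, 3]), (4, [4, 2, 9, 6, 2]), (4, [4, 9, 2, 6, 2])]))))))))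

/-- a formula -/
def ps_F1_f : Fm := .all 15 40 [(.l 9, .l 9)] (.imp (.one (.mul (.l 40) (.l 40))) (.or (.one (.l 40)) (dtF [(.l 5, .l 40), (.l 5, .mul (.l 40) (.l 9)), (.mul (.l 7) (.l 8), .mul (.l 40) (.l 5)), (.l 7, .mul (.l 40) (.l 5)), (.mul (.l 5) (.mul (.l 7) (.l 8)), .mul (.l 40) (.l 5))] (.l 40) ps_F1_T)))

theorem ps_F1_ev : sp.eval ps_F1_f = true := by decide +kernel

theorem ps_F1 {G : Type*} [Group G] {γ : ℕ → G} {k : ℕ} {N : List W} (g : Gf sp γ k N)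
    (e : tyB sp k N ps_F1_f = true := by decide +kernel) :
    ∀ y ∈ genW γ (sp.ws 15), y * γ 9 = γ 9 * y → y * y = 1 → y = 1 ∨ MJ (genW γ (sp.ws 0)) (γ 5) y ∨ MJ (genW γ (sp.ws 0)) (γ 5) (y * γ 9) ∨ MJ (genW γ (sp.ws 0)) (γ 7 * γ 8) (y * γ 5) ∨ MJ (genW γ (sp.ws 0)) (γ 7) (y * γ 5) ∨ MJ (genW γ (sp.ws 0)) (γ 5 * (γ 7 * γ 8)) (y * γ 5) :=
  fun y a p0 b => (g.transfer e ps_F1_ev y a p0 b).imp_right fun h => by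
  obtain ⟨q, m, h⟩ := dt_mj h g.zero (sp.ws 0)
  simp only [List.mem_cons, List.not_mem_nil, or_false] at m
  rcases m with rfl | rfl | rfl | rfl | rfl
  exacts [.inl h, .inr (.inl h), .inr (.inr (.inl h)), .inr (.inr (.inr (.inl h))), .inr (.inr (.inr (.inr (h))))]

/-- a decision tree -/
def ps_F3_T : DT := .node [9] (.node [7] (.node [10] (.node [3] (.node [6] (.leaf [(1, [1, 9, 4, 3])])
  (.leaf [(2, []), (0, [2, 2, 1, 9, 1])]))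
  (.node [4] (.node [3, 6] (.leaf [(0, [6, 10])])
  (.leaf [(5, [10, 6]), (6, [])]))
  (.node [1, 9, 1] (.leaf [(5, [1, 9, 2, 9, 1, 1]), (1, [])])
  (.node [3, 6, 6] (.leaf [(2, [3, 6, 10, 3, 6]), (0, [2, 9, 4, 2, 9, 2])])
  (.node [3, 6] (.leaf [(2, [4, 6, 2, 9, 2, 1])])
  (.leaf [(3, [4, 9, 7, 6, 2]), (3, [4, 9, 6, 2]), (5, [6]), (2, [2, 9, 4, 1])]))))))
  (.node [3] (.node [6] (.leaf [(0, []), (5, [2, 9, 4, 1])])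
  (.leaf [(0, [10]), (2, [1, 9, 2, 9, 1, 1])]))
  (.node [3, 6] (.leaf [(0, [4, 9, 6, 2]), (2, [6])])
  (.node [3, 6, 6] (.leaf [(0, [4, 9, 7, 6, 2]), (2, [10, 6])])
  (.node [1, 2] (.leaf [(8, [])])
  (.node [1, 1, 2] (.leaf [(5, [])])
  (.leaf [(3, [2, 9, 4, 2, 9, 2]), (6, [10, 6]), (4, [1, 9, 4, 3]), (5, [4, 6, 2, 9, 2, 1]), (6, [6]), (3, [2, 2, 1, 9, 1])])))))))
  (.node [1, 2, 7] (.node [1, 10] (.node [3, 6, 3] (.node [3] (.leaf [(1, [2, 2, 9, 4, 3])])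
  (.leaf [(6, [1, 6, 4, 9, 4, 1]), (2, [6, 10, 4, 6, 6, 1])]))
  (.node [6, 8, 3] (.leaf [(1, [3, 6, 3])])
  (.leaf [(2, [1, 1, 9, 4, 1]), (2, [1, 6, 4, 9, 4, 1])])))
  (.node [3, 6, 3] (.node [3] (.leaf [(2, [2, 9, 2, 1, 1])])
  (.leaf [(4, [3, 6, 3]), (0, [1, 9, 6, 7, 4, 1])]))
  (.node [6, 8, 3] (.leaf [(8, [3, 6, 3])])
  (.leaf [(3, [6, 10, 6, 1, 9, 4, 1]), (4, [2, 2, 9, 4, 3])]))))
  (.node [7, 1, 2] (.node [10, 1] (.node [3, 3, 6] (.node [3] (.leaf [(1, [2, 9, 4, 3, 3])])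
  (.leaf [(0, [2, 9, 6, 4, 9, 4, 1]), (2, [1, 9, 4, 9, 1])]))
  (.node [6, 8, 3] (.leaf [(1, [6, 6, 3])])
  (.leaf [(3, [10, 4, 1, 9, 6, 4]), (2, [1, 9, 4, 1, 1])])))
  (.node [3, 3, 6] (.node [3] (.leaf [(2, [10, 1, 9, 2, 1])])
  (.leaf [(4, [6, 6, 3]), (0, [10, 4, 1, 9, 6, 4])]))
  (.node [6, 8, 3] (.leaf [(8, [6, 6, 3])])
  (.leaf [(3, [2, 9, 6, 4, 9, 4, 1]), (4, [2, 9, 4, 3, 3])]))))
  (.node [3, 3, 6] (.leaf [(5, [10, 6, 1, 9, 1]), (6, [10, 6, 4, 9, 2]), (5, [10, 6, 4, 9, 2]), (6, [10, 6, 1, 9, 1])])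
  (.node [3, 6, 3] (.leaf [(5, [10, 6, 2, 9, 2]), (5, [10, 6, 4, 4, 9, 1]), (6, [10, 6, 2, 9, 2]), (6, [10, 6, 4, 4, 9, 1])])
  (.node [3, 6, 6] (.leaf [(6, [4, 9, 2, 6, 6, 1]), (5, [4, 9, 1, 6, 4, 6]), (6, [4, 9, 1, 6, 4, 6]), (5, [4, 9, 2, 6, 6, 1])])
  (.node [6, 8, 3] (.leaf [(2, [10, 6, 1, 9, 1]), (7, [10, 6, 2, 9, 6, 7, 4, 3]), (2, [10, 6, 2, 9, 2]), (7, [4, 2, 9, 6, 4, 9, 3, 1])])
  (.leaf [(7, [4, 2, 9, 2, 7, 6, 10]), (2, [4, 9, 1, 6, 4, 6]), (7, [1, 9, 4, 2, 2, 9, 3, 1]), (2, [4, 9, 2, 6, 6, 1]), (7, [2, 9, 4, 2, 9, 2, 6, 3]), (2, [10, 6, 4, 9, 2]), (2, [10, 6, 4, 4, 9, 1]), (7, [6, 10, 6, 1, 9, 4, 3, 1])]))))))))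
  (.node [1, 2, 7] (.node [1, 10] (.node [3] (.leaf [(2, [7, 2, 1]), (0, [2, 9, 1])])
  (.node [6] (.leaf [(2, [9, 4, 2, 6, 2]), (0, [3, 6, 10, 2])])
  (.leaf [(5, [9, 7, 2, 1]), (5, [4, 2, 6, 2]), (3, [10, 2]), (3, [3, 6, 2, 9, 1])])))
  (.node [3] (.leaf [(2, [9, 7, 2, 1]), (0, [10, 2])])
  (.node [6] (.leaf [(2, [4, 2, 6, 2]), (0, [3, 6, 2, 9, 1])])
  (.node [7, 1] (.leaf [(5, [7, 2, 1])])
  (.leaf [(5, [9, 4, 2, 6, 2]), (3, [2, 9, 1]), (3, [3, 6, 10, 2])])))))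
  (.node [10, 1] (.node [3] (.leaf [(2, [2, 1]), (0, [10, 9, 1])])
  (.node [6, 3] (.leaf [(0, [6, 6, 10, 1]), (2, [9, 2, 1, 6])])
  (.leaf [(6, [9, 2, 1, 6]), (5, [2, 1, 6]), (3, [10, 1]), (5, [9, 2, 1])])))
  (.node [3] (.leaf [(0, [10, 1]), (2, [9, 2, 1])])
  (.node [6, 3] (.leaf [(0, [6, 6, 10, 9, 1]), (2, [2, 1, 6])])
  (.node [1, 7] (.leaf [(5, [2, 1])])
  (.leaf [(5, [9, 2, 1, 6]), (6, [2, 1, 6]), (3, [10, 9, 1])]))))))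

/-- a formula -/
def ps_F3_f : Fm := .all 15 40 [(.mul (.l 7) (.l 8), .mul (.l 7) (.l 8))] (.imp (.one (.mul (.l 40) (.l 40))) (.or (.one (.l 40)) (dtF [(.l 5, .l 40), (.mul (.l 7) (.l 8), .l 40), (.l 7, .l 40), (.l 5, .mul (.l 40) (.mul (.l 5) (.mul (.l 7) (.l 8)))), (.mul (.l 7) (.l 8), .mul (.l 40) (.mul (.l 5) (.mul (.l 7) (.l 8)))), (.l 7, .mul (.l 40) (.mul (.l 5) (.mul (.l 7) (.l 8)))), (.l 7, .mul (.l 40) (.mul (.l 7) (.l 8))), (.mul (.l 5) (.mul (.l 7) (.l 8)), .mul (.l 40) (.mul (.l 7) (.l 8))), (.mul (.l 7) (.l 8), .mul (.l 40) (.l 5))] (.l 40) ps_F3_T)))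

theorem ps_F3_ev : sp.eval ps_F3_f = true := by decide +kernel

theorem ps_F3 {G : Type*} [Group G] {γ : ℕ → G} {k : ℕ} {N : List W} (g : Gf sp γ k N)
    (e : tyB sp k N ps_F3_f = true := by decide +kernel) :
    ∀ y ∈ genW γ (sp.ws 15), y * (γ 7 * γ 8) = γ 7 * γ 8 * y → y * y = 1 → y = 1 ∨ MJ (genW γ (sp.ws 0)) (γ 5) y ∨ MJ (genW γ (sp.ws 0)) (γ 7 * γ 8) y ∨ MJ (genW γ (sp.ws 0)) (γ 7) y ∨ MJ (genW γ (sp.ws 0)) (γ 5) (y * (γ 5 * (γ 7 * γ 8))) ∨ MJ (genW γ (sp.ws 0)) (γ 7 * γ 8) (y * (γ 5 * (γ 7 * γ 8))) ∨ MJ (genW γ (sp.ws 0)) (γ 7) (y * (γ 5 * (γ 7 * γ 8))) ∨ MJ (genW γ (sp.ws 0)) (γ 7) (y * (γ 7 * γ 8)) ∨ MJ (genW γ (sp.ws 0)) (γ 5 * (γ 7 * γ 8)) (y * (γ 7 * γ 8)) ∨ MJ (genW γ (sp.ws 0)) (γ 7 * γ 8) (y * γ 5) :=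
  fun y a p0 b => (g.transfer e ps_F3_ev y a p0 b).imp_right fun h => by
  obtain ⟨q, m, h⟩ := dt_mj h g.zero (sp.ws 0)
  simp only [List.mem_cons, List.not_mem_nil, or_false] at m
  rcases m with rfl | rfl | rfl | rfl | rfl | rfl | rfl | rfl | rfl
  exacts [.inl h, .inr (.inl h), .inr (.inr (.inl h)), .inr (.inr (.inr (.inl h))), .inr (.inr (.inr (.inr (.inl h)))), .inr (.inr (.inr (.inr (.inr (.inl h))))), .inr (.inr (.inr (.inr (.inr (.inr (.inl h)))))), .inr (.inr (.inr (.inr (.inr (.inr (.inr (.inl h))))))), .inr (.inr (.inr (.inr (.inr (.inr (.inr (.inr (h))))))))]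

end Cfsg.Lib.Loc3
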