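import Cfsg.Agent.Lib.Loc3.SpM
import Cfsg.Agent.Lib.Loc3.Gen6

/-! Facts about the 3-local subgroups of `S₉` (generated data, helper8). -/

set_option autoImplicit false
set_option maxRecDepth 1000000
set_option maxHeartbeats 0

namespace Cfsg.Lib.Loc3

open Cfsg.Lib.Calc Cfsg.Lib.Grp Cfsg.Lib.T2 Cfsg.Lib.T3
open Cfsg.Lib.T2.L (MJ)

def sq_L0 : List (ℕ × List ℕ) := [((nat_lit 4), [(nat_lit 0xdeb38bdab49ca307b9ac5a928398a418820), (nat_lit 0xddeb8b6a997b63074d923a8a832c8918820), (nat_lit 0xde96abd8e69c8627b9ac4a338292b408230), (nat_lit 0xde3598c2725216918820bd6d47b5cc394c4), (nat_lit 0xdeb199ca30bdab47b5cc52d0918820398a4), (nat_lit 0xde90901e5420ed07e32c5a9cd8dca2acc26), (nat_lit 0xdeb38b5e9594e11635cf5a92831c8510c01), (nat_lit 0xdeb38b5e9594e11635cf4a16a214c700443), (nat_lit 0xde928bd8a49c8207b9acce16aad0e68c062), (nat_lit 0xde9ae34474154f07a50c5ab19b00b391037), (nat_lit 0xddceab68cb7b46274d922a2b82269908230),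 (nat_lit 0xdc6798625a18569128087d5d46dd96394c4), (nat_lit 0xdce3996a187bab46dd961ac2912808398a4), (nat_lit 0xd82493ea887e6d0c11838a8adbac4eacc26), (nat_lit 0xdda98beab963a116c9f3220ca2a4eb00443), (nat_lit 0xdad5a4e51839af62d4941cc520c4107b9ac), (nat_lit 0xd986e8ea8d7a0f048995b28b902e7891037), (nat_lit 0xde2f58c1ed520e518820b53597327231169), (nat_lit 0xde96ab5cc794c43635cf4a3382169500611), (nat_lit 0xde359846535216910c01b52f5639af310e5), (nat_lit 0xde3598c2725216918820b52f5731ed310e5), (nat_lit 0xdeb1994e11b5e95639af52d0910c0131c85), (nat_lit 0xdeb1994e11b5e95639af4254b00443214c7), (nat_lit 0xde9cd154f0344747a12c52f3891037b00b3), (nat_lit 0xdcc2941f54209d86c73658d9783caaac806), (nat_lit 0xde90938292192166670f7356a116f130675), (nat_lit 0xdc9f6361541d4f1ba40e58a19604ba9910d), (nat_lit 0xd4996365741d4f1ba00d50a18784bb9912e)]),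
  ((nat_lit 0), [(nat_lit 0xdeb38bdab49ca307b9ac5a928398a418820), (nat_lit 0xdb6b01e51236137d00aeb4c475c5e455181), (nat_lit 0xdbed282f22550d82b34138e3544da4ba40e), (nat_lit 0xd9517554f88c043685e0c9a8bb27449c9cc), (nat_lit 0xa3f126172256cd65c34148dd544da4b9c11), (nat_lit 0xa2d175553673043685e0c9b65c1f449ca30), (nat_lit 0x96a1873eb49ee39b5dac12808398a41ac29), (nat_lit 0x116540b6c91ee6b3e1e08dd99aab44821c6), (nat_lit 0x958e39a05903a8a2b341ac76f82da436137), (nat_lit 0x11eb01e62b60537d00aeb4f6d921e4550d8), (nat_lit 0xc36f00691236d35c8caea4c275c5e455982), (nat_lit 0x969968bebb9d1d9c5db0128084996419427), (nat_lit 0x4b68206971bed47448ae34036c8de4c5593), (nat_lit 0xc656a31e95082537b9ac4277abd8a48c043), (nat_lit 0x126ac1e5c5804f7d0171c4e8d921e456cd6), (nat_lit 0x4a338bd8c7082307b9ac5ab7aa54a418a72), (nat_lit 0x814770b4f88ec48aa9e09198bb27449e5d4), (nat_lit 0xc35d94e91b3481580cb7a4c27146c453d8b),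 (nat_lit 0xa3c2b3173b509969435848dd58cce4bb408), (nat_lit 0x8e84973ce686c68ad1ac9e00bb5ca49642a), (nat_lit 0xa090e5540fbb163686c981a45c1f449ee39), (nat_lit 0x62c770b53675048aa9e091a05c1f449e63b), (nat_lit 0xb36393e9143481560d77dcc2913b0453e05), (nat_lit 0x114079b6db1a42ba61f28dd9932904869d5), (nat_lit 0xc95355b4f28e02872ac3d9982a02049eaef), (nat_lit 0x5e8d643ea29d1d90dcf0da8114b2441970d), (nat_lit 0xabc48b15784c18704f2adc5d4906e43347a)]),
  ((nat_lit 1), [(nat_lit 0xdeb38bdab49ca307b9ac5a928398a418820), (nat_lit 0x9d1d9da22262e4680cb73870d4eac453ea0), (nat_lit 0xb9b096143adc6af1651390cf65c1a475140), (nat_lit 0x6086e9b64fb9d7a32adb4d725c51040c220), (nat_lit 0x641279b546bd422a62db8b96593d04ce860), (nat_lit 0xbbd4361570da4f4d0513c45d6c89a4a9a40), (nat_lit 0x808719b64fba4ba32b143d72bb6d040b1c0), (nat_lit 0xdc02abd8e69e122a55accc86873ca48e960), (nat_lit 0x7d1d5da22261da680d3a587122dec454f20),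 (nat_lit 0x99aa1da13a6670f144b772d4d1c2c4950e0), (nat_lit 0xa302abe1269d8e2dd5b0cc8688bd64768a0), (nat_lit 0x16b21bdab49ad107b8e6929316b0a41ef00), (nat_lit 0x66a359b714bbb307cadb19c255190458920), (nat_lit 0x15ea1de71a6212f9c4a672d4d940e41d2c0), (nat_lit 0xd4d43624f0d9574b850fc45d6a8a44c99a0), (nat_lit 0x7ee359bb34bb71064ada19c255992450900)]),
  ((nat_lit 2), [(nat_lit 0xdeb38bdab49ca307b9ac5a928398a418820), (nat_lit 0x35179da0b763a5380e223d70a4eac46bc20), (nat_lit 0xb9b09a155a845af14873ca0f65eea473020), (nat_lit 0xd5ceb32adb10dcc9b64f49735c51048c020), (nat_lit 0xa6d27d55067b462645d0c5965cdd4494c20)]),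
  ((nat_lit 8), [(nat_lit 0xdeb38bdab49ca307b9ac5a928398a418820), (nat_lit 0xa6f16d57377b653645d049d654194418820), (nat_lit 0xd5eb9a62db845cc9b64f495675190418820), (nat_lit 0xbd2d5de71a639af84a335a12a298e418820), (nat_lit 0xdd2d8d57377b65383a2c3a4ab4194418820), (nat_lit 0xd5eb9ddb1463a309b64f3aca95190418820)]),
  ((nat_lit 5), [(nat_lit 0xdeb38bdab49ca307b9ac5a928398a418820), (nat_lit 0xa6b36be2bb9c9cc7c5b02a8e84996418820), (nat_lit 0xddeb8d5b347b6309ba4c3a8a85992418820), (nat_lit 0xa5eb6d633b7b5cc9c6504a968298e418820)])]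

def sq_D0 : List ℕ := [(nat_lit 0), (nat_lit 513), (nat_lit 1537), (nat_lit 2049), (nat_lit 2561), (nat_lit 3073), (nat_lit 3585), (nat_lit 4097), (nat_lit 1793), (nat_lit 3329), (nat_lit 259586), (nat_lit 272386), (nat_lit 285186), (nat_lit 297986), (nat_lit 311298), (nat_lit 321794), (nat_lit 335106), (nat_lit 374786), (nat_lit 389634), (nat_lit 433666), (nat_lit 449538), (nat_lit 495106), (nat_lit 510978), (nat_lit 525570), (nat_lit 574466), (nat_lit 666626), (nat_lit 759042), (nat_lit 1444354), (nat_lit 0), (nat_lit 78946051), (nat_lit 107050755), (nat_lit 12225599236), (nat_lit 13435803908), (nat_lit 14742019332), (nat_lit 16149535492), (nat_lit 17278301444), (nat_lit 18820326148), (nat_lit 20077990148), (nat_lit 21803444996), (nat_lit 23153112324), (nat_lit 25159107332), (nat_lit 27202023172), (nat_lit 29397471492), (nat_lit 31144240388), (nat_lit 33541223172), (nat_lit 36120715012),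 (nat_lit 38134249220), (nat_lit 40972147972), (nat_lit 44756853508), (nat_lit 48823246084), (nat_lit 52232220932), (nat_lit 55887451396), (nat_lit 62671295236), (nat_lit 65758802180), (nat_lit 71074581252), (nat_lit 0), (nat_lit 9273999809797), (nat_lit 9323278383365), (nat_lit 0x622fb278e1906), (nat_lit 0x6b089e9742d06), (nat_lit 0x749b5184c5506), (nat_lit 105723088132), (nat_lit 0x89d2828e65106), (nat_lit 0x9589fb30bb506), (nat_lit 0xa229a81340d06), (nat_lit 131518291204), (nat_lit 0xbb6aab7d95706), (nat_lit 0xcaa27bac5af06), (nat_lit 0xdad068f470506), (nat_lit 0xe8f2bc8fb1106), (nat_lit 0x101a9f32e3c106), (nat_lit 0), (nat_lit 30376381918469), (nat_lit 30642765358341), (nat_lit 0x158e1e2ac9e106), (nat_lit 0x171ef12f998906), (nat_lit 0), (nat_lit 41819540920581), (nat_lit 43238375186693), (nat_lit 0x1e68b80b976d06), (nat_lit 271997118724), (nat_lit 284248251652), (nat_lit 0), (nat_lit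 398992643), (nat_lit 60129345159941), (nat_lit 0x2cd6069a427506)]

def sq_L1 : List (ℕ × List ℕ) := [((nat_lit 4), [(nat_lit 0xdeb38bdab49ca307b9ac5a928398a418820), (nat_lit 0xddeb8b6a997b63074d923a8a832c8918820), (nat_lit 0xde96abd8e69c8627b9ac4a338292b408230), (nat_lit 0xde3598c2725216918820bd6d47b5cc394c4), (nat_lit 0xdeb199ca30bdab47b5cc52d0918820398a4), (nat_lit 0xdeb38b5e9594e11635cf5a92831c8510c01), (nat_lit 0xdeb38b5e9594e11635cf4a16a214c700443), (nat_lit 0xde928bd8a49c8207b9acce16aad0e68c062), (nat_lit 0xddceab68cb7b46274d922a2b82269908230), (nat_lit 0xdc6798625a18569128087d5d46dd96394c4), (nat_lit 0xdce3996a187bab46dd961ac2912808398a4), (nat_lit 0xdda98beab963a116c9f3220ca2a4eb00443), (nat_lit 0xdad5a4e51839af62d4941cc520c4107b9ac), (nat_lit 0xde2f58c1ed520e518820b53597327231169), (nat_lit 0xde96ab5cc794c43635cf4a3382169500611), (nat_lit 0xde359846535216910c01b52f5639af310e5),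 (nat_lit 0xde3598c2725216918820b52f5731ed310e5), (nat_lit 0xdc259c47531016950d016d594bbece394c4), (nat_lit 0xdeb1994e11b5e95639af52d0910c0131c85), (nat_lit 0xdeb1994e11b5e95639af4254b00443214c7), (nat_lit 0xde9099c820bd8a47b5ccc654b8c062ad0e6), (nat_lit 0xdc5f5861b7184e5128087527965a5a31169), (nat_lit 0xdcc6b9684a7b8e66dd960a63902218292b4), (nat_lit 0xdc2598e27a101691a828651b5759f7310e5), (nat_lit 0xdca199ea3863695759f70244b0a06a214c7), (nat_lit 0xda51a5e558216d7350f50483314071635cf), (nat_lit 0xde2d48458e520c410c01bd7596be5339569)]),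
  ((nat_lit 0), [(nat_lit 0xdeb38bdab49ca307b9ac5a928398a418820), (nat_lit 0xde2b7520e5845af10061cea965a4c494d8e), (nat_lit 0xdcf317bab496a186b2f658d21398a412808), (nat_lit 0xddeb8d5b346be119326e3a8a85992410c01), (nat_lit 0xdc6af184e5c42ed52040cce8e5a4c4d4acc), (nat_lit 0xdc2ad100e58e1f718548cca8c5a4c49e9d6)]),
  ((nat_lit 1), [(nat_lit 0xdeb38bdab49ca307b9ac5a928398a418820), (nat_lit 0xdbeb19bb34bb710d5a4c38ca15992450900)]),
  ((nat_lit 2), [(nat_lit 0xdeb38bdab49ca307b9ac5a928398a418820), (nat_lit 0xddcead59667b4629ba4cae0a8cd1248c020)]),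
  ((nat_lit 5), [(nat_lit 0xdeb38bdab49ca307b9ac5a928398a418820), (nat_lit 0xddeb8d5b347b6309ba4c3a8a85992418820)])]

def sq_D1 : List ℕ := [(nat_lit 0), (nat_lit 513), (nat_lit 1537), (nat_lit 2049), (nat_lit 2561), (nat_lit 3073), (nat_lit 3585), (nat_lit 1793), (nat_lit 175618), (nat_lit 186370), (nat_lit 197122), (nat_lit 208386), (nat_lit 217346), (nat_lit 249858), (nat_lit 262146), (nat_lit 297986), (nat_lit 311298), (nat_lit 320770), (nat_lit 362498), (nat_lit 376322), (nat_lit 387842), (nat_lit 524290), (nat_lit 542210), (nat_lit 592898), (nat_lit 645634), (nat_lit 698626), (nat_lit 791554), (nat_lit 0), (nat_lit 81466627), (nat_lit 1025), (nat_lit 559618), (nat_lit 1516546), (nat_lit 1554690), (nat_lit 0), (nat_lit 1718274), (nat_lit 0), (nat_lit 13930636548), (nat_lit 0), (nat_lit 36910339)]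

def sq_L2 : List (ℕ × List ℕ) := [((nat_lit 4), [(nat_lit 0xdeb38bdab49ca307b9ac5a928398a418820), (nat_lit 0xddeb8b6a997b63074d923a8a832c8918820), (nat_lit 0xde96abd8e69c8627b9ac4a338292b408230), (nat_lit 0xde3598c2725216918820bd6d47b5cc394c4), (nat_lit 0xdeb199ca30bdab47b5cc52d0918820398a4), (nat_lit 0xdeb38b5e9594e11635cf5a92831c8510c01), (nat_lit 0xde928bd8a49c8207b9acce16aad0e68c062), (nat_lit 0xddceab68cb7b46274d922a2b82269908230), (nat_lit 0xdc6798625a18569128087d5d46dd96394c4), (nat_lit 0xdce3996a187bab46dd961ac2912808398a4), (nat_lit 0xddca8b68897b42074d92ae0eaa64cb8c062), (nat_lit 0xdad5a4e51839af62d4941cc520c4107b9ac), (nat_lit 0xde2f58c1ed520e518820b53597327231169), (nat_lit 0xde96ab5cc794c43635cf4a3382169500611), (nat_lit 0xde359846535216910c01b52f5639af310e5), (nat_lit 0xde2d48c1cc520c418820d66f59c9ed5a4e5), (nat_lit 0xdc259c47531016950d016d594bbece394c4), (nat_lit 0xdeb1994e11b5e95639af52d0910c0131c85),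 (nat_lit 0xde9099c820bd8a47b5ccc654b8c062ad0e6), (nat_lit 0xde928b5c8594c01635cfce16aa54c784443), (nat_lit 0xdc5f5861b7184e5128087527965a5a31169), (nat_lit 0xdcc6b9684a7b8e66dd960a63902218292b4), (nat_lit 0xdc2598e27a101691a828651b5759f7310e5), (nat_lit 0xdcc29968087b8a46dd968e46b8604aad0e6), (nat_lit 0xdac524e410399ac2d4945687346031bd9ee), (nat_lit 0xde2d48458e520c410c01bd7596be5339569), (nat_lit 0xde71a4ad0aad2f629c8684a33008236b1ee)]),
  ((nat_lit 0), [(nat_lit 0xdeb38bdab49ca307b9ac5a928398a418820), (nat_lit 0xde2b7520e5845af10061cea965a4c494d8e), (nat_lit 0xdcf317bab496a186b2f658d21398a412808), (nat_lit 0xddeb8d5b346be119326e3a8a85992410c01), (nat_lit 0xdc6af184e5c42ed52040cce8e5a4c4d4acc), (nat_lit 0xdc2ad100e58e1f718548cca8c5a4c49e9d6)]),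
  ((nat_lit 1), [(nat_lit 0xdeb38bdab49ca307b9ac5a928398a418820), (nat_lit 0xdbeb19bb34bb710d5a4c38ca15992450900)]),
  ((nat_lit 2), [(nat_lit 0xdeb38bdab49ca307b9ac5a928398a418820), (nat_lit 0xddcead59667b4629ba4cae0a8cd1248c020)])]

def sq_D2 : List ℕ := [(nat_lit 0), (nat_lit 513), (nat_lit 1537), (nat_lit 2049), (nat_lit 2561), (nat_lit 3073), (nat_lit 1793), (nat_lit 116226), (nat_lit 124930), (nat_lit 133634), (nat_lit 141058), (nat_lit 149762), (nat_lit 177154), (nat_lit 187394), (nat_lit 218114), (nat_lit 226050), (nat_lit 236802), (nat_lit 273410), (nat_lit 283394), (nat_lit 321282), (nat_lit 389122), (nat_lit 403970), (nat_lit 448514), (nat_lit 493314), (nat_lit 541954), (nat_lit 625666), (nat_lit 711682), (nat_lit 0), (nat_lit 55349507), (nat_lit 1025), (nat_lit 455170), (nat_lit 1362946), (nat_lit 1399042), (nat_lit 0), (nat_lit 1554434), (nat_lit 0), (nat_lit 11481620740)]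

def sq_L3 : List (ℕ × List ℕ) := [((nat_lit 4), [(nat_lit 0xdeb38bdab49ca307b9ac5a928398a418820), (nat_lit 0xddeb8b6a997b63074d923a8a832c8918820), (nat_lit 0xde96abd8e69c8627b9ac4a338292b408230), (nat_lit 0xde3598c2725216918820bd6d47b5cc394c4), (nat_lit 0xdeb199ca30bdab47b5cc52d0918820398a4), (nat_lit 0xdeb38b5e9594e11635cf4a16a214c700443), (nat_lit 0xdda98d5f35732309be4d3288859d2518820), (nat_lit 0xde928bd8a49c8207b9acce16aad0e68c062), (nat_lit 0xddceab68cb7b46274d922a2b82269908230), (nat_lit 0xdc6798625a18569128087d5d46dd96394c4), (nat_lit 0xdce3996a187bab46dd961ac2912808398a4), (nat_lit 0xdda98beab963a116c9f3220ca2a4eb00443), (nat_lit 0xdad5a4e51839af62d4941cc520c4107b9ac), (nat_lit 0xde2f58c1ed520e518820b53597327231169), (nat_lit 0xde928b5c8594c01635cf5ab3831e9510e11), (nat_lit 0xde359846534292b00443b52f5639af218a7), (nat_lit 0xde2d48c1cc520c418820d66f59c9ed5a4e5), (nat_lit 0xdc259c47531016950d016d594bbece394c4),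 (nat_lit 0xdeb1994e11b5e95639af4254b00443214c7), (nat_lit 0xdca19d4f116b2b4bbece12c0950d01398a4), (nat_lit 0xde9099c820bd8a47b5ccc654b8c062ad0e6), (nat_lit 0xdc5f5861b7184e5128087527965a5a31169), (nat_lit 0xdcc6b9684a7b8e66dd960a63902218292b4), (nat_lit 0xdc2598e27a0092b0a06a651b5759f7218a7), (nat_lit 0xdca199ea3863695759f70244b0a06a214c7), (nat_lit 0xda51a5e558216d7350f50483314071635cf), (nat_lit 0xde2d48458e4288600443bd7596be5329d2b)]),
  ((nat_lit 0), [(nat_lit 0xdeb38bdab49ca307b9ac5a928398a418820), (nat_lit 0xdcf317bab496a186b2f658d21398a412808), (nat_lit 0xde33a521698c27218440ade96394c47b5cc), (nat_lit 0xddcead59666bc439326eae0a8cd12484401), (nat_lit 0xdc733185698625a10148abe8e394c46dd96), (nat_lit 0xda8f7c22a510daf802215e8d6ca68494d8e)]),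
  ((nat_lit 1), [(nat_lit 0xdeb38bdab49ca307b9ac5a928398a418820), (nat_lit 0xdbce39b966bb542d5a4cac4a1cd124c4100)])]

def sq_D3 : List ℕ := [(nat_lit 0), (nat_lit 513), (nat_lit 1537), (nat_lit 2049), (nat_lit 2561), (nat_lit 3073), (nat_lit 769), (nat_lit 1793), (nat_lit 124418), (nat_lit 133122), (nat_lit 141826), (nat_lit 150530), (nat_lit 157954), (nat_lit 186370), (nat_lit 196610), (nat_lit 228354), (nat_lit 236290), (nat_lit 247042), (nat_lit 284674), (nat_lit 294146), (nat_lit 305922), (nat_lit 432130), (nat_lit 448002), (nat_lit 494594), (nat_lit 542722), (nat_lit 592130), (nat_lit 678914), (nat_lit 0), (nat_lit 1025), (nat_lit 407554), (nat_lit 33689859), (nat_lit 103936003), (nat_lit 8784369924), (nat_lit 0), (nat_lit 1554434)]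

def sq_L4 : List (ℕ × List ℕ) := [((nat_lit 0), [(nat_lit 0xdeb38bdab49ca307b9ac5a928398a418820), (nat_lit 0xdeb199ca30bdab47b5cc52d0918820398a4), (nat_lit 0xdeb38b5e9594e11635cf4a16a214c700443), (nat_lit 0xdeb1994e11b5e95639af4254b00443214c7)])]

def sq_D4 : List ℕ := [(nat_lit 0), (nat_lit 513), (nat_lit 1025), (nat_lit 25602)]

def sq_L5 : List (ℕ × List ℕ) := [((nat_lit 0), [(nat_lit 0xdeb38bdab49ca307b9ac5a928398a418820), (nat_lit 0xdeb199ca30bdab47b5cc52d0918820398a4), (nat_lit 0xdeb38b5e9594e11635cf5a92831c8510c01), (nat_lit 0xdeb38bdab494e116b1ee4a16a290e600443), (nat_lit 0xdeb1994e11b5e95639af52d0910c0131c85), (nat_lit 0xdeb1994e11bdab46bd8e4254b00443290e6), (nat_lit 0xdeb38b5e959ca3073d8d4a16a214c708062), (nat_lit 0xdeb199ca30b5e95731ed4254b08062214c7)])]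

def sq_D5 : List ℕ := [(nat_lit 0), (nat_lit 513), (nat_lit 1025), (nat_lit 1537), (nat_lit 41986), (nat_lit 47618), (nat_lit 62978), (nat_lit 79362)]

def sq_L6 : List (ℕ × List ℕ) := [((nat_lit 0), [(nat_lit 0xdeb38bdab49ca307b9ac5a928398a418820), (nat_lit 0xdeb199ca30bdab47b5cc52d0918820398a4), (nat_lit 0xdeb38b5e9594e11635cf5a92831c8510c01), (nat_lit 0xdeb38bdab494e116b1ee4a16a290e600443), (nat_lit 0xdeb1994e11b5e95639af52d0910c0131c85), (nat_lit 0xdeb1994e11bdab46bd8e4254b00443290e6), (nat_lit 0xdeb1994e11b5e95639af4254b00443214c7), (nat_lit 0xdeb38b5e959ca3073d8d4a16a214c708062)]),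
  ((nat_lit 4), [(nat_lit 0xdeb38bdab49ca307b9ac5a928398a418820), (nat_lit 0xdeb38b5e959ca3073d8d5a92831c8518820)])]

def sq_D6 : List ℕ := [(nat_lit 0), (nat_lit 513), (nat_lit 1025), (nat_lit 1537), (nat_lit 56322), (nat_lit 62978), (nat_lit 69634), (nat_lit 87554), (nat_lit 0), (nat_lit 61698)]

def sq_L7 : List (ℕ × List ℕ) := [((nat_lit 0), [(nat_lit 0xdeb38bdab49ca307b9ac5a928398a418820), (nat_lit 0xdeb38b5e9594e11635cf5a92831c8510c01), (nat_lit 0xdeb38b5e9594e11635cf4a16a214c700443), (nat_lit 0xdeb38bdab49ca307b9ac4a16a290e608062), (nat_lit 0x7b33895e91b4e15d35db5a92830c8111c05), (nat_lit 0x7b33895e91b4e15d35db4a16a204c301447), (nat_lit 0x63f389dab0bca34d39bb5a928388a019824), (nat_lit 0x63f389dab0bca34d39bb4a16a280e209066)]),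
  ((nat_lit 8), [(nat_lit 0xdeb38bdab49ca307b9ac5a928398a418820), (nat_lit 0xd6f19bdab49ca30635cf52d09398a418820)]),
  ((nat_lit 1), [(nat_lit 0xdeb38bdab49ca307b9ac5a928398a418820), (nat_lit 0x7b338bca349dab0db9ba5a92819824388a0)])]

def sq_D7 : List ℕ := [(nat_lit 0), (nat_lit 513), (nat_lit 1025), (nat_lit 50178), (nat_lit 57346), (nat_lit 73730), (nat_lit 101890), (nat_lit 111618), (nat_lit 0), (nat_lit 1537), (nat_lit 0), (nat_lit 2049)]

def sq_L8 : List (ℕ × List ℕ) := [((nat_lit 0), [(nat_lit 0xdeb38bdab49ca307b9ac5a928398a418820), (nat_lit 0xde96abd8e69c8627b9ac4a338292b408230), (nat_lit 0xdeb38bdab49ca307b9ac4a16a290e608062)]),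
  ((nat_lit 2), [(nat_lit 0xdeb38bdab49ca307b9ac5a928398a418820), (nat_lit 0xde96abd8e69c8627b9acce128ad0a48c020)])]

def sq_D8 : List ℕ := [(nat_lit 0), (nat_lit 513), (nat_lit 1025), (nat_lit 0), (nat_lit 36354)]

def sq_L9 : List (ℕ × List ℕ) := [((nat_lit 4), [(nat_lit 0xdeb38bdab49ca307b9ac5a928398a418820), (nat_lit 0xddeb8b6a997b63074d923a8a832c8918820), (nat_lit 0xde96abd8e69c8627b9ac4a338292b408230), (nat_lit 0xdeb199ca30bdab47b5cc52d0918820398a4), (nat_lit 0xdeb38b5e9594e11635cf5a92831c8510c01), (nat_lit 0xdeb38b5e9594e11635cf4a16a214c700443), (nat_lit 0xde928bd8a49c8207b9acce16aad0e68c062), (nat_lit 0xddceab68cb7b46274d922a2b82269908230), (nat_lit 0xdce3996a187bab46dd961ac2912808398a4), (nat_lit 0xdda98beab963a116c9f3220ca2a4eb00443), (nat_lit 0xde94b9c862bd8e67b5cc4271908230292b4), (nat_lit 0xde96ab5cc794c43635cf4a3382169500611), (nat_lit 0xdeb1994e11b5e95639af52d0910c0131c85),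 (nat_lit 0xdeb1994e11b5e95639af4254b00443214c7), (nat_lit 0xde9099c820bd8a47b5ccc654b8c062ad0e6), (nat_lit 0xdcc6b9684a7b8e66dd960a63902218292b4), (nat_lit 0xdca199ea3863695759f70244b0a06a214c7), (nat_lit 0xde94b94c43b5cc7639af427190061121695)]),
  ((nat_lit 0), [(nat_lit 0xdeb38bdab49ca307b9ac5a928398a418820), (nat_lit 0xdcf317bab496a186b2f658d21398a412808), (nat_lit 0xb3a3866e146cb357ea771a8281180459d25), (nat_lit 0xddcead59666bc439326eae0a8cd12484401), (nat_lit 0xd4f11636b496e1973ef650d01398a412c09)]),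
  ((nat_lit 1), [(nat_lit 0xdeb38bdab49ca307b9ac5a928398a418820), (nat_lit 0x64d47d34667d962bc9dbc55058d024cc120), (nat_lit 0x65c6b7c946d38e29b6db8e429c5104ac0a0), (nat_lit 0xdbeb19bb34bb710d5a4c38ca15992450900)]),
  ((nat_lit 2), [(nat_lit 0xdeb38bdab49ca307b9ac5a928398a418820), (nat_lit 0xbed47d59667b462649d3c5505cd1248c020)]),
  ((nat_lit 8), [(nat_lit 0xdeb38bdab49ca307b9ac5a928398a418820), (nat_lit 0xd5eb9ddb1463a309b64f3aca95190418820), (nat_lit 0xbef15d5b347b630649d351d055992418820)]),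
  ((nat_lit 5), [(nat_lit 0xdeb38bdab49ca307b9ac5a928398a418820), (nat_lit 0xddeb8d5b347b6309ba4c3a8a85992418820)])]

def sq_D9 : List ℕ := [(nat_lit 0), (nat_lit 513), (nat_lit 1537), (nat_lit 2049), (nat_lit 2561), (nat_lit 3073), (nat_lit 1793), (nat_lit 165378), (nat_lit 176130), (nat_lit 187394), (nat_lit 216066), (nat_lit 227842), (nat_lit 260610), (nat_lit 273410), (nat_lit 284418), (nat_lit 395266), (nat_lit 438274), (nat_lit 508418), (nat_lit 0), (nat_lit 1025), (nat_lit 17440515), (nat_lit 25843459), (nat_lit 892418), (nat_lit 0), (nat_lit 302655208197), (nat_lit 331172889349), (nat_lit 28779968284422), (nat_lit 0), (nat_lit 98412291), (nat_lit 0), (nat_lit 9099235076), (nat_lit 8676801284), (nat_lit 0), (nat_lit 321282)]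

def sq : PM :=
  ⟨(nat_lit 28), (nat_lit 5), [(nat_lit 0xddeb8b6a997b63074d923a8a832c8918820), (nat_lit 0xdcf317bab496a186b2f658d21398a412808), (nat_lit 0xde96abd8e69c8627b9ac4a338292b408230), (nat_lit 0xde3598c2725216918820bd6d47b5cc394c4), (nat_lit 0xdeb199ca30bdab47b5cc52d0918820398a4), (nat_lit 0xde90901e5420ed07e32c5a9cd8dca2acc26), (nat_lit 0xdeb38b5e9594e11635cf5a92831c8510c01), (nat_lit 0xdeb38b5e9594e11635cf4a16a214c700443), (nat_lit 0xd6f19bdab49ca30635cf52d09398a418820), (nat_lit 0xdeb38b5e959ca3073d8d5a92831c8518820)],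
    [[.l 1, .l 2, .l 3, .l 4, .l 5, .l 6, .l 7, .l 8, .l 9, .l 10],
    [.l 1, .l 2, .l 3, .l 4, .l 5, .l 7, .l 8, .l 10],
    [.l 1, .l 2, .l 3, .l 4, .l 5, .l 7],
    [.l 1, .l 2, .l 3, .l 4, .l 5, .l 8],
    [.l 5, .l 8],
    [.l 5, .l 7, .mul (.mul (.l 4) (.l 7)) (.inv (.l 4))],
    [.l 5, .l 7, .mul (.mul (.l 4) (.l 7)) (.inv (.l 4)), .l 8],
    [.l 7, .l 8, .l 9, .mul (.mul (.mul (.l 1) (.l 2)) (.l 9)) (.inv (.mul (.l 1) (.l 2)))],
    [.l 3, .mul (.l 7) (.l 8)],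
    [.l 1, .l 2, .l 3, .l 5, .l 7, .l 8, .l 9, .l 10]],
    [sq_L0, sq_L1, sq_L2, sq_L3, sq_L4, sq_L5, sq_L6, sq_L7, sq_L8, sq_L9], [sq_D0, sq_D1, sq_D2, sq_D3, sq_D4, sq_D5, sq_D6, sq_D7, sq_D8, sq_D9]⟩

instance sq_ne : NeZero sq.n := ⟨by decide⟩

theorem sq_ok0 : sq.ok0 = true := by decide +kernel

theorem sq_k0 : allFrom (nat_lit 0) (nat_lit 1) sq.okK = true := by decide +kernel

theorem sq_k1 : allFrom (nat_lit 1) (nat_lit 1) sq.okK = true := by decide +kernel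

theorem sq_k2 : allFrom (nat_lit 2) (nat_lit 1) sq.okK = true := by decide +kernel

theorem sq_k3 : allFrom (nat_lit 3) (nat_lit 1) sq.okK = true := by decide +kernel

theorem sq_k4 : allFrom (nat_lit 4) (nat_lit 1) sq.okK = true := by decide +kernel

theorem sq_k5 : allFrom (nat_lit 5) (nat_lit 1) sq.okK = true := by decide +kernel

theorem sq_k6 : allFrom (nat_lit 6) (nat_lit 1) sq.okK = true := by decide +kernel

theorem sq_k7 : allFrom (nat_lit 7) (nat_lit 1) sq.okK = true := by decide +kernel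

theorem sq_k8 : allFrom (nat_lit 8) (nat_lit 1) sq.okK = true := by decide +kernel

theorem sq_k9 : allFrom (nat_lit 9) (nat_lit 1) sq.okK = true := by decide +kernel

theorem sq_ok : sq.OK := PM.OK.of_check sq_ok0
  (of_allFrom_append (of_allFrom_append (of_allFrom_append (of_allFrom_append (of_allFrom_append (of_allFrom_append (of_allFrom_append (of_allFrom_append (of_allFrom_append (of_allFrom_append of_lt_zero sq_k0) sq_k1) sq_k2) sq_k3) sq_k4) sq_k5) sq_k6) sq_k7) sq_k8) sq_k9)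

theorem sq_card0 : Nat.card (genW sq.gam (sq.ws 0)) = 1451520 := (sq_ok.card 0).trans (by decide +kernel)

theorem sq_card1 : Nat.card (genW sq.gam (sq.ws 1)) = 1296 := (sq_ok.card 1).trans (by decide +kernel)

theorem sq_card2 : Nat.card (genW sq.gam (sq.ws 2)) = 648 := (sq_ok.card 2).trans (by decide +kernel)

theorem sq_card3 : Nat.card (genW sq.gam (sq.ws 3)) = 324 := (sq_ok.card 3).trans (by decide +kernel)

theorem sq_card4 : Nat.card (genW sq.gam (sq.ws 4)) = 4 := (sq_ok.card 4).trans (by decide +kernel)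

theorem sq_card5 : Nat.card (genW sq.gam (sq.ws 5)) = 8 := (sq_ok.card 5).trans (by decide +kernel)

theorem sq_card6 : Nat.card (genW sq.gam (sq.ws 6)) = 16 := (sq_ok.card 6).trans (by decide +kernel)

theorem sq_card7 : Nat.card (genW sq.gam (sq.ws 7)) = 32 := (sq_ok.card 7).trans (by decide +kernel)

theorem sq_card8 : Nat.card (genW sq.gam (sq.ws 8)) = 6 := (sq_ok.card 8).trans (by decide +kernel)

theorem sq_card9 : Nat.card (genW sq.gam (sq.ws 9)) = 4320 := (sq_ok.card 9).trans (by decide +kernel)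

def z9_L0 : List (ℕ × List ℕ) := [((nat_lit 0), [(nat_lit 36344967696), (nat_lit 36344967201), (nat_lit 8867243331), (nat_lit 36344967426), (nat_lit 22601074806), (nat_lit 8867242836), (nat_lit 22601074311), (nat_lit 8867243061), (nat_lit 22601074536)]),
  ((nat_lit 3), [(nat_lit 36344967696), (nat_lit 22037357616), (nat_lit 36342940176), (nat_lit 22607435616), (nat_lit 36343861776), (nat_lit 22035330096), (nat_lit 22600492896), (nat_lit 22036251696)]),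
  ((nat_lit 6), [(nat_lit 36344967696), (nat_lit 35771201376), (nat_lit 34921133376), (nat_lit 6483752256), (nat_lit 9000334656), (nat_lit 28040245776), (nat_lit 19413415776)]),
  ((nat_lit 1), [(nat_lit 36344967696), (nat_lit 4941362496), (nat_lit 6280198176), (nat_lit 22651418496), (nat_lit 18623903856), (nat_lit 17826263376)]),
  ((nat_lit 7), [(nat_lit 36344967696), (nat_lit 22657775376), (nat_lit 31516275216), (nat_lit 22121231376), (nat_lit 23730598416)]),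
  ((nat_lit 2), [(nat_lit 36344967696), (nat_lit 23458887696), (nat_lit 10578375696), (nat_lit 19162215696)]),
  ((nat_lit 4), [(nat_lit 36344967696), (nat_lit 23459279376), (nat_lit 19168309776)]),
  ((nat_lit 5), [(nat_lit 36344967696), (nat_lit 23463211536)])]

def z9_D0 : List ℕ := [(nat_lit 0), (nat_lit 513), (nat_lit 2049), (nat_lit 769), (nat_lit 2305), (nat_lit 171010), (nat_lit 182530), (nat_lit 210178), (nat_lit 241922), (nat_lit 0), (nat_lit 14097155), (nat_lit 1025), (nat_lit 13086467), (nat_lit 1281), (nat_lit 1209342724), (nat_lit 1360866564), (nat_lit 1679555332), (nat_lit 0), (nat_lit 132458616581), (nat_lit 134576895749), (nat_lit 3244103940), (nat_lit 3578146564), (nat_lit 16718311649030), (nat_lit 19461207994118), (nat_lit 0), (nat_lit 0x71fbc44267907), (nat_lit 53168387), (nat_lit 0x95951945cd107), (nat_lit 0x3b00a921f5ccb08), (nat_lit 0x48be194a2e0c108), (nat_lit 0),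 (nat_lit 10514063620), (nat_lit 898262891269), (nat_lit 6523602180), (nat_lit 1081643212549), (nat_lit 0), (nat_lit 149843003789574), (nat_lit 158619365629702), (nat_lit 0x422788bc9fb507), (nat_lit 0), (nat_lit 0x22666784d59ce908), (nat_lit 0x25e3f17506506708), (nat_lit 0), (nat_lit 283324158247174)]

def z9_L1 : List (ℕ × List ℕ) := [((nat_lit 0), [(nat_lit 36344967696), (nat_lit 36344967201), (nat_lit 8867243331), (nat_lit 36344967426), (nat_lit 22601074806), (nat_lit 8867242836), (nat_lit 22601074311), (nat_lit 8867243061), (nat_lit 22601074536)]),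
  ((nat_lit 3), [(nat_lit 36344967696), (nat_lit 36342940176), (nat_lit 22607782416), (nat_lit 36343861776), (nat_lit 22605754896), (nat_lit 22606676496)]),
  ((nat_lit 6), [(nat_lit 36344967696), (nat_lit 28040245776), (nat_lit 31815119376)])]

def z9_D1 : List ℕ := [(nat_lit 0), (nat_lit 513), (nat_lit 2049), (nat_lit 769), (nat_lit 2305), (nat_lit 80898), (nat_lit 88322), (nat_lit 107778), (nat_lit 131330), (nat_lit 0), (nat_lit 1025), (nat_lit 91394), (nat_lit 1281), (nat_lit 11930883), (nat_lit 14852355), (nat_lit 0), (nat_lit 16904963), (nat_lit 18485507)]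

def z9_L2 : List (ℕ × List ℕ) := [((nat_lit 0), [(nat_lit 36344967696), (nat_lit 36344906241), (nat_lit 36344955411), (nat_lit 35453882466), (nat_lit 35453759526), (nat_lit 36344893956), (nat_lit 35453870181), (nat_lit 35169591591)]),
  ((nat_lit 6), [(nat_lit 36344967696), (nat_lit 35743086096), (nat_lit 34988111376), (nat_lit 36093309456)]),
  ((nat_lit 2), [(nat_lit 36344967696), (nat_lit 36341822736)]),
  ((nat_lit 1), [(nat_lit 36344967696), (nat_lit 36344771136)])]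

def z9_D2 : List ℕ := [(nat_lit 0), (nat_lit 513), (nat_lit 2049), (nat_lit 2561), (nat_lit 74242), (nat_lit 90626), (nat_lit 100866), (nat_lit 134146), (nat_lit 0), (nat_lit 4167427), (nat_lit 247298), (nat_lit 327327492), (nat_lit 0), (nat_lit 1537), (nat_lit 0), (nat_lit 6412035)]

def z9_L3 : List (ℕ × List ℕ) := [((nat_lit 0), [(nat_lit 36344967696), (nat_lit 36344906241), (nat_lit 36089955651), (nat_lit 35453882466), (nat_lit 36089894196), (nat_lit 35453759526), (nat_lit 34695684981), (nat_lit 34695439191)]),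
  ((nat_lit 2), [(nat_lit 36344967696), (nat_lit 36090164496), (nat_lit 35743086096), (nat_lit 34987063056)]),
  ((nat_lit 1), [(nat_lit 36344967696), (nat_lit 36093112896)])]

def z9_D3 : List ℕ := [(nat_lit 0), (nat_lit 513), (nat_lit 1025), (nat_lit 2049), (nat_lit 72706), (nat_lit 80898), (nat_lit 100354), (nat_lit 135170), (nat_lit 0), (nat_lit 1537), (nat_lit 4739843), (nat_lit 307203844), (nat_lit 0), (nat_lit 101634)]

def z9_L4 : List (ℕ × List ℕ) := [((nat_lit 0), [(nat_lit 36344967696), (nat_lit 36344967201), (nat_lit 8867243331), (nat_lit 36344967426), (nat_lit 22601074806), (nat_lit 8867242836), (nat_lit 22601074311), (nat_lit 8867243061), (nat_lit 22601074536)]),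
  ((nat_lit 3), [(nat_lit 36344967696), (nat_lit 22607720976), (nat_lit 36342940176), (nat_lit 22356124176), (nat_lit 36343861776), (nat_lit 22605693456)]),
  ((nat_lit 6), [(nat_lit 36344967696), (nat_lit 28040245776), (nat_lit 31815119376)]),
  ((nat_lit 1), [(nat_lit 36344967696), (nat_lit 36343984416)]),
  ((nat_lit 4), [(nat_lit 36344967696), (nat_lit 32317452816)])]

def z9_D4 : List ℕ := [(nat_lit 0), (nat_lit 513), (nat_lit 2049), (nat_lit 769), (nat_lit 2305), (nat_lit 145410), (nat_lit 155906), (nat_lit 181506), (nat_lit 211202), (nat_lit 0), (nat_lit 3585), (nat_lit 1025), (nat_lit 3841), (nat_lit 1281), (nat_lit 521730), (nat_lit 0), (nat_lit 24381187), (nat_lit 26381059), (nat_lit 0), (nat_lit 8339715), (nat_lit 0), (nat_lit 2114793220)]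

def z9_L5 : List (ℕ × List ℕ) := [((nat_lit 0), [(nat_lit 36344967696), (nat_lit 36344967201), (nat_lit 8867243331), (nat_lit 36344967426), (nat_lit 22601074806), (nat_lit 8867242836), (nat_lit 22601074311), (nat_lit 8867243061), (nat_lit 22601074536)]),
  ((nat_lit 3), [(nat_lit 36344967696), (nat_lit 36342940176), (nat_lit 22607782416), (nat_lit 36343861776), (nat_lit 22605754896), (nat_lit 22606676496)]),
  ((nat_lit 6), [(nat_lit 36344967696), (nat_lit 28040245776), (nat_lit 31815119376)]),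
  ((nat_lit 1), [(nat_lit 36344967696), (nat_lit 36343984416)]),
  ((nat_lit 7), [(nat_lit 36344967696), (nat_lit 32318435856)]),
  ((nat_lit 4), [(nat_lit 36344967696), (nat_lit 36343984656)])]

def z9_D5 : List ℕ := [(nat_lit 0), (nat_lit 513), (nat_lit 2049), (nat_lit 769), (nat_lit 2305), (nat_lit 145410), (nat_lit 155906), (nat_lit 181506), (nat_lit 211202), (nat_lit 0), (nat_lit 1025), (nat_lit 108290), (nat_lit 1281), (nat_lit 18951939), (nat_lit 22874883), (nat_lit 0), (nat_lit 25661699), (nat_lit 27766019), (nat_lit 0), (nat_lit 9944835), (nat_lit 0), (nat_lit 47646596357), (nat_lit 0), (nat_lit 707078976863495)]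

def z9 : PM :=
  ⟨(nat_lit 9), (nat_lit 4), [(nat_lit 36344967201), (nat_lit 36342940176), (nat_lit 28040245776), (nat_lit 8867243331), (nat_lit 36341613891), (nat_lit 36344967696), (nat_lit 36344906241), (nat_lit 36093248001), (nat_lit 36341822736), (nat_lit 36344967681), (nat_lit 36089955651), (nat_lit 22607720976), (nat_lit 22607782401)],
    [[.l 1, .l 2, .l 3, .l 4, .l 5, .l 7, .l 8, .l 9, .l 10],
    [.l 1, .l 2, .l 3, .l 4, .l 5],
    [.l 7, .l 8, .l 9, .mul (.mul (.mul (.l 1) (.l 2)) (.l 9)) (.inv (.mul (.l 1) (.l 2))), .mul (.mul (.mul (.mul (.mul (.mul (.mul (.mul (.mul (.mul (.mul (.mul (.l 1) (.l 1)) (.l 9)) (.l 2)) (.l 4)) (.l 9)) (.l 4)) (.l 5)) (.l 9)) (.l 2)) (.l 8)) (.l 9)) (.l 1)],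
    [.l 7, .mul (.l 5) (.mul (.l 7) (.l 8)), .mul (.l 9) (.mul (.l 7) (.l 8)), .mul (.mul (.mul (.mul (.mul (.mul (.mul (.mul (.mul (.mul (.mul (.mul (.l 1) (.l 1)) (.l 9)) (.l 2)) (.l 4)) (.l 9)) (.l 4)) (.l 5)) (.l 9)) (.l 2)) (.l 8)) (.l 9)) (.l 1), .mul (.mul (.mul (.l 9) (.mul (.l 1) (.l 2))) (.l 9)) (.inv (.mul (.l 1) (.l 2)))],
    [.l 1, .l 2, .l 3, .l 4, .l 7, .mul (.l 5) (.mul (.l 7) (.l 8)), .mul (.mul (.l 5) (.mul (.l 7) (.l 8))) (.l 4), .mul (.mul (.l 4) (.mul (.l 5) (.mul (.l 7) (.l 8)))) (.inv (.l 4))],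
    [.l 1, .l 2, .l 3, .l 4, .l 5, .l 7, .l 8, .l 10]],
    [z9_L0, z9_L1, z9_L2, z9_L3, z9_L4, z9_L5], [z9_D0, z9_D1, z9_D2, z9_D3, z9_D4, z9_D5]⟩

instance z9_ne : NeZero z9.n := ⟨by decide⟩

theorem z9_ok0 : z9.ok0 = true := by decide +kernel

theorem z9_k0 : allFrom (nat_lit 0) (nat_lit 1) z9.okK = true := by decide +kernel

theorem z9_k1 : allFrom (nat_lit 1) (nat_lit 1) z9.okK = true := by decide +kernel

theorem z9_k2 : allFrom (nat_lit 2) (nat_lit 1) z9.okK = true := by decide +kernel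

theorem z9_k3 : allFrom (nat_lit 3) (nat_lit 1) z9.okK = true := by decide +kernel

theorem z9_k4 : allFrom (nat_lit 4) (nat_lit 1) z9.okK = true := by decide +kernel

theorem z9_k5 : allFrom (nat_lit 5) (nat_lit 1) z9.okK = true := by decide +kernel

theorem z9_ok : z9.OK := PM.OK.of_check z9_ok0
  (of_allFrom_append (of_allFrom_append (of_allFrom_append (of_allFrom_append (of_allFrom_append (of_allFrom_append of_lt_zero z9_k0) z9_k1) z9_k2) z9_k3) z9_k4) z9_k5)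

theorem z9_card0 : Nat.card (genW z9.gam (z9.ws 0)) = 362880 := (z9_ok.card 0).trans (by decide +kernel)

theorem z9_card1 : Nat.card (genW z9.gam (z9.ws 1)) = 162 := (z9_ok.card 1).trans (by decide +kernel)

theorem z9_card2 : Nat.card (genW z9.gam (z9.ws 2)) = 128 := (z9_ok.card 2).trans (by decide +kernel)

theorem z9_card3 : Nat.card (genW z9.gam (z9.ws 3)) = 64 := (z9_ok.card 3).trans (by decide +kernel)

theorem z9_card4 : Nat.card (genW z9.gam (z9.ws 4)) = 648 := (z9_ok.card 4).trans (by decide +kernel)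

theorem z9_card5 : Nat.card (genW z9.gam (z9.ws 5)) = 1296 := (z9_ok.card 5).trans (by decide +kernel)

/-- a formula -/
def s9_32_f : Fm := .all 3 40 [] (.imp (.one (.pow (.l 40) 3)) (.mem 2 (.l 40)))

theorem s9_32_ev : sp.eval s9_32_f = true := by decide +kernel

theorem s9_32 {G : Type*} [Group G] {γ : ℕ → G} {k : ℕ} {N : List W} (g : Gf sp γ k N)
    (e : tyB sp k N s9_32_f = true := by decide +kernel) :
    ∀ y ∈ genW γ (sp.ws 3), y ^ 3 = 1 → y ∈ genW γ (sp.ws 2) :=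
  g.transfer e s9_32_ev

/-- a formula -/
def s9_P_f : Fm := .all 2 40 [] (.or (.mem 1 (.l 40)) (.or (.ex 3 41 [(.l 4, .l 40)] (.tt)) (.or (.eq (.pow (.l 40) 3) (.mul (.mul (.l 1) (.l 2)) (.l 3))) (.eq (.pow (.l 40) 3) (.inv (.mul (.mul (.l 1) (.l 2)) (.l 3)))))))

theorem s9_P_ev : sp.eval s9_P_f = true := by decide +kernel

theorem s9_P {G : Type*} [Group G] {γ : ℕ → G} {k : ℕ} {N : List W} (g : Gf sp γ k N)
    (e : tyB sp k N s9_P_f = true := by decide +kernel) :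
    ∀ e ∈ genW γ (sp.ws 2), e ∈ genW γ (sp.ws 1) ∨ (∃ k ∈ genW γ (sp.ws 3), k * γ 4 = e * k ∧ True) ∨ e ^ 3 = γ 1 * γ 2 * γ 3 ∨ e ^ 3 = (γ 1 * γ 2 * γ 3)⁻¹ :=
  g.transfer e s9_P_ev

/-- a formula -/
def s9_t3_f : Fm := .all 3 40 [(.l 5, .l 5)] (.imp (.one (.mul (.l 40) (.l 40))) (.or (.one (.l 40)) (.eq (.l 40) (.l 5))))

theorem s9_t3_ev : sp.eval s9_t3_f = true := by decide +kernel

theorem s9_t3 {G : Type*} [Group G] {γ : ℕ → G} {k : ℕ} {N : List W} (g : Gf sp γ k N)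
    (e : tyB sp k N s9_t3_f = true := by decide +kernel) :
    ∀ y ∈ genW γ (sp.ws 3), y * γ 5 = γ 5 * y → y * y = 1 → y = 1 ∨ y = γ 5 :=
  g.transfer e s9_t3_ev

/-- a formula -/
def s9_t10_f : Fm := .all 10 40 [(.l 5, .l 5)] (.imp (.one (.mul (.l 40) (.l 40))) (.or (.one (.l 40)) (.or (.eq (.l 40) (.l 5)) (.or (.ex 10 41 [(.l 8, .l 40)] (.tt)) (.ex 10 41 [(.mul (.l 5) (.l 8), .l 40)] (.tt))))))

theorem s9_t10_ev : sp.eval s9_t10_f = true := by decide +kernel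

theorem s9_t10 {G : Type*} [Group G] {γ : ℕ → G} {k : ℕ} {N : List W} (g : Gf sp γ k N)
    (e : tyB sp k N s9_t10_f = true := by decide +kernel) :
    ∀ y ∈ genW γ (sp.ws 10), y * γ 5 = γ 5 * y → y * y = 1 → y = 1 ∨ y = γ 5 ∨ (∃ k ∈ genW γ (sp.ws 10), k * γ 8 = y * k ∧ True) ∨ (∃ k ∈ genW γ (sp.ws 10), k * (γ 5 * γ 8) = y * k ∧ True) :=
  g.transfer e s9_t10_ev

/-- a formula -/
def s9_p4_f : Fm := .all 10 40 [(.mul (.l 5) (.l 8), .mul (.l 5) (.l 8))] (.mem 27 (.pow (.l 40) 4))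

theorem s9_p4_ev : sp.eval s9_p4_f = true := by decide +kernel

theorem s9_p4 {G : Type*} [Group G] {γ : ℕ → G} {k : ℕ} {N : List W} (g : Gf sp γ k N)
    (e : tyB sp k N s9_p4_f = true := by decide +kernel) :
    ∀ n ∈ genW γ (sp.ws 10), n * (γ 5 * γ 8) = γ 5 * γ 8 * n → n ^ 4 ∈ genW γ (sp.ws 27) :=
  g.transfer e s9_p4_ev

/-- a formula -/
def s9_J5_f : Fm := .all 1 40 [] (.or (.one (.l 40)) (.or (.all 5 41 [(.l 40, .l 40)] (.mem 1 (.pow (.l 41) 4))) (.or (.ex 5 41 [(.mul (.mul (.l 1) (.l 2)) (.l 3), .l 40)] (.tt)) (.ex 5 41 [(.inv (.mul (.mul (.l 1) (.l 2)) (.l 3)), .l 40)] (.tt)))))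

theorem s9_J5_ev : sp.eval s9_J5_f = true := by decide +kernel

theorem s9_J5 {G : Type*} [Group G] {γ : ℕ → G} {k : ℕ} {N : List W} (g : Gf sp γ k N)
    (e : tyB sp k N s9_J5_f = true := by decide +kernel) :
    ∀ e ∈ genW γ (sp.ws 1), e = 1 ∨ (∀ n ∈ genW γ (sp.ws 5), n * e = e * n → n ^ 4 ∈ genW γ (sp.ws 1)) ∨ (∃ k ∈ genW γ (sp.ws 5), k * (γ 1 * γ 2 * γ 3) = e * k ∧ True) ∨ (∃ k ∈ genW γ (sp.ws 5), k * (γ 1 * γ 2 * γ 3)⁻¹ = e * k ∧ True) :=
  g.transfer e s9_J5_ev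

/-- a formula -/
def s9_x5_f : Fm := .all 5 40 [(.l 4, .l 4)] (.imp (.one (.mul (.l 40) (.l 40))) (.one (.l 40)))

theorem s9_x5_ev : sp.eval s9_x5_f = true := by decide +kernel

theorem s9_x5 {G : Type*} [Group G] {γ : ℕ → G} {k : ℕ} {N : List W} (g : Gf sp γ k N)
    (e : tyB sp k N s9_x5_f = true := by decide +kernel) :
    ∀ y ∈ genW γ (sp.ws 5), y * γ 4 = γ 4 * y → y * y = 1 → y = 1 :=
  g.transfer e s9_x5_ev

/-- a formula -/
def s9_c6_f : Fm := .and (.all 16 40 [] (.or (.one (.l 40)) (.all 6 41 [(.l 40, .l 40)] (.mem 1 (.pow (.l 41) 4))))) (.all 25 40 [] (.or (.one (.l 40)) (.all 6 41 [(.l 40, .l 40)] (.mem 1 (.pow (.l 41) 4)))))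

theorem s9_c6_ev : sp.eval s9_c6_f = true := by decide +kernel

theorem s9_c6 {G : Type*} [Group G] {γ : ℕ → G} {k : ℕ} {N : List W} (g : Gf sp γ k N)
    (e : tyB sp k N s9_c6_f = true := by decide +kernel) :
    (∀ e ∈ genW γ (sp.ws 16), e = 1 ∨ (∀ n ∈ genW γ (sp.ws 6), n * e = e * n → n ^ 4 ∈ genW γ (sp.ws 1))) ∧ (∀ e ∈ genW γ (sp.ws 25), e = 1 ∨ (∀ n ∈ genW γ (sp.ws 6), n * e = e * n → n ^ 4 ∈ genW γ (sp.ws 1))) :=
  g.transfer e s9_c6_ev

/-- a formula -/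
def s9_t6_f : Fm := .all 6 40 [(.l 5, .l 5)] (.mem 23 (.l 40))

theorem s9_t6_ev : sp.eval s9_t6_f = true := by decide +kernel

theorem s9_t6 {G : Type*} [Group G] {γ : ℕ → G} {k : ℕ} {N : List W} (g : Gf sp γ k N)
    (e : tyB sp k N s9_t6_f = true := by decide +kernel) :
    ∀ n ∈ genW γ (sp.ws 6), n * γ 5 = γ 5 * n → n ∈ genW γ (sp.ws 23) :=
  g.transfer e s9_t6_ev

/-- a formula -/
def s9_rv_f : Fm := .all 19 40 [(.mul (.l 7) (.l 8), .l 9)] (.not (.tt))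

theorem s9_rv_ev : sp.eval s9_rv_f = true := by decide +kernel

theorem s9_rv {G : Type*} [Group G] {γ : ℕ → G} {k : ℕ} {N : List W} (g : Gf sp γ k N)
    (e : tyB sp k N s9_rv_f = true := by decide +kernel) :
    ∀ n ∈ genW γ (sp.ws 19), n * (γ 7 * γ 8) = γ 9 * n → ¬ True :=
  g.transfer e s9_rv_ev

/-- a formula -/
def s9_ct_f (k : ℕ) : Fm := .all k 40 [(.l 5, .l 5)] (.and (.mem 9 (.mul (.mul (.l 40) (.l 3)) (.inv (.l 40)))) (.and (.mem 9 (.mul (.mul (.l 40) (.mul (.l 1) (.l 2))) (.inv (.l 40)))) (.and (.mem 9 (.pow (.l 40) 2)) (.imp (.eq (.mul (.l 40) (.l 3)) (.mul (.l 3) (.l 40))) (.imp (.eq (.mul (.l 40) (.mul (.l 1) (.l 2))) (.mul (.mul (.l 1) (.l 2)) (.l 40))) (.or (.mem 9 (.l 40)) (.mem 9 (.mul (.l 40) (.l 5)))))))))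

theorem s9_ct {G : Type*} [Group G] {γ : ℕ → G} {k : ℕ} (hk : k = 3 ∨ k = 10 ∨ k = 5 ∨ k = 6) (g : Gf sp γ k []) :
    ∀ n ∈ genW γ (sp.ws k), n * γ 5 = γ 5 * n → n * γ 3 * n⁻¹ ∈ genW γ (sp.ws 9) ∧ n * (γ 1 * γ 2) * n⁻¹ ∈ genW γ (sp.ws 9) ∧ n ^ 2 ∈ genW γ (sp.ws 9) ∧ (n * γ 3 = γ 3 * n → n * (γ 1 * γ 2) = γ 1 * γ 2 * n → n ∈ genW γ (sp.ws 9) ∨ n * γ 5 ∈ genW γ (sp.ws 9)) := by
  change (s9_ct_f k).holds (fun k => genW γ (sp.ws k)) γ
  rcases hk with rfl | rfl | rfl | rfl <;> exact g.tr (by decide +kernel)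

/-- a formula -/
def sq_V_f : Fm := .all 4 40 [] (.or (.one (.l 40)) (.or (.eq (.l 40) (.l 5)) (.or (.eq (.l 40) (.l 8)) (.eq (.l 40) (.mul (.l 5) (.l 8))))))

theorem sq_V_ev : sq.eval sq_V_f = true := by decide +kernel

theorem sq_V {G : Type*} [Group G] {γ : ℕ → G} {k : ℕ} {N : List W} (g : Gf sq γ k N)
    (e : tyB sq k N sq_V_f = true := by decide +kernel) :
    ∀ y ∈ genW γ (sq.ws 4), y = 1 ∨ y = γ 5 ∨ y = γ 8 ∨ y = γ 5 * γ 8 :=
  g.transfer e sq_V_ev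

/-- a formula -/
def sq_u_f : Fm := .all 3 40 [(.mul (.l 5) (.l 8), .mul (.l 5) (.l 8))] (.or (.mem 4 (.l 40)) (.or (.mem 4 (.mul (.mul (.l 1) (.inv (.l 2))) (.l 40))) (.mem 4 (.mul (.inv (.mul (.l 1) (.inv (.l 2)))) (.l 40)))))

theorem sq_u_ev : sq.eval sq_u_f = true := by decide +kernel

theorem sq_u {G : Type*} [Group G] {γ : ℕ → G} {k : ℕ} {N : List W} (g : Gf sq γ k N)
    (e : tyB sq k N sq_u_f = true := by decide +kernel) :
    ∀ n ∈ genW γ (sq.ws 3), n * (γ 5 * γ 8) = γ 5 * γ 8 * n → n ∈ genW γ (sq.ws 4) ∨ γ 1 * (γ 2)⁻¹ * n ∈ genW γ (sq.ws 4) ∨ (γ 1 * (γ 2)⁻¹)⁻¹ * n ∈ genW γ (sq.ws 4) :=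
  g.transfer e sq_u_ev

/-- a formula -/
def sq_D_f : Fm := .all 5 40 [] (.imp (.one (.mul (.l 40) (.l 40))) (.or (.one (.l 40)) (.or (.ex 2 41 [(.l 5, .l 40)] (.tt)) (.or (.eq (.l 40) (.l 7)) (.or (.eq (.l 40) (.mul (.mul (.l 4) (.l 7)) (.inv (.l 4)))) (.eq (.l 40) (.mul (.mul (.inv (.l 4)) (.l 7)) (.l 4))))))))

theorem sq_D_ev : sq.eval sq_D_f = true := by decide +kernel

theorem sq_D {G : Type*} [Group G] {γ : ℕ → G} {k : ℕ} {N : List W} (g : Gf sq γ k N)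
    (e : tyB sq k N sq_D_f = true := by decide +kernel) :
    ∀ y ∈ genW γ (sq.ws 5), y * y = 1 → y = 1 ∨ (∃ k ∈ genW γ (sq.ws 2), k * γ 5 = y * k ∧ True) ∨ y = γ 7 ∨ y = γ 4 * γ 7 * (γ 4)⁻¹ ∨ y = (γ 4)⁻¹ * γ 7 * γ 4 :=
  g.transfer e sq_D_ev

/-- a formula -/
def sq_rel_f : Fm := .all 8 40 [] (.imp (.one (.mul (.l 40) (.l 40))) (.all 9 41 [(.l 5, .l 5)] (.imp (.one (.pow (.l 41) 3)) (.one (.mul (.mul (.mul (.l 40) (.mul (.mul (.l 41) (.l 40)) (.inv (.l 41)))) (.l 40)) (.mul (.mul (.inv (.l 41)) (.l 40)) (.l 41)))))))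

theorem sq_rel_ev : sq.eval sq_rel_f = true := by decide +kernel

theorem sq_rel {G : Type*} [Group G] {γ : ℕ → G} {k : ℕ} {N : List W} (g : Gf sq γ k N)
    (e : tyB sq k N sq_rel_f = true := by decide +kernel) :
    ∀ y ∈ genW γ (sq.ws 8), y * y = 1 → ∀ e ∈ genW γ (sq.ws 9), e * γ 5 = γ 5 * e → e ^ 3 = 1 → y * (e * y * e⁻¹) * y * (e⁻¹ * y * e) = 1 :=
  g.transfer e sq_rel_ev

/-- a decision tree -/
def s9_iw_T : DT := .node [5] (.node [7, 8] (.node [3] (.node [1, 1, 2] (.node [7] (.leaf [(2, [10])])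
  (.leaf [(2, [10, 2]), (2, [10, 1])]))
  (.node [7] (.leaf [(0, [])])
  (.leaf [(0, [7, 2, 1]), (0, [2, 1])])))
  (.node [1, 1, 2] (.node [7] (.leaf [(3, [10])])
  (.leaf [(3, [10, 2]), (3, [10, 1])]))
  (.node [4] (.leaf [(1, [])])
  (.leaf [(1, [7, 2, 1]), (1, [2, 1])]))))
  (.node [1, 1, 2] (.node [3, 7, 8] (.node [7] (.leaf [(3, [10, 3, 3])])
  (.leaf [(3, [10, 8, 3, 1]), (3, [10, 3, 3, 1])]))
  (.node [7] (.leaf [(3, [10, 3])])
  (.leaf [(3, [10, 3, 2]), (3, [10, 3, 1])])))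
  (.node [3, 7, 8] (.node [4] (.leaf [(1, [8, 3, 2, 1])])
  (.leaf [(1, [3, 3, 2, 1]), (1, [3, 3])]))
  (.node [4] (.leaf [(1, [3, 2, 1])])
  (.leaf [(1, [7, 3, 2, 1]), (1, [3])])))))
  (.node [7, 8] (.node [3] (.node [10] (.leaf [(0, [2]), (0, [2, 2])])
  (.node [1, 10] (.leaf [(0, [2, 1, 1]), (0, [1, 1])])
  (.leaf [(0, [2, 2, 1]), (0, [1])])))
  (.node [10] (.leaf [(1, [2]), (1, [2, 2])])
  (.node [1, 10] (.leaf [(1, [2, 1, 1]), (1, [1, 1])])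
  (.leaf [(1, [1]), (1, [2, 2, 1])]))))
  (.node [3, 7, 8] (.node [10] (.leaf [(1, [3, 3, 2]), (1, [8, 3, 2])])
  (.node [1, 10] (.leaf [(1, [2, 8, 3, 1]), (1, [8, 3, 1])])
  (.leaf [(1, [1, 8, 3, 2]), (1, [3, 3, 1])])))
  (.node [10] (.leaf [(1, [3, 2]), (1, [3, 2, 2])])
  (.node [1, 10] (.leaf [(1, [3, 2, 1, 1]), (1, [3, 1, 1])])
  (.leaf [(1, [3, 2, 2, 1]), (1, [3, 1])])))))

/-- a formula -/
def s9_iw_f : Fm := .all 6 40 [(.mul (.l 1) (.l 2), .inv (.mul (.l 1) (.l 2)))] (.imp (.one (.mul (.l 40) (.l 40))) (dtF [(.l 7, .l 40), (.l 8, .l 40), (.l 5, .l 40), (.mul (.l 5) (.mul (.l 7) (.l 8)), .l 40)] (.l 40) s9_iw_T))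

theorem s9_iw_ev : sp.eval s9_iw_f = true := by decide +kernel

theorem s9_iw {G : Type*} [Group G] {γ : ℕ → G} {k : ℕ} {N : List W} (g : Gf sp γ k N)
    (e : tyB sp k N s9_iw_f = true := by decide +kernel) :
    ∀ y ∈ genW γ (sp.ws 6), y * (γ 1 * γ 2) = (γ 1 * γ 2)⁻¹ * y → y * y = 1 → MJ (genW γ (sp.ws 6)) (γ 7) y ∨ MJ (genW γ (sp.ws 6)) (γ 8) y ∨ MJ (genW γ (sp.ws 6)) (γ 5) y ∨ MJ (genW γ (sp.ws 6)) (γ 5 * (γ 7 * γ 8)) y :=
  fun y a p0 b => by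
  have h := g.transfer e s9_iw_ev y a p0 b
  obtain ⟨q, m, h⟩ := dt_mj h g.zero (sp.ws 6)
  simp only [List.mem_cons, List.not_mem_nil, or_false] at m
  rcases m with rfl | rfl | rfl | rfl
  exacts [.inl h, .inr (.inl h), .inr (.inr (.inl h)), .inr (.inr (.inr (h)))]

/-- a decision tree -/
def s9_iz_T : DT := .node [5] (.node [1, 1, 2] (.node [7] (.node [8] (.leaf [(1, [10])])
  (.leaf [(1, [10, 3, 3]), (1, [10, 3])]))
  (.node [1, 7] (.node [1, 8] (.leaf [(1, [10, 1])])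
  (.leaf [(1, [10, 3, 3, 1]), (1, [10, 3, 1])]))
  (.node [7, 8] (.leaf [(1, [10, 2])])
  (.leaf [(1, [10, 8, 3, 1]), (1, [10, 3, 2])]))))
  (.node [4] (.node [7] (.leaf [(0, [])])
  (.leaf [(0, [8, 3, 2, 1]), (0, [3, 2, 1])]))
  (.node [7] (.leaf [(0, [3, 3]), (0, [3])])
  (.node [1, 10] (.leaf [(0, [7, 3, 2, 1]), (0, [7, 2, 1])])
  (.leaf [(0, [3, 3, 2, 1]), (0, [2, 1])])))))
  (.node [4, 5] (.node [1, 1, 3] (.node [7, 10] (.node [8] (.leaf [(1, [7, 4, 4])])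
  (.leaf [(1, [7, 4, 4, 1]), (1, [7, 5, 4, 1])]))
  (.node [2, 7, 10] (.node [2, 8] (.leaf [(1, [7, 4, 4, 3])])
  (.leaf [(1, [7, 4, 4, 3, 1]), (1, [7, 5, 4, 3, 1])]))
  (.node [8, 2] (.leaf [(1, [10, 4, 4, 3])])
  (.leaf [(1, [10, 4, 4, 3, 1]), (1, [10, 5, 4, 3, 1])]))))
  (.node [10] (.leaf [(0, [2]), (0, [2, 2])])
  (.node [1, 10] (.leaf [(0, [2, 8, 3, 1]), (0, [8, 3, 1])])
  (.leaf [(0, [3, 2, 2, 1]), (0, [3, 1])]))))
  (.node [2, 2, 3] (.node [10] (.node [8] (.leaf [(1, [7, 4])])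
  (.leaf [(1, [7, 4, 2]), (1, [7, 4, 1])]))
  (.node [1, 10] (.node [1, 8] (.leaf [(1, [7, 4, 3])])
  (.leaf [(1, [7, 4, 3, 2]), (1, [7, 4, 3, 1])]))
  (.node [8, 1] (.leaf [(1, [4, 10, 3])])
  (.leaf [(1, [4, 10, 3, 2]), (1, [4, 10, 3, 1])]))))
  (.node [5, 4] (.node [10] (.leaf [(0, [8, 3, 2]), (0, [3, 2])])
  (.node [1, 10] (.leaf [(0, [3, 2, 1, 1]), (0, [1, 1])])
  (.leaf [(0, [1, 8, 3, 2]), (0, [1])])))
  (.node [10] (.leaf [(0, [3, 3, 2]), (0, [3, 2, 2])])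
  (.node [1, 10] (.leaf [(0, [3, 1, 1]), (0, [2, 1, 1])])
  (.leaf [(0, [3, 3, 1]), (0, [2, 2, 1])]))))))

/-- a formula -/
def s9_iz_f : Fm := .all 6 40 [(.mul (.mul (.l 1) (.l 2)) (.l 3), .inv (.mul (.mul (.l 1) (.l 2)) (.l 3)))] (.imp (.one (.mul (.l 40) (.l 40))) (dtF [(.l 8, .l 40), (.mul (.l 5) (.mul (.l 7) (.l 8)), .l 40)] (.l 40) s9_iz_T))

theorem s9_iz_ev : sp.eval s9_iz_f = true := by decide +kernel

theorem s9_iz {G : Type*} [Group G] {γ : ℕ → G} {k : ℕ} {N : List W} (g : Gf sp γ k N)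
    (e : tyB sp k N s9_iz_f = true := by decide +kernel) :
    ∀ y ∈ genW γ (sp.ws 6), y * (γ 1 * γ 2 * γ 3) = (γ 1 * γ 2 * γ 3)⁻¹ * y → y * y = 1 → MJ (genW γ (sp.ws 6)) (γ 8) y ∨ MJ (genW γ (sp.ws 6)) (γ 5 * (γ 7 * γ 8)) y :=
  fun y a p0 b => by
  have h := g.transfer e s9_iz_ev y a p0 b
  obtain ⟨q, m, h⟩ := dt_mj h g.zero (sp.ws 6)
  simp only [List.mem_cons, List.not_mem_nil, or_false] at m
  rcases m with rfl | rfl
  exacts [.inl h, .inr (h)]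

/-- a decision tree -/
def sq_S_T : DT := .node [3] (.node [5] (.node [10] (.leaf [(2, [])])
  (.leaf [(0, []), (0, [10])]))
  (.leaf [(1, [4]), (1, [4, 4])]))
  (.node [1] (.leaf [(2, [4]), (1, [])])
  (.node [10] (.leaf [(4, []), (2, [4, 4])])
  (.leaf [(3, []), (3, [10])])))

/-- a formula -/
def sq_S_f : Fm := .all 6 40 [] (.imp (.one (.mul (.l 40) (.l 40))) (.or (.one (.l 40)) (dtF [(.l 5, .l 40), (.mul (.l 7) (.l 8), .l 40), (.l 7, .l 40), (.mul (.l 5) (.mul (.l 7) (.l 8)), .l 40), (.l 8, .l 40)] (.l 40) sq_S_T)))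

theorem sq_S_ev : sq.eval sq_S_f = true := by decide +kernel

theorem sq_S {G : Type*} [Group G] {γ : ℕ → G} {k : ℕ} {N : List W} (g : Gf sq γ k N)
    (e : tyB sq k N sq_S_f = true := by decide +kernel) :
    ∀ y ∈ genW γ (sq.ws 6), y * y = 1 → y = 1 ∨ MJ (genW γ (sq.ws 1)) (γ 5) y ∨ MJ (genW γ (sq.ws 1)) (γ 7 * γ 8) y ∨ MJ (genW γ (sq.ws 1)) (γ 7) y ∨ MJ (genW γ (sq.ws 1)) (γ 5 * (γ 7 * γ 8)) y ∨ MJ (genW γ (sq.ws 1)) (γ 8) y :=
  fun y a b => (g.transfer e sq_S_ev y a b).imp_right fun h => by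
  obtain ⟨q, m, h⟩ := dt_mj h g.zero (sq.ws 1)
  simp only [List.mem_cons, List.not_mem_nil, or_false] at m
  rcases m with rfl | rfl | rfl | rfl | rfl
  exacts [.inl h, .inr (.inl h), .inr (.inr (.inl h)), .inr (.inr (.inr (.inl h))), .inr (.inr (.inr (.inr (h))))]

/-- a formula -/
def sq_i_f : Fm := .all 6 40 [] (.all 1 41 [(.l 8, .l 40)] (.eq (.l 40) (.l 8)))

theorem sq_i_ev : sq.eval sq_i_f = true := by decide +kernel

theorem sq_i {G : Type*} [Group G] {γ : ℕ → G} {k : ℕ} {N : List W} (g : Gf sq γ k N)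
    (e : tyB sq k N sq_i_f = true := by decide +kernel) :
    ∀ y ∈ genW γ (sq.ws 6), ∀ k ∈ genW γ (sq.ws 1), k * γ 8 = y * k → y = γ 8 :=
  g.transfer e sq_i_ev

/-- a decision tree -/
def sq_T_T : DT := .node [3] (.node [7] (.node [10] (.node [1, 9, 1] (.leaf [(0, [2, 2, 1, 9, 1])])
  (.leaf [(2, [1, 9, 1]), (3, [])]))
  (.node [1, 2] (.leaf [(0, [])])
  (.node [1, 1, 2] (.leaf [(0, [10])])
  (.leaf [(3, [1, 9, 2, 9, 1, 1]), (3, [1, 9, 7, 2, 9, 1])]))))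
  (.node [1, 2, 7] (.leaf [(3, [2, 9, 2, 1, 1]), (2, [2, 2, 9, 1])])
  (.leaf [(2, [2, 9, 1, 1]), (3, [10, 1, 9, 2, 1])])))
  (.node [7] (.node [10] (.node [1, 9, 1] (.leaf [(6, [2, 2, 1, 9, 1]), (1, [])])
  (.leaf [(5, []), (4, [1, 9, 1])]))
  (.node [1, 2] (.leaf [(6, [])])
  (.node [1, 1, 2] (.leaf [(6, [10])])
  (.leaf [(5, [1, 9, 2, 9, 1, 1]), (5, [1, 9, 7, 2, 9, 1])]))))
  (.node [1, 2, 7] (.leaf [(5, [2, 9, 2, 1, 1]), (4, [2, 2, 9, 1])])
  (.leaf [(4, [2, 9, 1, 1]), (5, [10, 1, 9, 2, 1])])))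

/-- a formula -/
def sq_T_f : Fm := .all 7 40 [] (.imp (.one (.mul (.l 40) (.l 40))) (.or (.one (.l 40)) (dtF [(.l 5, .l 40), (.mul (.l 7) (.l 8), .l 40), (.l 10, .l 40), (.l 7, .l 40), (.mul (.mul (.l 7) (.l 8)) (.l 10), .l 40), (.l 8, .l 40), (.mul (.l 5) (.mul (.l 7) (.l 8)), .l 40)] (.l 40) sq_T_T)))

theorem sq_T_ev : sq.eval sq_T_f = true := by decide +kernel

theorem sq_T {G : Type*} [Group G] {γ : ℕ → G} {k : ℕ} {N : List W} (g : Gf sq γ k N)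
    (e : tyB sq k N sq_T_f = true := by decide +kernel) :
    ∀ y ∈ genW γ (sq.ws 7), y * y = 1 → y = 1 ∨ MJ (genW γ (sq.ws 9)) (γ 5) y ∨ MJ (genW γ (sq.ws 9)) (γ 7 * γ 8) y ∨ MJ (genW γ (sq.ws 9)) (γ 10) y ∨ MJ (genW γ (sq.ws 9)) (γ 7) y ∨ MJ (genW γ (sq.ws 9)) (γ 7 * γ 8 * γ 10) y ∨ MJ (genW γ (sq.ws 9)) (γ 8) y ∨ MJ (genW γ (sq.ws 9)) (γ 5 * (γ 7 * γ 8)) y :=
  fun y a b => (g.transfer e sq_T_ev y a b).imp_right fun h => by
  obtain ⟨q, m, h⟩ := dt_mj h g.zero (sq.ws 9)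
  simp only [List.mem_cons, List.not_mem_nil, or_false] at m
  rcases m with rfl | rfl | rfl | rfl | rfl | rfl | rfl
  exacts [.inl h, .inr (.inl h), .inr (.inr (.inl h)), .inr (.inr (.inr (.inl h))), .inr (.inr (.inr (.inr (.inl h)))), .inr (.inr (.inr (.inr (.inr (.inl h))))), .inr (.inr (.inr (.inr (.inr (.inr (h))))))]

/-- a decision tree -/
def s9_y_T : DT := .node [7, 8] (.node [3] (.node [9] (.node [7] (.node [10] (.node [1, 9, 1] (.leaf [(0, [2, 2, 1, 9, 1])])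
  (.leaf [(6, [1, 9, 7, 2, 9, 1]), (2, [])]))
  (.node [1, 2] (.leaf [(0, [])])
  (.node [1, 1, 2] (.leaf [(6, [])])
  (.leaf [(2, [1, 9, 7, 2, 9, 1]), (2, [1, 9, 2, 9, 1, 1])]))))
  (.node [1, 2, 7] (.leaf [(2, [2, 9, 2, 1, 1]), (6, [2, 9, 2, 1, 1])])
  (.leaf [(6, [10, 1, 9, 2, 1]), (2, [10, 1, 9, 2, 1])])))
  (.node [1, 2, 7] (.node [1, 10] (.leaf [(2, [7, 2, 1]), (0, [2, 9, 1])])
  (.leaf [(2, [9, 7, 2, 1]), (0, [10, 2])]))
  (.node [10, 1] (.leaf [(0, [10, 9, 1]), (2, [2, 1])])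
  (.leaf [(2, [9, 2, 1]), (0, [10, 1])]))))
  (.node [7] (.node [10] (.node [1, 9, 1] (.leaf [(5, [2, 2, 1, 9, 1]), (1, [])])
  (.leaf [(4, []), (3, [1, 9, 1])]))
  (.node [1, 2] (.leaf [(5, [])])
  (.node [1, 1, 2] (.leaf [(5, [10])])
  (.leaf [(4, [1, 9, 2, 9, 1, 1]), (4, [1, 9, 7, 2, 9, 1])]))))
  (.node [1, 2, 7] (.node [1, 10] (.node [9] (.leaf [(3, [2, 2, 9, 1])])
  (.leaf [(4, [7, 2, 1]), (5, [2, 9, 1])]))
  (.node [9] (.leaf [(4, [2, 9, 2, 1, 1])])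
  (.leaf [(4, [9, 7, 2, 1]), (5, [10, 2])])))
  (.node [10, 1] (.node [9] (.leaf [(3, [2, 9, 1, 1])])
  (.leaf [(4, [2, 1]), (5, [10, 9, 1])]))
  (.node [9] (.leaf [(4, [10, 1, 9, 2, 1])])
  (.leaf [(5, [10, 1]), (4, [9, 2, 1])]))))))
  (.node [3, 7, 8] (.node [7] (.node [10] (.node [1, 9, 1] (.leaf [(1, [3, 3]), (5, [2, 8, 1, 9, 3, 1])])
  (.leaf [(3, [1, 9, 3, 3, 1]), (4, [3, 3])]))
  (.node [1, 2] (.leaf [(5, [3, 3])])
  (.node [1, 1, 2] (.leaf [(5, [10, 3, 3])])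
  (.leaf [(4, [1, 9, 8, 2, 9, 3, 1]), (4, [2, 1, 9, 8, 3, 2, 1])]))))
  (.node [1, 2, 7] (.node [1, 10] (.node [9] (.leaf [(3, [8, 2, 9, 3, 1, 1])])
  (.leaf [(4, [8, 3, 2, 1]), (5, [2, 9, 3, 3, 1])]))
  (.node [9] (.leaf [(4, [2, 9, 2, 8, 3, 1])])
  (.leaf [(4, [9, 8, 3, 2, 1]), (5, [10, 8, 3, 1])])))
  (.node [10, 1] (.node [9] (.leaf [(3, [2, 9, 8, 3, 1])])
  (.leaf [(5, [10, 9, 3, 3, 1]), (4, [3, 3, 2, 1])]))
  (.node [9] (.leaf [(4, [8, 2, 9, 3, 2, 1, 1])])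
  (.leaf [(4, [9, 3, 3, 2, 1]), (5, [10, 3, 3, 1])])))))
  (.node [7] (.node [10] (.node [1, 9, 1] (.leaf [(1, [3]), (5, [2, 2, 1, 9, 3, 1])])
  (.leaf [(3, [1, 9, 3, 1]), (4, [3])]))
  (.node [1, 2] (.leaf [(5, [3])])
  (.node [1, 1, 2] (.leaf [(5, [10, 3])])
  (.leaf [(4, [1, 9, 7, 2, 9, 3, 1]), (4, [1, 9, 2, 9, 3, 1, 1])]))))
  (.node [1, 2, 7] (.node [1, 10] (.node [9] (.leaf [(3, [2, 2, 9, 3, 1])])
  (.leaf [(4, [7, 3, 2, 1]), (5, [2, 9, 3, 1])]))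
  (.node [9] (.leaf [(4, [2, 9, 3, 2, 1, 1])])
  (.leaf [(4, [9, 7, 3, 2, 1]), (5, [10, 3, 2])])))
  (.node [10, 1] (.node [9] (.leaf [(3, [2, 9, 3, 1, 1])])
  (.leaf [(5, [10, 9, 3, 1]), (4, [3, 2, 1])]))
  (.node [9] (.leaf [(4, [10, 1, 9, 3, 2, 1])])
  (.leaf [(4, [9, 3, 2, 1]), (5, [10, 3, 1])]))))))

/-- a formula -/
def s9_y_f : Fm := .all 19 40 [(.l 5, .l 5)] (.imp (.one (.mul (.l 40) (.l 40))) (.or (.one (.l 40)) (dtF [(.l 5, .l 40), (.mul (.l 7) (.l 8), .l 40), (.l 7, .l 40), (.mul (.mul (.l 7) (.l 8)) (.l 10), .l 40), (.l 8, .l 40), (.mul (.l 5) (.mul (.l 7) (.l 8)), .l 40), (.l 7, .mul (.l 40) (.l 5))] (.l 40) s9_y_T)))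

theorem s9_y_ev : sp.eval s9_y_f = true := by decide +kernel

theorem s9_y {G : Type*} [Group G] {γ : ℕ → G} {k : ℕ} {N : List W} (g : Gf sp γ k N)
    (e : tyB sp k N s9_y_f = true := by decide +kernel) :
    ∀ y ∈ genW γ (sp.ws 19), y * γ 5 = γ 5 * y → y * y = 1 → y = 1 ∨ MJ (genW γ (sp.ws 19)) (γ 5) y ∨ MJ (genW γ (sp.ws 19)) (γ 7 * γ 8) y ∨ MJ (genW γ (sp.ws 19)) (γ 7) y ∨ MJ (genW γ (sp.ws 19)) (γ 7 * γ 8 * γ 10) y ∨ MJ (genW γ (sp.ws 19)) (γ 8) y ∨ MJ (genW γ (sp.ws 19)) (γ 5 * (γ 7 * γ 8)) y ∨ MJ (genW γ (sp.ws 19)) (γ 7) (y * γ 5) :=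
  fun y a p0 b => (g.transfer e s9_y_ev y a p0 b).imp_right fun h => by
  obtain ⟨q, m, h⟩ := dt_mj h g.zero (sp.ws 19)
  simp only [List.mem_cons, List.not_mem_nil, or_false] at m
  rcases m with rfl | rfl | rfl | rfl | rfl | rfl | rfl
  exacts [.inl h, .inr (.inl h), .inr (.inr (.inl h)), .inr (.inr (.inr (.inl h))), .inr (.inr (.inr (.inr (.inl h)))), .inr (.inr (.inr (.inr (.inr (.inl h))))), .inr (.inr (.inr (.inr (.inr (.inr (h))))))]

/-- a decision tree -/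
def z9_P_T : DT := .node [5] (.node [3] (.node [7] (.node [10] (.node [1, 9, 1] (.leaf [(0, [2, 2, 1, 9, 1])])
  (.leaf [(1, [1, 9, 4, 3]), (2, [])]))
  (.node [1, 2] (.leaf [(0, [])])
  (.node [1, 1, 2] (.leaf [(0, [10])])
  (.leaf [(2, [1, 9, 7, 2, 9, 1]), (2, [1, 9, 2, 9, 1, 1])]))))
  (.node [1, 2, 7] (.leaf [(1, [2, 2, 9, 4, 3]), (2, [2, 9, 2, 1, 1])])
  (.leaf [(2, [10, 1, 9, 2, 1]), (1, [2, 9, 4, 3, 3])])))
  (.node [7] (.node [10] (.node [1, 9, 1] (.leaf [(1, []), (3, [2, 2, 1, 9, 1])])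
  (.leaf [(2, [2, 9, 4, 1]), (0, [2, 9, 4, 1, 9, 4, 2, 2, 1, 9, 1])]))
  (.node [1, 2] (.leaf [(3, [])])
  (.node [1, 1, 2] (.leaf [(3, [10])])
  (.leaf [(0, [4, 2, 9, 4, 1, 9, 4]), (0, [4, 2, 9, 4, 1, 9, 7, 4])]))))
  (.node [1, 2, 7] (.leaf [(2, [1, 1, 9, 4, 1]), (0, [10, 1, 9, 4, 1, 9, 4, 1, 9, 1])])
  (.leaf [(0, [4, 2, 1, 9, 4, 2, 1, 9, 4]), (2, [1, 9, 4, 1, 1])]))))
  (.node [7] (.node [10] (.leaf [(2, [4, 9, 4, 2, 1, 9, 2]), (2, [2, 9, 4, 9, 2, 9, 1]), (3, [1, 9, 4, 9, 4, 2]), (3, [1, 9, 7, 4, 9, 4, 1])])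
  (.leaf [(3, [4, 9, 2, 9, 4, 4]), (3, [4, 4, 9, 1, 9, 4]), (3, [1, 9, 4, 1, 9, 4, 2]), (3, [4, 4, 1, 9, 7, 4, 3])]))
  (.node [5, 9] (.leaf [(0, [1, 9, 8, 4, 1, 9, 4, 1]), (0, [1, 9, 7, 4, 1, 9, 4, 1]), (0, [10, 1, 9, 4, 1, 9, 4, 2]), (0, [1, 1, 9, 4, 1, 9, 4, 1])])
  (.node [1, 2, 7] (.node [1, 10] (.leaf [(3, [8, 2, 9, 4, 9, 4, 1]), (3, [7, 2, 9, 4, 9, 4, 1])])
  (.leaf [(3, [9, 8, 2, 9, 4, 9, 4, 1]), (3, [9, 7, 2, 9, 4, 9, 4, 1])]))
  (.node [10, 1] (.leaf [(3, [2, 9, 4, 9, 7, 4, 1]), (3, [2, 9, 4, 9, 4, 1])])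
  (.leaf [(3, [9, 2, 9, 4, 9, 7, 4, 1]), (3, [9, 2, 9, 4, 9, 4, 1])])))))

/-- a formula -/
def z9_P_f : Fm := .all 2 40 [] (.imp (.one (.mul (.l 40) (.l 40))) (.or (.one (.l 40)) (dtF [(.l 5, .l 40), (.mul (.l 7) (.l 8), .l 40), (.l 7, .l 40), (.mul (.l 5) (.mul (.l 7) (.l 8)), .l 40)] (.l 40) z9_P_T)))

theorem z9_P_ev : z9.eval z9_P_f = true := by decide +kernel

theorem z9_P {G : Type*} [Group G] {γ : ℕ → G} {k : ℕ} {N : List W} (g : Gf z9 γ k N)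
    (e : tyB z9 k N z9_P_f = true := by decide +kernel) :
    ∀ y ∈ genW γ (z9.ws 2), y * y = 1 → y = 1 ∨ MJ (genW γ (z9.ws 0)) (γ 5) y ∨ MJ (genW γ (z9.ws 0)) (γ 7 * γ 8) y ∨ MJ (genW γ (z9.ws 0)) (γ 7) y ∨ MJ (genW γ (z9.ws 0)) (γ 5 * (γ 7 * γ 8)) y :=
  fun y a b => (g.transfer e z9_P_ev y a b).imp_right fun h => by
  obtain ⟨q, m, h⟩ := dt_mj h g.zero (z9.ws 0)
  simp only [List.mem_cons, List.not_mem_nil, or_false] at m
  rcases m with rfl | rfl | rfl | rfl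
  exacts [.inl h, .inr (.inl h), .inr (.inr (.inl h)), .inr (.inr (.inr (h)))]

/-- a decision tree -/
def z9_Q_T : DT := .node [7] (.node [5] (.node [3] (.node [10] (.leaf [(0, [])])
  (.leaf [(0, [1, 9, 7, 2, 9, 1]), (0, [1, 9, 2, 9, 1, 1])]))
  (.node [10] (.leaf [(0, [2, 9, 4, 1]), (1, [2, 2, 1, 9, 1])])
  (.leaf [(1, []), (1, [10])])))
  (.node [10] (.leaf [(0, [4, 9, 4, 2, 1, 9, 2]), (0, [2, 9, 4, 9, 2, 9, 1]), (1, [1, 9, 4, 9, 4, 2]), (1, [1, 9, 7, 4, 9, 4, 1])])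
  (.leaf [(1, [4, 4, 9, 1, 9, 4]), (1, [4, 9, 2, 9, 4, 4]), (1, [4, 4, 1, 9, 7, 4, 3]), (1, [1, 9, 4, 1, 9, 4, 2])])))
  (.node [1, 2, 7] (.node [1, 10] (.node [5] (.leaf [(0, [1, 1, 9, 4, 1])])
  (.leaf [(1, [8, 2, 9, 4, 9, 4, 1]), (1, [7, 2, 9, 4, 9, 4, 1])]))
  (.node [3] (.leaf [(0, [2, 9, 2, 1, 1])])
  (.leaf [(1, [9, 7, 2, 9, 4, 9, 4, 1]), (1, [9, 8, 2, 9, 4, 9, 4, 1])])))
  (.node [10, 1] (.node [5] (.leaf [(0, [1, 9, 4, 1, 1])])
  (.leaf [(1, [2, 9, 4, 9, 7, 4, 1]), (1, [2, 9, 4, 9, 4, 1])]))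
  (.node [3] (.leaf [(0, [10, 1, 9, 2, 1])])
  (.leaf [(1, [9, 2, 9, 4, 9, 7, 4, 1]), (1, [9, 2, 9, 4, 9, 4, 1])]))))

/-- a formula -/
def z9_Q_f : Fm := .all 3 40 [] (.imp (.one (.mul (.l 40) (.l 40))) (.or (.one (.l 40)) (dtF [(.l 7, .l 40), (.mul (.l 5) (.mul (.l 7) (.l 8)), .l 40)] (.l 40) z9_Q_T)))

theorem z9_Q_ev : z9.eval z9_Q_f = true := by decide +kernel

theorem z9_Q {G : Type*} [Group G] {γ : ℕ → G} {k : ℕ} {N : List W} (g : Gf z9 γ k N)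
    (e : tyB z9 k N z9_Q_f = true := by decide +kernel) :
    ∀ y ∈ genW γ (z9.ws 3), y * y = 1 → y = 1 ∨ MJ (genW γ (z9.ws 0)) (γ 7) y ∨ MJ (genW γ (z9.ws 0)) (γ 5 * (γ 7 * γ 8)) y :=
  fun y a b => (g.transfer e z9_Q_ev y a b).imp_right fun h => by
  obtain ⟨q, m, h⟩ := dt_mj h g.zero (z9.ws 0)
  simp only [List.mem_cons, List.not_mem_nil, or_false] at m
  rcases m with rfl | rfl
  exacts [.inl h, .inr (h)]

/-- a formula -/
def z9_M_f : Fm := .all 5 40 [] (.or (.mem 4 (.l 40)) (.mem 4 (.mul (.l 40) (.mul (.l 7) (.l 8)))))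

theorem z9_M_ev : z9.eval z9_M_f = true := by decide +kernel

theorem z9_M {G : Type*} [Group G] {γ : ℕ → G} {k : ℕ} {N : List W} (g : Gf z9 γ k N)
    (e : tyB z9 k N z9_M_f = true := by decide +kernel) :
    ∀ n ∈ genW γ (z9.ws 5), n ∈ genW γ (z9.ws 4) ∨ n * (γ 7 * γ 8) ∈ genW γ (z9.ws 4) :=
  g.transfer e z9_M_ev

theorem z9_c : ∀ y ∈ genW z9.gam (z9.ws 0), y * (z9.gam 1 * z9.gam 2 * z9.gam 3) = z9.gam 1 * z9.gam 2 * z9.gam 3 * y → y ∈ genW z9.gam (z9.ws 1) :=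
  z9_ok.holds (φ := .all 0 40 [(.mul (.mul (.l 1) (.l 2)) (.l 3), .mul (.mul (.l 1) (.l 2)) (.l 3))] (.mem 1 (.l 40))) (by decide +kernel)

/-- a formula -/
def s9_ic_f : Fm := .all 19 40 [(.l 5, .l 5), (.l 3, .inv (.l 3))] (.imp (.one (.mul (.l 40) (.l 40))) (.or (.ex 19 41 [(.l 8, .l 40)] (.tt)) (.or (.ex 19 41 [(.mul (.l 5) (.mul (.l 7) (.l 8)), .l 40)] (.tt)) (.ex 19 41 [(.l 5, .l 5), (.pow (.mul (.mul (.mul (.mul (.l 1) (.l 2)) (.mul (.l 40) (.l 7))) (.inv (.mul (.l 1) (.l 2)))) (.inv (.mul (.l 40) (.l 7)))) 4, .mul (.l 1) (.l 2))] (.tt)))))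

theorem s9_ic_ev : sp.eval s9_ic_f = true := by decide +kernel

theorem s9_ic {G : Type*} [Group G] {γ : ℕ → G} {k : ℕ} {N : List W} (g : Gf sp γ k N)
    (e : tyB sp k N s9_ic_f = true := by decide +kernel) :
    ∀ y ∈ genW γ (sp.ws 19), y * γ 5 = γ 5 * y → y * γ 3 = (γ 3)⁻¹ * y → y * y = 1 → (∃ k ∈ genW γ (sp.ws 19), k * γ 8 = y * k ∧ True) ∨ (∃ k ∈ genW γ (sp.ws 19), k * (γ 5 * (γ 7 * γ 8)) = y * k ∧ True) ∨ (∃ k ∈ genW γ (sp.ws 19), k * γ 5 = γ 5 * k ∧ k * (γ 1 * γ 2 * (y * γ 7) * (γ 1 * γ 2)⁻¹ * (y * γ 7)⁻¹) ^ 4 = γ 1 * γ 2 * k ∧ True) :=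
  g.transfer e s9_ic_ev

end Cfsg.Lib.Loc3
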