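import Cfsg.Agent.Lib.T3.Gf

/-! The group `S₃ ≀ 2` on 6 points (generated data, helper8). -/

set_option autoImplicit false
set_option maxRecDepth 1000000
set_option maxHeartbeats 0

namespace Cfsg.Lib.Loc3

open Cfsg.Lib.Calc Cfsg.Lib.Grp Cfsg.Lib.T2 Cfsg.Lib.T3

/-- relators -/
def relW6 : List W := [.pow (.l 1) 3, .pow (.l 2) 3, .mul (.mul (.mul (.l 1) (.l 2)) (.inv (.l 1))) (.inv (.l 2)), .mul (.l 3) (.l 3), .mul (.l 4) (.l 4), .pow (.mul (.l 3) (.l 4)) 4, .mul (.mul (.mul (.l 3) (.l 1)) (.l 3)) (.l 1), .mul (.mul (.mul (.l 3) (.l 2)) (.l 3)) (.inv (.l 2)), .mul (.mul (.mul (.l 4) (.l 2)) (.l 4)) (.inv (.l 1))]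

def w6_L0 : List (ℕ × List ℕ) := [((nat_lit 0), [(nat_lit 181896), (nat_lit 181777), (nat_lit 69987), (nat_lit 181826), (nat_lit 69868), (nat_lit 69917)]),
  ((nat_lit 3), [(nat_lit 181896), (nat_lit 120968), (nat_lit 146056)]),
  ((nat_lit 1), [(nat_lit 181896), (nat_lit 181840)]),
  ((nat_lit 4), [(nat_lit 181896), (nat_lit 153224)])]

def w6_D0 : List ℕ := [(nat_lit 0), (nat_lit 513), (nat_lit 2049), (nat_lit 769), (nat_lit 57346), (nat_lit 72962), (nat_lit 0), (nat_lit 1025), (nat_lit 1281), (nat_lit 0), (nat_lit 49410), (nat_lit 0), (nat_lit 142778116)]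

def w6_L1 : List (ℕ × List ℕ) := [((nat_lit 0), [(nat_lit 181896), (nat_lit 181777), (nat_lit 181826)]),
  ((nat_lit 3), [(nat_lit 181896), (nat_lit 120968), (nat_lit 146056)])]

def w6_D1 : List ℕ := [(nat_lit 0), (nat_lit 513), (nat_lit 769), (nat_lit 0), (nat_lit 1025), (nat_lit 1281)]

def w6_L2 : List (ℕ × List ℕ) := [((nat_lit 0), [(nat_lit 181896), (nat_lit 181777), (nat_lit 181826)]),
  ((nat_lit 3), [(nat_lit 181896), (nat_lit 120968), (nat_lit 146056)]),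
  ((nat_lit 1), [(nat_lit 181896), (nat_lit 181840)])]

def w6_D2 : List ℕ := [(nat_lit 0), (nat_lit 513), (nat_lit 769), (nat_lit 0), (nat_lit 1025), (nat_lit 1281), (nat_lit 0), (nat_lit 36610)]

def w6_L3 : List (ℕ × List ℕ) := [((nat_lit 0), [(nat_lit 181896), (nat_lit 181777), (nat_lit 69987), (nat_lit 181826), (nat_lit 69868), (nat_lit 69917)]),
  ((nat_lit 3), [(nat_lit 181896), (nat_lit 120968), (nat_lit 146056)])]

def w6_D3 : List ℕ := [(nat_lit 0), (nat_lit 513), (nat_lit 1537), (nat_lit 769), (nat_lit 42498), (nat_lit 56578), (nat_lit 0), (nat_lit 1025), (nat_lit 1281)]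

def w6_L4 : List (ℕ × List ℕ) := [((nat_lit 0), [(nat_lit 181896), (nat_lit 120961)]),
  ((nat_lit 3), [(nat_lit 181896), (nat_lit 146056), (nat_lit 120968)])]

def w6_D4 : List ℕ := [(nat_lit 0), (nat_lit 513), (nat_lit 0), (nat_lit 15874), (nat_lit 11010)]

def w6_L5 : List (ℕ × List ℕ) := [((nat_lit 0), [(nat_lit 181896), (nat_lit 8940), (nat_lit 34077), (nat_lit 145986), (nat_lit 120849), (nat_lit 69987)])]

def w6_D5 : List ℕ := [(nat_lit 0), (nat_lit 513), (nat_lit 769), (nat_lit 15874), (nat_lit 25346), (nat_lit 36354)]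

def w6_L6 : List (ℕ × List ℕ) := [((nat_lit 0), [(nat_lit 181896), (nat_lit 181777), (nat_lit 66403), (nat_lit 181826), (nat_lit 69980), (nat_lit 66333)]),
  ((nat_lit 3), [(nat_lit 181896), (nat_lit 120968), (nat_lit 146056)]),
  ((nat_lit 1), [(nat_lit 181896), (nat_lit 153168)])]

def w6_D6 : List ℕ := [(nat_lit 0), (nat_lit 513), (nat_lit 1537), (nat_lit 769), (nat_lit 1793), (nat_lit 56578), (nat_lit 0), (nat_lit 1025), (nat_lit 1281), (nat_lit 0), (nat_lit 57529092)]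

def w6 : PM :=
  ⟨(nat_lit 6), (nat_lit 3), [(nat_lit 181777), (nat_lit 120968), (nat_lit 181889), (nat_lit 69987)],
    [[.l 1, .l 2, .l 3, .l 4],
    [.l 1, .l 2],
    [.l 1, .l 2, .l 3],
    [.l 1, .l 2, .l 4],
    [.mul (.l 2) (.l 3)],
    [.mul (.mul (.l 1) (.l 2)) (.l 4)],
    [.l 1, .l 2, .mul (.l 3) (.l 4)]],
    [w6_L0, w6_L1, w6_L2, w6_L3, w6_L4, w6_L5, w6_L6], [w6_D0, w6_D1, w6_D2, w6_D3, w6_D4, w6_D5, w6_D6]⟩

instance w6_ne : NeZero w6.n := ⟨by decide⟩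

theorem w6_ok0 : w6.ok0 = true := by decide +kernel

theorem w6_k0 : allFrom (nat_lit 0) (nat_lit 1) w6.okK = true := by decide +kernel

theorem w6_k1 : allFrom (nat_lit 1) (nat_lit 1) w6.okK = true := by decide +kernel

theorem w6_k2 : allFrom (nat_lit 2) (nat_lit 1) w6.okK = true := by decide +kernel

theorem w6_k3 : allFrom (nat_lit 3) (nat_lit 1) w6.okK = true := by decide +kernel

theorem w6_k4 : allFrom (nat_lit 4) (nat_lit 1) w6.okK = true := by decide +kernel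

theorem w6_k5 : allFrom (nat_lit 5) (nat_lit 1) w6.okK = true := by decide +kernel

theorem w6_k6 : allFrom (nat_lit 6) (nat_lit 1) w6.okK = true := by decide +kernel

theorem w6_ok : w6.OK := PM.OK.of_check w6_ok0
  (of_allFrom_append (of_allFrom_append (of_allFrom_append (of_allFrom_append (of_allFrom_append (of_allFrom_append (of_allFrom_append of_lt_zero w6_k0) w6_k1) w6_k2) w6_k3) w6_k4) w6_k5) w6_k6)

theorem w6_card0 : Nat.card (genW w6.gam (w6.ws 0)) = 72 := (w6_ok.card 0).trans (by decide +kernel)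

theorem w6_card1 : Nat.card (genW w6.gam (w6.ws 1)) = 9 := (w6_ok.card 1).trans (by decide +kernel)

theorem w6_card2 : Nat.card (genW w6.gam (w6.ws 2)) = 18 := (w6_ok.card 2).trans (by decide +kernel)

theorem w6_card3 : Nat.card (genW w6.gam (w6.ws 3)) = 18 := (w6_ok.card 3).trans (by decide +kernel)

theorem w6_card4 : Nat.card (genW w6.gam (w6.ws 4)) = 6 := (w6_ok.card 4).trans (by decide +kernel)

theorem w6_card5 : Nat.card (genW w6.gam (w6.ws 5)) = 6 := (w6_ok.card 5).trans (by decide +kernel)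

theorem w6_card6 : Nat.card (genW w6.gam (w6.ws 6)) = 36 := (w6_ok.card 6).trans (by decide +kernel)

/-- a formula -/
def w6_c2_f : Fm := .all 0 40 [(.l 2, .l 2)] (.mem 2 (.l 40))

theorem w6_c2_ev : w6.eval w6_c2_f = true := by decide +kernel

theorem w6_c2 {G : Type*} [Group G] {γ : ℕ → G} {k : ℕ} {N : List W} (g : Gf w6 γ k N)
    (e : tyB w6 k N w6_c2_f = true := by decide +kernel) :
    ∀ e ∈ genW γ (w6.ws 0), e * γ 2 = γ 2 * e → e ∈ genW γ (w6.ws 2) :=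
  g.transfer e w6_c2_ev

/-- a formula -/
def w6_c3_f : Fm := .all 0 40 [(.mul (.l 1) (.l 2), .mul (.l 1) (.l 2))] (.mem 3 (.l 40))

theorem w6_c3_ev : w6.eval w6_c3_f = true := by decide +kernel

theorem w6_c3 {G : Type*} [Group G] {γ : ℕ → G} {k : ℕ} {N : List W} (g : Gf w6 γ k N)
    (e : tyB w6 k N w6_c3_f = true := by decide +kernel) :
    ∀ e ∈ genW γ (w6.ws 0), e * (γ 1 * γ 2) = γ 1 * γ 2 * e → e ∈ genW γ (w6.ws 3) :=
  g.transfer e w6_c3_ev

/-- a formula -/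
def w6_c4_f : Fm := .all 0 40 [(.mul (.l 2) (.l 3), .mul (.l 2) (.l 3))] (.mem 4 (.l 40))

theorem w6_c4_ev : w6.eval w6_c4_f = true := by decide +kernel

theorem w6_c4 {G : Type*} [Group G] {γ : ℕ → G} {k : ℕ} {N : List W} (g : Gf w6 γ k N)
    (e : tyB w6 k N w6_c4_f = true := by decide +kernel) :
    ∀ e ∈ genW γ (w6.ws 0), e * (γ 2 * γ 3) = γ 2 * γ 3 * e → e ∈ genW γ (w6.ws 4) :=
  g.transfer e w6_c4_ev

/-- a formula -/
def w6_c5_f : Fm := .all 0 40 [(.mul (.mul (.l 1) (.l 2)) (.l 4), .mul (.mul (.l 1) (.l 2)) (.l 4))] (.mem 5 (.l 40))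

theorem w6_c5_ev : w6.eval w6_c5_f = true := by decide +kernel

theorem w6_c5 {G : Type*} [Group G] {γ : ℕ → G} {k : ℕ} {N : List W} (g : Gf w6 γ k N)
    (e : tyB w6 k N w6_c5_f = true := by decide +kernel) :
    ∀ e ∈ genW γ (w6.ws 0), e * (γ 1 * γ 2 * γ 4) = γ 1 * γ 2 * γ 4 * e → e ∈ genW γ (w6.ws 5) :=
  g.transfer e w6_c5_ev

/-- a formula -/
def w6_nc_f : Fm := .and (.all 0 40 [(.l 2, .mul (.l 1) (.l 2))] (.not (.tt))) (.and (.all 0 40 [(.l 2, .mul (.l 2) (.l 3))] (.not (.tt))) (.and (.all 0 40 [(.l 2, .mul (.mul (.l 1) (.l 2)) (.l 4))] (.not (.tt))) (.and (.all 0 40 [(.mul (.l 1) (.l 2), .mul (.l 2) (.l 3))] (.not (.tt))) (.and (.all 0 40 [(.mul (.l 1) (.l 2), .mul (.mul (.l 1) (.l 2)) (.l 4))] (.not (.tt))) (.all 0 40 [(.mul (.l 2) (.l 3), .mul (.mul (.l 1) (.l 2)) (.l 4))] (.not (.tt)))))))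

theorem w6_nc_ev : w6.eval w6_nc_f = true := by decide +kernel

theorem w6_nc {G : Type*} [Group G] {γ : ℕ → G} {k : ℕ} {N : List W} (g : Gf w6 γ k N)
    (e : tyB w6 k N w6_nc_f = true := by decide +kernel) :
    (∀ e ∈ genW γ (w6.ws 0), e * γ 2 = γ 1 * γ 2 * e → ¬ True) ∧ (∀ e ∈ genW γ (w6.ws 0), e * γ 2 = γ 2 * γ 3 * e → ¬ True) ∧ (∀ e ∈ genW γ (w6.ws 0), e * γ 2 = γ 1 * γ 2 * γ 4 * e → ¬ True) ∧ (∀ e ∈ genW γ (w6.ws 0), e * (γ 1 * γ 2) = γ 2 * γ 3 * e → ¬ True) ∧ (∀ e ∈ genW γ (w6.ws 0), e * (γ 1 * γ 2) = γ 1 * γ 2 * γ 4 * e → ¬ True) ∧ (∀ e ∈ genW γ (w6.ws 0), e * (γ 2 * γ 3) = γ 1 * γ 2 * γ 4 * e → ¬ True) :=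
  g.transfer e w6_nc_ev

/-- a formula -/
def w6_p1_f : Fm := .all 1 40 [] (.imp (.ex 0 41 [(.l 2, .l 40)] (.tt)) (.imp (.ex 0 41 [(.l 2, .mul (.mul (.inv (.l 40)) (.l 1)) (.l 2))] (.tt)) (.or (.eq (.l 40) (.l 1)) (.eq (.l 40) (.l 2)))))

theorem w6_p1_ev : w6.eval w6_p1_f = true := by decide +kernel

theorem w6_p1 {G : Type*} [Group G] {γ : ℕ → G} {k : ℕ} {N : List W} (g : Gf w6 γ k N)
    (e : tyB w6 k N w6_p1_f = true := by decide +kernel) :
    ∀ a ∈ genW γ (w6.ws 1), (∃ k ∈ genW γ (w6.ws 0), k * γ 2 = a * k ∧ True) → (∃ k ∈ genW γ (w6.ws 0), k * γ 2 = a⁻¹ * γ 1 * γ 2 * k ∧ True) → a = γ 1 ∨ a = γ 2 :=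
  g.transfer e w6_p1_ev

/-- a formula -/
def w6_p2_f : Fm := .all 1 40 [] (.imp (.ex 0 41 [(.mul (.l 1) (.l 2), .l 40)] (.tt)) (.imp (.ex 0 41 [(.mul (.l 1) (.l 2), .mul (.inv (.l 40)) (.l 2))] (.tt)) (.or (.eq (.l 40) (.mul (.l 1) (.inv (.l 2)))) (.eq (.l 40) (.mul (.inv (.l 1)) (.inv (.l 2)))))))

theorem w6_p2_ev : w6.eval w6_p2_f = true := by decide +kernel

theorem w6_p2 {G : Type*} [Group G] {γ : ℕ → G} {k : ℕ} {N : List W} (g : Gf w6 γ k N)
    (e : tyB w6 k N w6_p2_f = true := by decide +kernel) :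
    ∀ a ∈ genW γ (w6.ws 1), (∃ k ∈ genW γ (w6.ws 0), k * (γ 1 * γ 2) = a * k ∧ True) → (∃ k ∈ genW γ (w6.ws 0), k * (γ 1 * γ 2) = a⁻¹ * γ 2 * k ∧ True) → a = γ 1 * (γ 2)⁻¹ ∨ a = (γ 1)⁻¹ * (γ 2)⁻¹ :=
  g.transfer e w6_p2_ev

/-- a formula -/
def w6_T_f : Fm := .all 1 40 [] (.or (.one (.l 40)) (.or (.ex 6 41 [(.l 2, .l 40)] (.tt)) (.ex 6 41 [(.mul (.l 1) (.l 2), .l 40)] (.tt))))

theorem w6_T_ev : w6.eval w6_T_f = true := by decide +kernel

theorem w6_T {G : Type*} [Group G] {γ : ℕ → G} {k : ℕ} {N : List W} (g : Gf w6 γ k N)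
    (e : tyB w6 k N w6_T_f = true := by decide +kernel) :
    ∀ a ∈ genW γ (w6.ws 1), a = 1 ∨ (∃ k ∈ genW γ (w6.ws 6), k * γ 2 = a * k ∧ True) ∨ (∃ k ∈ genW γ (w6.ws 6), k * (γ 1 * γ 2) = a * k ∧ True) :=
  g.transfer e w6_T_ev

/-- a formula -/
def w6_F_f : Fm := .all 1 40 [] (.imp (.not (.one (.l 40))) (.all 6 41 [(.l 40, .l 40)] (.mem 1 (.l 41))))

theorem w6_F_ev : w6.eval w6_F_f = true := by decide +kernel

theorem w6_F {G : Type*} [Group G] {γ : ℕ → G} {k : ℕ} {N : List W} (g : Gf w6 γ k N)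
    (e : tyB w6 k N w6_F_f = true := by decide +kernel) :
    ∀ a ∈ genW γ (w6.ws 1), a ≠ 1 → ∀ e ∈ genW γ (w6.ws 6), e * a = a * e → e ∈ genW γ (w6.ws 1) :=
  g.transfer e w6_F_ev

/-- a formula -/
def w6_q_f : Fm := .all 0 40 [] (.or (.mem 1 (.pow (.l 40) 2)) (.or (.mem 1 (.mul (.l 40) (.inv (.mul (.l 3) (.l 4))))) (.mem 1 (.mul (.l 40) (.mul (.l 3) (.l 4))))))

theorem w6_q_ev : w6.eval w6_q_f = true := by decide +kernel

theorem w6_q {G : Type*} [Group G] {γ : ℕ → G} {k : ℕ} {N : List W} (g : Gf w6 γ k N)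
    (e : tyB w6 k N w6_q_f = true := by decide +kernel) :
    ∀ n ∈ genW γ (w6.ws 0), n ^ 2 ∈ genW γ (w6.ws 1) ∨ n * (γ 3 * γ 4)⁻¹ ∈ genW γ (w6.ws 1) ∨ n * (γ 3 * γ 4) ∈ genW γ (w6.ws 1) :=
  g.transfer e w6_q_ev

/-- a formula -/
def w6_i_f : Fm := .all 0 40 [] (.or (.mem 6 (.l 40)) (.mem 6 (.mul (.l 40) (.l 3))))

theorem w6_i_ev : w6.eval w6_i_f = true := by decide +kernel

theorem w6_i {G : Type*} [Group G] {γ : ℕ → G} {k : ℕ} {N : List W} (g : Gf w6 γ k N)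
    (e : tyB w6 k N w6_i_f = true := by decide +kernel) :
    ∀ n ∈ genW γ (w6.ws 0), n ∈ genW γ (w6.ws 6) ∨ n * γ 3 ∈ genW γ (w6.ws 6) :=
  g.transfer e w6_i_ev

/-- a formula -/
def w6_r_f : Fm := .all 1 40 [] (.or (.one (.l 40)) (.ex 6 41 [] (.or (.eq (.mul (.mul (.l 41) (.l 40)) (.inv (.l 41))) (.l 2)) (.ex 6 42 [] (.eq (.mul (.mul (.mul (.l 41) (.l 40)) (.inv (.l 41))) (.mul (.mul (.l 42) (.l 40)) (.inv (.l 42)))) (.l 2))))))

theorem w6_r_ev : w6.eval w6_r_f = true := by decide +kernel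

theorem w6_r {G : Type*} [Group G] {γ : ℕ → G} {k : ℕ} {N : List W} (g : Gf w6 γ k N)
    (e : tyB w6 k N w6_r_f = true := by decide +kernel) :
    ∀ a ∈ genW γ (w6.ws 1), a = 1 ∨ (∃ k ∈ genW γ (w6.ws 6), k * a * k⁻¹ = γ 2 ∨ (∃ l ∈ genW γ (w6.ws 6), k * a * k⁻¹ * (l * a * l⁻¹) = γ 2)) :=
  g.transfer e w6_r_ev

/-- inverse letters -/
def tcW6_iv : ℕ := 2185336992

/-- inverse letters -/
def tcW6_labs : List W := [.l 0, .l 1, .l 2, .l 3, .l 4, .inv (.l 1), .inv (.l 2)]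

def tcW6_F : Tr := .leaf (nat_lit 0x3471410c72c51c31c70c22c73461470c62c41bf1c60be2c634114634513b0c52c21bc1c53441450c42be1b91c433b14414333f2c30bc2362431373433421341b51c233e1420c12bb1b71c10b42c13401331b21c033a1402bd0c013f3372bf0b923023f1af1be33413e12e33d33813d2b10bd33c12c0b52bc33913c0bb2b41ac1bb1aa1ba33313a2b80ba0af2b932c13932e1382a90b82b70ac2252372b60a533612b1a61b62b00b633512432f1351a41b41a21b32ae0b313232a2b20ad22023212233212133132913133012819e1b02a50b032412f2a10ae32d11c09f2ad32712d0a42ac32b12319a1ab2a80ab12a3222aa0a721822a32112911d3282990a80972a731c1272262142a609e32611a2930a63251191931a51921a329d0a32a209c2102222a009032011b1941a02980a031f10f31711f21e20d29e09331e11629109d08f29c31b10e18d19b29509b29a09620a21a11231a11131931811518a19829009830f11731610c08929610831528b09529408a31410d28609421320531310929208c20621231010b18619018518e28808e28d08710530d08428c10330b28a08630a10730910428308808228730610228508124724024623d24523a2442380c32b52422332412312c00b10bf2af23e22e1bd1ad23c22b23b2292ba0a92392281b81a70b72a41363232352232342212b30a10b229f1b119f13031d22f21d1ae19c22d21b22c2192ab0990aa2971a91971a81962272151263121253112242112a30910a228f1a118f12030e21f20e11e30c19d18c21c20b29b08b09a28919918911830821720821620719518711430511330409228419118411030320f20328e08308d28220c20218b18210a301209201188181307101106300085280204200183180302100281080000000)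
def tcW6_T : Tr := .leaf (nat_lit 0x8f1a2c4870a0c07ef9ebc76e9cb86ed9ab466c98b05eb96ac56a94a84e992a446890a03e78e9c3668c982e58a9426488901e3868c16284880e182840608080)
def tcW6_P : Tr := .node (.node (.node (.leaf (nat_lit 0x689812803010c93023006055f8c40000460100a800028c12e21000021725c3e0040c184a0b400818580e09803030a81c1100605152542e0040814488a400009462900001140281a000040a0489c0001930270000150894000004808068000327c4200002200303400014380605800020712c00000950d80000068080b006020c0101200c0c160201c0181418030a800010382a00002080184c00818200203801020380405004020203400004040b00000))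
  (.leaf (nat_lit 0xff800ff800ff800ff800ff800ff800ff800ff800ff800ff800ff800ff800ff800ff800ffa09028f00206455e11e00c0c8ebdccdd703a26300000d1d7c428030323aee8d00206445a11a00c0c8c3d169aee3945c00000d196b3e80303232ce83002063b1d5160040c84ac22c01819155b87b25a1163c80001a2aae89002063e5411200c0c8838138542d289cc0000d114f3b801031fa7c8700602)))
  (.leaf (nat_lit 0x708394c00812366f0000037120960000c4a239b40000a306d00001363dc9a0000a6c7a98400008904735801031a9ea5f00206341083c060488c9200006662111400010cd22000002a390ca00c051f32800001907c4100006323988a00c04627310c01814c4e52980102c2cc200002601d0f400014c0dd2580001179ba49002062e36c8600408381b96c00818b4d81f80303169aa4f002062c3349200c0c466615c00808ac321a8000215a100000044621540180a0e5500000)))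
  (.node (.leaf (nat_lit 0x2a0b8620000c526290c00814a0c21d80302941823300204272fc5e00c0c4e5e8e4008196eae26800030f1624d0000267934000049824138000133496000024a1109c000148c221280002119b800000db22800001103c2100006100748200004d820800009015229000052029c62000041e0e8fc008187ca71780103068323d00006132807a00004c21e800008e94223002041c27c3e00c0c1c4f0dc008086c160d800020d97800000c11a800000d0241500006))
  (.leaf (nat_lit 0xb1a1c000010c6a368000321a806f006023419d0a0040c849dbc556ae7b1ac0000d09393e801031da588300606411887ca95abe2940000682979a401818cd2e4080101200c46500004404b4ea0040480b3000001ba487f00602aa9fc00000fc5e30800031f0b8380b064765f000033e48cd20040c7a9017401814f51d38801029ea3e63002042c15cf20040c788c1ac01818f11539801031a21877006063b1485c10098ccb200006742915400010e90d33801011d29c00000728597c01818e5092c801031c20a5d00205)))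
def tcW6_N_0 : Tr := .node (.node (.node (.node (.leaf (nat_lit 1057))
  (.leaf (nat_lit 132)))
  (.node (.leaf (nat_lit 161))
  (.leaf (nat_lit 2054))))
  (.node (.node (.leaf (nat_lit 35875))
  (.leaf (nat_lit 37)))
  (.leaf (nat_lit 6146))))
  (.node (.node (.node (.leaf (nat_lit 201793))
  (.leaf (nat_lit 4100)))
  (.node (.leaf (nat_lit 194))
  (.leaf (nat_lit 0))))
  (.node (.node (.leaf (nat_lit 168004))
  (.leaf (nat_lit 70)))
  (.leaf (nat_lit 99))))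
def tcW6_N_1 : Tr := .node (.node (.node (.node (.leaf (nat_lit 2114))
  (.leaf (nat_lit 132)))
  (.node (.leaf (nat_lit 5121))
  (.leaf (nat_lit 0))))
  (.node (.node (.leaf (nat_lit 199747))
  (.leaf (nat_lit 1029)))
  (.leaf (nat_lit 99))))
  (.node (.node (.node (.leaf (nat_lit 140797676675))
  (.leaf (nat_lit 37)))
  (.leaf (nat_lit 194)))
  (.node (.node (.leaf (nat_lit 161))
  (.leaf (nat_lit 70)))
  (.leaf (nat_lit 3075))))
def tcW6_N : Tr := .node tcW6_N_0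
  tcW6_N_1
noncomputable def tcW6 : TC :=
  ⟨[.l 0, .l 1, .l 2, .l 3, .l 4, .l 5, .l 6],
    (nat_lit 7), (nat_lit 9), (nat_lit 2185336992), (nat_lit 1), (nat_lit 72), (nat_lit 0), (nat_lit 32), (nat_lit 5), (nat_lit 27),
    get (nat_lit 10) (nat_lit 0x400c0400c02010030080400c02010030080400c020100300804010040200400c03), Tr.get tcW6_N, get (nat_lit 20) (nat_lit 0x3ff003ff003ff003ff003ff003ff003ff003ff003ff003ff003ff003ff003ff003ff003ff003ff003ff003ff003ff003ff00008000070000600005000020000100000),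
    Tr.get3 tcW6_F (nat_lit 24) (nat_lit 5), Tr.get3 tcW6_T (nat_lit 7) (nat_lit 7), Tr.get tcW6_P⟩

theorem tcW6_head : tcW6.headOK relW6 tcW6_iv = true := by decide +kernel

theorem tcW6_b0 : allFrom (nat_lit 0) (nat_lit 5) tcW6.blockOK = true := by decide +kernel

def tcW6_Q4 : Tr := .leaf (nat_lit 0x47a351689c6215068eb81f518793ba28e688a5634d669424c905712f9f0b6593c438ec7227c0e9649353c0d1331fb8cbc392d340b10f178b49d025aab890f10f8f9c4191c344262e162bd68090f0602408)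
theorem tcW6_f4_0 : allFrom (nat_lit 0) (nat_lit 72) (tcW6.finOK (nat_lit 72) (Tr.get3 tcW6_Q4 (nat_lit 9) (nat_lit 6)) (nat_lit 4)) = true := by
  decide +kernel

def tcW6_Q3 : Tr := .leaf (nat_lit 0xd66933594d6e1b017ad2db8f79bae56b2a71c0d130f3c9d5ecc728b7974f55d8b56ca65138515f13d7b4ec86ea314a4765c6b45c66c82914056eb7cbdc46aa212a1ae3a0bb246411152ad5222038582006)
theorem tcW6_f3_0 : allFrom (nat_lit 0) (nat_lit 72) (tcW6.finOK (nat_lit 72) (Tr.get3 tcW6_Q3 (nat_lit 9) (nat_lit 6)) (nat_lit 3)) = true := by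
  decide +kernel

def tcW6_Q2 : Tr := .leaf (nat_lit 0xd46833192c8e136178badb2d160cf562a550c59b67d88be4de5861925ae3964a344e192a8213497408c4c65e41720f61720763f9f43162379942913b3d9a217336170c25605564bf4d03546984fa481c04)
theorem tcW6_f2_0 : allFrom (nat_lit 0) (nat_lit 72) (tcW6.finOK (nat_lit 72) (Tr.get3 tcW6_Q2 (nat_lit 9) (nat_lit 6)) (nat_lit 2)) = true := by
  decide +kernel

def tcW6_Q1 : Tr := .leaf (nat_lit 0xd7e9f3b9743eaf07763fe8ecd8eafd5ae54e37d0ac77f9c1950126aac8a694c8a154e908883f2911b7a114cce88fc01b8f26a0d4acc683b4978b6700948cee6da9836b01b2e982965227016a10e2552002)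
theorem tcW6_f1_0 : allFrom (nat_lit 0) (nat_lit 72) (tcW6.finOK (nat_lit 72) (Tr.get3 tcW6_Q1 (nat_lit 9) (nat_lit 6)) (nat_lit 1)) = true := by
  decide +kernel

theorem tcW6_blocks : ∀ t < tcW6.k, tcW6.blockOK t = true :=
  (of_allFrom_append of_lt_zero tcW6_b0)

/-- index 72 max 72 total 72 facts 217 | needed cosets 72 facts 217 steps 442 trivial 0 -/
theorem tcW6_index {G : Type*} [Group G] {γ : ℕ → G} (hL : Lab γ tcW6_iv) (hr : ∀ t ∈ relW6, t.ev γ = 1) {K : Subgroup G}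
    (hK : ∀ t ∈ ([] : List W), t.ev γ ∈ K) :
    K.relIndex (genW γ [.l 1, .l 2, .l 3, .l 4]) ≠ 0 ∧ K.relIndex (genW γ [.l 1, .l 2, .l 3, .l 4]) ≤ 72 :=
  TC.relIndex_le (D := tcW6) (gens := [1, 2, 3, 4]) hL (List.forall_mem_cons.2 ⟨hL.zero_mem K, hK⟩) hr tcW6_head tcW6_blocks (by decide) (by decide)
   (List.forall_mem_cons.2 ⟨⟨_, (of_allFrom_append of_lt_zero tcW6_f1_0)⟩,
    List.forall_mem_cons.2 ⟨⟨_, (of_allFrom_append of_lt_zero tcW6_f2_0)⟩,
    List.forall_mem_cons.2 ⟨⟨_, (of_allFrom_append of_lt_zero tcW6_f3_0)⟩,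
    List.forall_mem_cons.2 ⟨⟨_, (of_allFrom_append of_lt_zero tcW6_f4_0)⟩,
    fun _ h => absurd h List.not_mem_nil⟩⟩⟩⟩)

theorem tcW6_idx {G : Type*} [Group G] {γ : ℕ → G} (h0 : γ 0 = 1) (hr : ∀ t ∈ relW6, t.ev γ = 1) {K : Subgroup G}
    (hK : ∀ t ∈ ([] : List W), t.ev γ ∈ K) :
    K.relIndex (genW γ [.l 1, .l 2, .l 3, .l 4]) ≠ 0 ∧ K.relIndex (genW γ [.l 1, .l 2, .l 3, .l 4]) ≤ 72 := by
  have a := lab_of_rels h0 hr (iv := tcW6_iv) (labs := tcW6_labs) (by decide +kernel)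
  have b := tcW6_index a.1 a.2 (mems_fix (by decide +kernel) hK)
  rwa [genW_fix (by decide +kernel)] at b

theorem tcW6_tb : TB relW6 [.l 1, .l 2, .l 3, .l 4] 72 := fun _ _ _ h0 hr =>
  card_le_of_relIndex (N := 1) bot_le (tcW6_idx h0 hr nil_all) card_bot_le

end Cfsg.Lib.Loc3
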