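import Cfsg.Agent.Lib.Loc3.SpM
import Cfsg.Agent.Lib.Loc3.Gen5

/-! Facts about the 3-local subgroups of `Sp₆(2)` (generated data, helper8). -/

set_option autoImplicit false
set_option maxRecDepth 1000000
set_option maxHeartbeats 0

namespace Cfsg.Lib.Loc3

open Cfsg.Lib.Calc Cfsg.Lib.Grp Cfsg.Lib.T2 Cfsg.Lib.T3

/-- a word centralising `z` permutes the basis -/
def hwF (w : W) : Fm := .imp (.eq (.mul w (.mul (.mul (.l 1) (.l 2)) (.l 3))) (.mul (.mul (.mul (.l 1) (.l 2)) (.l 3)) w)) (.or (.eq (.mul w (.l 1)) (.mul (.l 1) w))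
  (.or (.eq (.mul w (.l 1)) (.mul (.l 2) w)) (.eq (.mul w (.l 1)) (.mul (.l 3) w))))

/-- the word acts as `d` on a shifted basis -/
def actF (w e : W) : Fm := .and (.eq (cj w (.mul (.l 1) e)) (.inv (.mul (.l 1) e))) (.and (.eq (cj w (.mul (.l 2) e)) (.inv (.mul (.l 2) e)))
  (.eq (cj w (.mul (.l 3) e)) (.mul (.l 3) e)))

/-- the cube acts trivially -/
def cuF (φ : Fm) : Fm := .imp (.eq (.mul (.pow (.l 40) 3) (.l 1)) (.mul (.l 1) (.pow (.l 40) 3)))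
  (.imp (.eq (.mul (.pow (.l 40) 3) (.l 2)) (.mul (.l 2) (.pow (.l 40) 3)))
  (.imp (.eq (.mul (.pow (.l 40) 3) (.l 3)) (.mul (.l 3) (.pow (.l 40) 3))) φ))

/-- the variable commutes with a conjugate of `z` -/
def nzF (w : W) : Fm := .eq (.mul (.l 40) (cj w (.mul (.mul (.l 1) (.l 2)) (.l 3)))) (.mul (cj w (.mul (.mul (.l 1) (.l 2)) (.l 3))) (.l 40))

/-- the word inverts the basis -/
def ivF (w : W) : Fm := .and (.eq (cj w (.l 1)) (.inv (.l 1))) (.and (.eq (cj w (.l 2)) (.inv (.l 2))) (.eq (cj w (.l 3)) (.inv (.l 3))))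

/-- words -/
def hw1 : List W := [.mul (.mul (.mul (.mul (.mul (.mul (.mul (.mul (.l 40) (.l 40)) (.l 5)) (.l 40)) (.l 5)) (.l 40)) (.l 40)) (.l 5)) (.l 40), .mul (.mul (.mul (.mul (.mul (.mul (.mul (.mul (.l 40) (.l 5)) (.l 40)) (.l 40)) (.l 4)) (.l 40)) (.l 5)) (.l 40)) (.l 40), .mul (.mul (.mul (.mul (.mul (.mul (.l 40) (.l 4)) (.l 5)) (.l 40)) (.l 40)) (.l 4)) (.l 4), .mul (.mul (.mul (.mul (.mul (.mul (.mul (.l 40) (.l 4)) (.l 4)) (.l 5)) (.l 40)) (.l 40)) (.l 4)) (.l 4), .mul (.mul (.mul (.mul (.mul (.mul (.mul (.mul (.mul (.mul (.mul (.l 40) (.l 40)) (.l 4)) (.l 40)) (.l 4)) (.l 4)) (.l 5)) (.l 40)) (.l 40)) (.l 4)) (.l 4)) (.l 40), .mul (.mul (.mul (.mul (.mul (.mul (.mul (.mul (.l 40) (.l 40)) (.l 4)) (.l 4)) (.l 40)) (.l 4)) (.l 40)) (.l 4)) (.l 4), .mul (.mul (.mul (.mul (.mul (.mul (.mul (.l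 40) (.l 40)) (.l 4)) (.l 40)) (.l 40)) (.l 4)) (.l 4)) (.l 40), .mul (.mul (.mul (.l 40) (.l 40)) (.l 5)) (.l 40)]

/-- words -/
def hw2 : List W := [.mul (.mul (.mul (.mul (.l 40) (.l 5)) (.l 7)) (.l 40)) (.l 40), .mul (.mul (.mul (.mul (.l 40) (.l 40)) (.l 5)) (.l 7)) (.l 40), .mul (.mul (.mul (.mul (.mul (.mul (.mul (.mul (.mul (.l 40) (.l 7)) (.l 40)) (.l 40)) (.l 4)) (.l 4)) (.l 40)) (.l 7)) (.l 40)) (.l 40), .mul (.mul (.mul (.mul (.mul (.mul (.mul (.l 40) (.l 4)) (.l 4)) (.l 5)) (.l 7)) (.l 4)) (.l 40)) (.l 40), .mul (.mul (.mul (.mul (.mul (.mul (.mul (.mul (.l 7) (.l 40)) (.l 4)) (.l 4)) (.l 5)) (.l 40)) (.l 40)) (.l 7)) (.l 4), .mul (.mul (.mul (.mul (.mul (.mul (.mul (.mul (.l 7) (.l 40)) (.l 5)) (.l 7)) (.l 40)) (.l 40)) (.l 7)) (.l 4)) (.l 4), .mul (.mul (.mul (.mul (.mul (.mul (.mul (.mul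 (.mul (.l 40) (.l 40)) (.l 7)) (.l 40)) (.l 4)) (.l 4)) (.l 40)) (.l 40)) (.l 7)) (.l 40), .mul (.mul (.mul (.mul (.mul (.mul (.l 7) (.l 40)) (.l 4)) (.l 5)) (.l 40)) (.l 40)) (.l 7), .mul (.mul (.mul (.mul (.mul (.mul (.mul (.mul (.l 7) (.l 4)) (.l 40)) (.l 40)) (.l 5)) (.l 40)) (.l 4)) (.l 4)) (.l 7), .mul (.mul (.mul (.mul (.mul (.mul (.mul (.mul (.l 7) (.l 4)) (.l 4)) (.l 40)) (.l 40)) (.l 5)) (.l 40)) (.l 4)) (.l 7), .mul (.mul (.mul (.mul (.mul (.mul (.l 40) (.l 40)) (.l 4)) (.l 5)) (.l 40)) (.l 4)) (.l 4)]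

/-- words -/
def hw3 : List W := [.mul (.l 40) (.l 40), .mul (.mul (.l 40) (.l 4)) (.l 40), .mul (.mul (.mul (.l 40) (.l 4)) (.l 4)) (.l 40)]

/-- words -/
def cw1 : List W := [.mul (.l 40) (.l 4), .mul (.mul (.l 40) (.l 4)) (.l 4), .mul (.mul (.l 40) (.l 40)) (.l 4), .mul (.mul (.mul (.l 40) (.l 40)) (.l 4)) (.l 4), .mul (.mul (.l 4) (.l 40)) (.l 4), .mul (.mul (.mul (.l 4) (.l 40)) (.l 40)) (.l 4)]

/-- words -/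
def cw2 : List W := [.l 0, .l 7, .mul (.mul (.l 4) (.l 7)) (.inv (.l 4)), .mul (.mul (.inv (.l 4)) (.l 7)) (.l 4)]

/-- words -/
def cw3 : List W := [.l 0, .l 4, .inv (.l 4), .l 5, .mul (.l 5) (.l 4), .mul (.l 5) (.inv (.l 4))]

/-- a formula -/
def hol1_f : Fm := cuF (.imp (andL (hw1.map hwF)) (.or (nzF (.l 0)) (orL (cw1.map fun w =>
  .or (actF w (.l 0)) (.or (actF w (.mul (.mul (.l 1) (.l 2)) (.l 3))) (actF w (.inv (.mul (.mul (.l 1) (.l 2)) (.l 3)))))))))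

theorem hol1_ev : hol.eval (.all 2 40 [] hol1_f) = true := by decide +kernel

/-- a formula -/
def hol2_f : Fm := cuF (.imp (andL (hw2.map hwF)) (orL (cw2.map nzF)))

theorem hol2_ev : hol.eval (.all 2 40 [] hol2_f) = true := by decide +kernel

/-- a formula -/
def hol3_f : Fm := .imp (.eq (.mul (.l 40) (.mul (.mul (.l 1) (.l 2)) (.l 3))) (.mul (.pow (.mul (.mul (.l 1) (.l 2)) (.l 3)) 2) (.l 40))) (.imp (andL (hw3.map hwF)) (orL (cw3.map fun w => ivF (.mul w (.l 40)))))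

theorem hol3_ev : hol.eval (.all 2 40 [] hol3_f) = true := by decide +kernel

theorem hol_cen : ∀ y ∈ genW hol.gam (hol.ws 2), y * hol.gam 1 = hol.gam 1 * y → y * hol.gam 2 = hol.gam 2 * y → y * hol.gam 3 = hol.gam 3 * y → y = 1 :=
  hol_ok.holds (φ := .all 2 40 [(.l 1, .l 1), (.l 2, .l 2), (.l 3, .l 3)] (.one (.l 40))) (by decide +kernel)

/-- conjugating elements -/
def c6d : List (List ℕ) := [[], [5], [1], [3], [5, 3], [3, 3], [1, 1], [5, 1], [3, 1], [8, 3, 1], [5, 3, 3], [3, 3, 1], [3, 1, 1], [5, 3, 1], [5, 1, 1], [8, 5, 3, 1], [5, 3, 3, 1], [5, 3, 1, 1]]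

/-- conjugating elements -/
def c19d : List (List ℕ) := [[], [5], [1], [3], [5, 3], [3, 3], [1, 1], [5, 1], [3, 1], [9, 1], [8, 3, 1], [5, 3, 3], [3, 3, 1], [3, 1, 1], [5, 3, 1], [9, 1, 1], [1, 9, 1], [5, 1, 1], [9, 5, 1], [2, 9, 1], [9, 3, 1], [9, 8, 3, 1], [8, 5, 3, 1], [5, 3, 3, 1], [9, 3, 1, 1], [1, 9, 3, 1], [5, 3, 1, 1], [9, 5, 3, 1], [9, 5, 1, 1], [2, 9, 1, 1], [1, 9, 5, 1], [9, 3, 3, 1], [2, 2, 9, 1], [2, 9, 3, 1], [1, 9, 3, 3, 1], [9, 8, 5, 3, 1], [2, 9, 8, 3, 1], [8, 2, 9, 3, 1], [9, 5, 3, 3, 1], [9, 5, 3, 1, 1], [2, 9, 3, 1, 1], [1, 9, 5, 3, 1], [2, 2, 9, 3, 1], [2, 9, 3, 3, 1], [8, 2, 9, 3, 1, 1]]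

/-- conjugating elements -/
def c6t : List (List ℕ) := [[], [3], [10], [1], [2], [3, 3], [10, 2], [3, 2], [10, 1], [10, 3], [3, 1], [8, 3, 1], [10, 3, 2], [10, 3, 3], [3, 3, 1], [10, 3, 1], [10, 8, 3, 1], [10, 3, 3, 1]]

/-- conjugating elements -/
def c19t : List (List ℕ) := [[], [3], [10], [1], [2], [3, 3], [9, 2], [9, 1], [10, 2], [3, 2], [10, 1], [10, 3], [3, 1], [1, 9, 1], [9, 3, 2], [8, 3, 1], [2, 9, 2], [10, 9, 1], [10, 3, 2], [10, 3, 3], [3, 3, 1], [2, 9, 1], [10, 3, 1], [9, 3, 1], [9, 8, 3, 1], [10, 8, 3, 1], [2, 1, 9, 1], [10, 9, 3, 1], [2, 9, 3, 2], [10, 3, 3, 1], [2, 9, 3, 1], [1, 9, 3, 1], [9, 3, 3, 1], [2, 2, 9, 1], [10, 9, 3, 3, 1], [2, 9, 8, 3, 1], [2, 9, 3, 3, 1], [1, 9, 3, 3, 1], [8, 1, 9, 3, 1], [2, 2, 1, 9, 1], [8, 2, 9, 3, 2], [2, 1, 9, 3, 1], [2, 2, 9, 3, 1], [2, 8, 1, 9, 3, 1],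 [2, 2, 1, 9, 3, 1]]

/-- conjugating elements -/
def c6i : List (List ℕ) := [[], [2], [1], [3], [3, 3], [2, 2], [1, 1], [3, 1], [2, 1], [3, 2], [8, 3, 1], [3, 3, 1], [3, 1, 1], [3, 3, 2], [8, 3, 2], [7, 2, 1], [2, 1, 1], [3, 2, 1], [2, 2, 1], [3, 2, 2], [8, 3, 2, 1], [2, 8, 3, 1], [1, 8, 3, 2], [3, 3, 2, 1], [7, 3, 2, 1], [3, 2, 1, 1], [3, 2, 2, 1]]

/-- conjugating elements -/
def c19i : List (List ℕ) := [[], [2], [1], [3], [3, 3], [2, 2], [9, 2], [1, 1], [3, 1], [2, 1], [3, 2], [9, 1], [8, 3, 1], [3, 3, 1], [3, 1, 1], [3, 3, 2], [8, 3, 2], [2, 9, 2], [9, 2, 2], [7, 2, 1], [2, 1, 1], [9, 1, 1], [1, 9, 1], [3, 2, 1], [1, 9, 2], [2, 2, 1], [3, 2, 2], [9, 3, 2], [2, 9, 1], [9, 3, 1], [9, 2, 1], [8, 3, 2, 1], [2, 8, 3, 1], [9, 8, 3, 1], [1, 8, 3, 2], [3, 3, 2, 1], [7, 3, 2, 1], [3, 2, 1, 1], [9, 3, 1, 1],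 [1, 9, 3, 1], [9, 8, 3, 2], [9, 3, 3, 2], [9, 7, 2, 1], [2, 1, 9, 1], [2, 9, 1, 1], [1, 9, 2, 1], [7, 2, 9, 1], [9, 2, 1, 1], [3, 2, 2, 1], [1, 9, 3, 2], [9, 3, 3, 1], [2, 1, 9, 2], [1, 9, 2, 2], [2, 9, 3, 2], [9, 3, 2, 2], [9, 2, 9, 1], [7, 1, 9, 2], [2, 9, 2, 1], [2, 2, 9, 1], [1, 1, 9, 2], [9, 3, 2, 1], [9, 1, 9, 2], [9, 2, 2, 1], [2, 9, 3, 1], [9, 8, 3, 2, 1], [2, 9, 8, 3, 1], [8, 2, 9, 3, 1], [1, 9, 3, 3, 1], [9, 2, 8, 3, 1], [1, 9, 8, 3, 2], [1, 9, 3, 3, 2], [9, 7, 3, 2, 1], [2, 1, 9, 3, 1], [2, 9, 3, 1, 1], [1, 9, 3, 2, 1], [7, 2, 9, 3, 1], [9, 3, 2, 1, 1], [2, 9, 3, 3, 2], [2, 9, 2, 1, 1], [9, 7, 2, 9, 1], [2, 2, 1, 9, 1], [9, 2, 9, 1, 1], [2, 1, 9, 3, 2], [1, 9, 3, 2, 2], [9, 3, 3, 2, 1], [9, 1, 8, 3, 2], [2, 2, 9, 3, 1], [1, 1, 9, 3, 2], [8, 1, 9, 3, 2], [2, 9, 3, 3, 1], [9, 7, 1, 9, 2], [1,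 1, 9, 2, 1], [10, 1, 9, 2, 1], [2, 2, 9, 2, 1], [9, 3, 2, 2, 1], [9, 1, 9, 3, 2], [1, 9, 7, 2, 1], [2, 1, 1, 9, 2], [9, 2, 9, 3, 1], [2, 9, 3, 2, 1], [7, 1, 9, 3, 2], [2, 9, 2, 8, 3, 1], [2, 1, 9, 3, 3, 1], [9, 8, 2, 9, 3, 1], [1, 9, 3, 3, 2, 1], [8, 2, 1, 9, 3, 1], [2, 9, 8, 3, 2, 1], [2, 1, 9, 3, 3, 2], [2, 9, 3, 2, 1, 1], [9, 7, 2, 9, 3, 1], [2, 2, 1, 9, 3, 1], [9, 2, 9, 3, 1, 1], [8, 2, 9, 3, 1, 1], [8, 1, 9, 3, 2, 2], [8, 2, 1, 9, 3, 2], [1, 9, 8, 3, 2, 1], [1, 9, 2, 8, 3, 1], [1, 1, 9, 3, 2, 1], [10, 1, 9, 3, 2, 1], [2, 2, 9, 3, 2, 1], [9, 2, 9, 3, 3, 1], [9, 8, 1, 9, 3, 2], [2, 9, 3, 3, 2, 1], [1, 9, 2, 9, 1, 1], [1, 9, 7, 2, 9, 1], [2, 1, 1, 9, 3, 2], [1, 9, 7, 3, 2, 1], [9, 7, 1, 9, 3, 2], [1, 9, 8, 2, 9, 3, 1], [1, 1, 9, 3, 3, 2, 1], [8, 2, 9, 3, 2, 1, 1], [9, 8, 2, 9, 3, 1, 1], [1, 9, 7, 2,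 9, 3, 1], [2, 1, 9, 8, 3, 2, 1], [1, 9, 2, 9, 3, 1, 1]]

/-- a formula -/
def sp_u_f : Fm := .all 2 40 [] (.or (.mem 1 (.l 40)) (.all 1 41 [(.l 40, .l 40)] (.or (.one (.l 41)) (.or (.eq (.l 41) (.mul (.mul (.l 1) (.l 2)) (.l 3))) (.eq (.l 41) (.inv (.mul (.mul (.l 1) (.l 2)) (.l 3))))))))

theorem sp_u_ev : sp.eval sp_u_f = true := by decide +kernel

theorem sp_u {G : Type*} [Group G] {γ : ℕ → G} {k : ℕ} {N : List W} (g : Gf sp γ k N)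
    (e : tyB sp k N sp_u_f = true := by decide +kernel) :
    ∀ y ∈ genW γ (sp.ws 2), y ∈ genW γ (sp.ws 1) ∨ (∀ j ∈ genW γ (sp.ws 1), j * y = y * j → j = 1 ∨ j = γ 1 * γ 2 * γ 3 ∨ j = (γ 1 * γ 2 * γ 3)⁻¹) :=
  g.transfer e sp_u_ev

/-- a formula -/
def sp_ab_f : Fm := .all 1 40 [] (.and (.one (.pow (.l 40) 3)) (.all 1 41 [] (.eq (.mul (.l 40) (.l 41)) (.mul (.l 41) (.l 40)))))

theorem sp_ab_ev : sp.eval sp_ab_f = true := by decide +kernel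

theorem sp_ab {G : Type*} [Group G] {γ : ℕ → G} {k : ℕ} {N : List W} (g : Gf sp γ k N)
    (e : tyB sp k N sp_ab_f = true := by decide +kernel) :
    ∀ y ∈ genW γ (sp.ws 1), y ^ 3 = 1 ∧ (∀ e ∈ genW γ (sp.ws 1), y * e = e * y) :=
  g.transfer e sp_ab_ev

/-- a formula -/
def sp_cc_f : Fm := .all 1 40 [] (.all 1 41 [] (.imp (.one (.pow (.mul (.l 40) (.l 4)) 3)) (.imp (.one (.pow (.mul (.l 41) (.l 5)) 2)) (.imp (.one (.pow (.mul (.mul (.l 41) (.l 5)) (.mul (.l 40) (.l 4))) 2)) (.ex 1 42 [(.mul (.l 40) (.l 4), .l 4), (.mul (.l 41) (.l 5), .l 5)] (.tt))))))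

theorem sp_cc_ev : sp.eval sp_cc_f = true := by decide +kernel

theorem sp_cc {G : Type*} [Group G] {γ : ℕ → G} {k : ℕ} {N : List W} (g : Gf sp γ k N)
    (e : tyB sp k N sp_cc_f = true := by decide +kernel) :
    ∀ j ∈ genW γ (sp.ws 1), ∀ l ∈ genW γ (sp.ws 1), (j * γ 4) ^ 3 = 1 → (l * γ 5) ^ 2 = 1 → (l * γ 5 * (j * γ 4)) ^ 2 = 1 → ∃ k ∈ genW γ (sp.ws 1), k * (j * γ 4) = γ 4 * k ∧ k * (l * γ 5) = γ 5 * k ∧ True :=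
  g.transfer e sp_cc_ev

/-- a formula -/
def sp_pw_f : Fm := .all 1 40 [] (.all 1 41 [] (.and (.mem 1 (.pow (.mul (.l 40) (.l 4)) 3)) (.and (.mem 1 (.pow (.mul (.l 41) (.l 5)) 2)) (.mem 1 (.pow (.mul (.mul (.l 41) (.l 5)) (.mul (.l 40) (.l 4))) 2)))))

theorem sp_pw_ev : sp.eval sp_pw_f = true := by decide +kernel

theorem sp_pw {G : Type*} [Group G] {γ : ℕ → G} {k : ℕ} {N : List W} (g : Gf sp γ k N)
    (e : tyB sp k N sp_pw_f = true := by decide +kernel) :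
    ∀ j ∈ genW γ (sp.ws 1), ∀ l ∈ genW γ (sp.ws 1), (j * γ 4) ^ 3 ∈ genW γ (sp.ws 1) ∧ (l * γ 5) ^ 2 ∈ genW γ (sp.ws 1) ∧ (l * γ 5 * (j * γ 4)) ^ 2 ∈ genW γ (sp.ws 1) :=
  g.transfer e sp_pw_ev

/-- a formula -/
def sp_dx_f : Fm := .all 1 40 [(.mul (.l 7) (.l 4), .mul (.l 7) (.l 4))] (.imp (.eq (.mul (.mul (.l 5) (.l 40)) (.inv (.l 5))) (.mul (.mul (.l 7) (.inv (.l 40))) (.inv (.l 7)))) (.one (.l 40)))

theorem sp_dx_ev : sp.eval sp_dx_f = true := by decide +kernel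

theorem sp_dx {G : Type*} [Group G] {γ : ℕ → G} {k : ℕ} {N : List W} (g : Gf sp γ k N)
    (e : tyB sp k N sp_dx_f = true := by decide +kernel) :
    ∀ y ∈ genW γ (sp.ws 1), y * (γ 7 * γ 4) = γ 7 * γ 4 * y → γ 5 * y * (γ 5)⁻¹ = γ 7 * y⁻¹ * (γ 7)⁻¹ → y = 1 :=
  g.transfer e sp_dx_ev

/-- a formula -/
def sp_iJ_f : Fm := .all 1 40 [] (.eq (.mul (.mul (.l 8) (.l 40)) (.inv (.l 8))) (.inv (.l 40)))

theorem sp_iJ_ev : sp.eval sp_iJ_f = true := by decide +kernel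

theorem sp_iJ {G : Type*} [Group G] {γ : ℕ → G} {k : ℕ} {N : List W} (g : Gf sp γ k N)
    (e : tyB sp k N sp_iJ_f = true := by decide +kernel) :
    ∀ y ∈ genW γ (sp.ws 1), γ 8 * y * (γ 8)⁻¹ = y⁻¹ :=
  g.transfer e sp_iJ_ev

/-- a formula -/
def sp_cm_f : Fm := .and (.all 2 40 [] (.imp (.eq (.mul (.l 40) (.mul (.mul (.l 1) (.l 40)) (.inv (.l 1)))) (.mul (.mul (.mul (.l 1) (.l 40)) (.inv (.l 1))) (.l 40))) (.mem 1 (.l 40)))) (.all 2 40 [(.l 1, .l 1), (.l 4, .l 4)] (.mem 7 (.l 40)))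

theorem sp_cm_ev : sp.eval sp_cm_f = true := by decide +kernel

theorem sp_cm {G : Type*} [Group G] {γ : ℕ → G} {k : ℕ} {N : List W} (g : Gf sp γ k N)
    (e : tyB sp k N sp_cm_f = true := by decide +kernel) :
    (∀ y ∈ genW γ (sp.ws 2), y * (γ 1 * y * (γ 1)⁻¹) = γ 1 * y * (γ 1)⁻¹ * y → y ∈ genW γ (sp.ws 1)) ∧ (∀ y ∈ genW γ (sp.ws 2), y * γ 1 = γ 1 * y → y * γ 4 = γ 4 * y → y ∈ genW γ (sp.ws 7)) :=
  g.transfer e sp_cm_ev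

/-- a formula -/
def sp_Lp_f : Fm := .all 3 40 [(.mul (.l 1) (.inv (.l 2)), .mul (.l 1) (.inv (.l 2)))] (.and (.mem 1 (.pow (.l 40) 4)) (.and (.and (.ex 27 41 [] (.eq (.mul (.l 1) (.l 40)) (.mul (.mul (.l 41) (.l 40)) (.l 1)))) (.and (.ex 27 41 [] (.eq (.mul (.l 2) (.l 40)) (.mul (.mul (.l 41) (.l 40)) (.l 2)))) (.ex 27 41 [] (.eq (.mul (.l 3) (.l 40)) (.mul (.mul (.l 41) (.l 40)) (.l 3)))))) (.imp (.eq (.mul (.l 40) (.mul (.l 1) (.inv (.l 2)))) (.mul (.mul (.l 1) (.inv (.l 2))) (.l 40))) (.mem 1 (.l 40)))))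

theorem sp_Lp_ev : sp.eval sp_Lp_f = true := by decide +kernel

theorem sp_Lp {G : Type*} [Group G] {γ : ℕ → G} {k : ℕ} {N : List W} (g : Gf sp γ k N)
    (e : tyB sp k N sp_Lp_f = true := by decide +kernel) :
    ∀ n ∈ genW γ (sp.ws 3), n * (γ 1 * (γ 2)⁻¹) = γ 1 * (γ 2)⁻¹ * n → n ^ 4 ∈ genW γ (sp.ws 1) ∧ ((∃ l ∈ genW γ (sp.ws 27), γ 1 * n = l * n * γ 1) ∧ (∃ l ∈ genW γ (sp.ws 27), γ 2 * n = l * n * γ 2) ∧ (∃ l ∈ genW γ (sp.ws 27), γ 3 * n = l * n * γ 3)) ∧ (n * (γ 1 * (γ 2)⁻¹) = γ 1 * (γ 2)⁻¹ * n → n ∈ genW γ (sp.ws 1)) :=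
  g.transfer e sp_Lp_ev

/-- a formula -/
def sp_Lab_f : Fm := .all 6 40 [(.l 1, .l 1), (.l 2, .l 2)] (.and (.mem 1 (.pow (.l 40) 4)) (.and (.and (.ex 25 41 [] (.eq (.mul (.l 1) (.l 40)) (.mul (.mul (.l 41) (.l 40)) (.l 1)))) (.and (.ex 25 41 [] (.eq (.mul (.l 2) (.l 40)) (.mul (.mul (.l 41) (.l 40)) (.l 2)))) (.ex 25 41 [] (.eq (.mul (.l 3) (.l 40)) (.mul (.mul (.l 41) (.l 40)) (.l 3)))))) (.imp (.eq (.mul (.l 40) (.l 3)) (.mul (.l 3) (.l 40))) (.mem 1 (.l 40)))))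

theorem sp_Lab_ev : sp.eval sp_Lab_f = true := by decide +kernel

theorem sp_Lab {G : Type*} [Group G] {γ : ℕ → G} {k : ℕ} {N : List W} (g : Gf sp γ k N)
    (e : tyB sp k N sp_Lab_f = true := by decide +kernel) :
    ∀ n ∈ genW γ (sp.ws 6), n * γ 1 = γ 1 * n → n * γ 2 = γ 2 * n → n ^ 4 ∈ genW γ (sp.ws 1) ∧ ((∃ l ∈ genW γ (sp.ws 25), γ 1 * n = l * n * γ 1) ∧ (∃ l ∈ genW γ (sp.ws 25), γ 2 * n = l * n * γ 2) ∧ (∃ l ∈ genW γ (sp.ws 25), γ 3 * n = l * n * γ 3)) ∧ (n * γ 3 = γ 3 * n → n ∈ genW γ (sp.ws 1)) :=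
  g.transfer e sp_Lab_ev

/-- a formula -/
def sp_dcP_f : Fm := .and (.all 10 40 [(.mul (.l 1) (.inv (.l 2)), .mul (.l 1) (.inv (.l 2)))] (.and (.mem 1 (.pow (.l 40) 4)) (.and (.ex 9 41 [] (.eq (.mul (.l 1) (.l 40)) (.mul (.mul (.l 41) (.l 40)) (.l 1)))) (.and (.ex 9 41 [] (.eq (.mul (.l 2) (.l 40)) (.mul (.mul (.l 41) (.l 40)) (.l 2)))) (.ex 9 41 [] (.eq (.mul (.l 3) (.l 40)) (.mul (.mul (.l 41) (.l 40)) (.l 3)))))))) (.and (.all 9 40 [] (.and (.mem 1 (.l 40)) (.eq (.mul (.mul (.mul (.l 5) (.l 8)) (.l 40)) (.inv (.mul (.l 5) (.l 8)))) (.inv (.l 40))))) (.and (.mem 1 (.mul (.l 1) (.inv (.l 2)))) (.and (.all 1 40 [] (.or (.mem 9 (.l 40)) (.or (.mem 9 (.mul (.l 40) (.mul (.l 1) (.inv (.l 2))))) (.mem 9 (.mul (.l 40) (.inv (.mul (.l 1) (.inv (.l 2))))))))) (.and (.one (.mul (.mul (.l 5) (.l 8)) (.mul (.l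 5) (.l 8)))) (.eq (.mul (.mul (.l 5) (.l 8)) (.mul (.l 1) (.inv (.l 2)))) (.mul (.mul (.l 1) (.inv (.l 2))) (.mul (.l 5) (.l 8))))))))

theorem sp_dcP_ev : sp.eval sp_dcP_f = true := by decide +kernel

theorem sp_dcP {G : Type*} [Group G] {γ : ℕ → G} {k : ℕ} {N : List W} (g : Gf sp γ k N)
    (e : tyB sp k N sp_dcP_f = true := by decide +kernel) :
    (∀ n ∈ genW γ (sp.ws 10), n * (γ 1 * (γ 2)⁻¹) = γ 1 * (γ 2)⁻¹ * n → n ^ 4 ∈ genW γ (sp.ws 1) ∧ (∃ l ∈ genW γ (sp.ws 9), γ 1 * n = l * n * γ 1) ∧ (∃ l ∈ genW γ (sp.ws 9), γ 2 * n = l * n * γ 2) ∧ (∃ l ∈ genW γ (sp.ws 9), γ 3 * n = l * n * γ 3)) ∧ (∀ e ∈ genW γ (sp.ws 9), e ∈ genW γ (sp.ws 1) ∧ γ 5 * γ 8 * e * (γ 5 * γ 8)⁻¹ = e⁻¹) ∧ γ 1 * (γ 2)⁻¹ ∈ genW γ (sp.ws 1) ∧ (∀ e ∈ genW γ (sp.ws 1), e ∈ genW γ (sp.ws 9) ∨ e * (γ 1 * (γ 2)⁻¹) ∈ genW γ (sp.ws 9) ∨ e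 * (γ 1 * (γ 2)⁻¹)⁻¹ ∈ genW γ (sp.ws 9)) ∧ γ 5 * γ 8 * (γ 5 * γ 8) = 1 ∧ γ 5 * γ 8 * (γ 1 * (γ 2)⁻¹) = γ 1 * (γ 2)⁻¹ * (γ 5 * γ 8) :=
  g.transfer e sp_dcP_ev

/-- a formula -/
def sp_dcW_f : Fm := .and (.all 6 40 [(.mul (.l 1) (.l 2), .mul (.l 1) (.l 2))] (.and (.mem 1 (.pow (.l 40) 4)) (.and (.ex 17 41 [] (.eq (.mul (.l 1) (.l 40)) (.mul (.mul (.l 41) (.l 40)) (.l 1)))) (.and (.ex 17 41 [] (.eq (.mul (.l 2) (.l 40)) (.mul (.mul (.l 41) (.l 40)) (.l 2)))) (.ex 17 41 [] (.eq (.mul (.l 3) (.l 40)) (.mul (.mul (.l 41) (.l 40)) (.l 3)))))))) (.and (.all 17 40 [] (.and (.mem 1 (.l 40)) (.eq (.mul (.mul (.mul (.l 5) (.mul (.l 7) (.l 8))) (.l 40)) (.inv (.mul (.l 5) (.mul (.l 7) (.l 8))))) (.inv (.l 40))))) (.and (.mem 1 (.mul (.l 1) (.l 2))) (.and (.all 1 40 [] (.or (.mem 17 (.l 40)) (.or (.mem 17 (.mul (.l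 40) (.mul (.l 1) (.l 2)))) (.mem 17 (.mul (.l 40) (.inv (.mul (.l 1) (.l 2)))))))) (.and (.one (.mul (.mul (.l 5) (.mul (.l 7) (.l 8))) (.mul (.l 5) (.mul (.l 7) (.l 8))))) (.eq (.mul (.mul (.l 5) (.mul (.l 7) (.l 8))) (.mul (.l 1) (.l 2))) (.mul (.mul (.l 1) (.l 2)) (.mul (.l 5) (.mul (.l 7) (.l 8)))))))))

theorem sp_dcW_ev : sp.eval sp_dcW_f = true := by decide +kernel

theorem sp_dcW {G : Type*} [Group G] {γ : ℕ → G} {k : ℕ} {N : List W} (g : Gf sp γ k N)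
    (e : tyB sp k N sp_dcW_f = true := by decide +kernel) :
    (∀ n ∈ genW γ (sp.ws 6), n * (γ 1 * γ 2) = γ 1 * γ 2 * n → n ^ 4 ∈ genW γ (sp.ws 1) ∧ (∃ l ∈ genW γ (sp.ws 17), γ 1 * n = l * n * γ 1) ∧ (∃ l ∈ genW γ (sp.ws 17), γ 2 * n = l * n * γ 2) ∧ (∃ l ∈ genW γ (sp.ws 17), γ 3 * n = l * n * γ 3)) ∧ (∀ e ∈ genW γ (sp.ws 17), e ∈ genW γ (sp.ws 1) ∧ γ 5 * (γ 7 * γ 8) * e * (γ 5 * (γ 7 * γ 8))⁻¹ = e⁻¹) ∧ γ 1 * γ 2 ∈ genW γ (sp.ws 1) ∧ (∀ e ∈ genW γ (sp.ws 1), e ∈ genW γ (sp.ws 17) ∨ e * (γ 1 * γ 2) ∈ genW γ (sp.ws 17) ∨ e * (γ 1 * γ 2)⁻¹ ∈ genW γ (sp.ws 17)) ∧ γ 5 * (γ 7 * γ 8) * (γ 5 * (γ 7 * γ 8)) = 1 ∧ γ 5 * (γ 7 * γ 8) * (γ 1 * γ 2) = γ 1 * γ 2 * (γ 5 * (γ 7 * γ 8)) :=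
  g.transfer e sp_dcW_ev

/-- a formula -/
def sp_T17_f : Fm := .all 17 40 [] (.or (.one (.l 40)) (.or (.mem 25 (.l 40)) (.or (.mem 27 (.l 40)) (.ex 6 41 [(.mul (.mul (.l 1) (.l 2)) (.l 3), .l 40)] (.not (.mem 7 (.mul (.mul (.inv (.l 41)) (.mul (.l 1) (.l 2))) (.l 41))))))))

theorem sp_T17_ev : sp.eval sp_T17_f = true := by decide +kernel

theorem sp_T17 {G : Type*} [Group G] {γ : ℕ → G} {k : ℕ} {N : List W} (g : Gf sp γ k N)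
    (e : tyB sp k N sp_T17_f = true := by decide +kernel) :
    ∀ e ∈ genW γ (sp.ws 17), e = 1 ∨ e ∈ genW γ (sp.ws 25) ∨ e ∈ genW γ (sp.ws 27) ∨ (∃ k ∈ genW γ (sp.ws 6), k * (γ 1 * γ 2 * γ 3) = e * k ∧ k⁻¹ * (γ 1 * γ 2) * k ∉ genW γ (sp.ws 7)) :=
  g.transfer e sp_T17_ev

/-- a formula -/
def sp_sq6_f : Fm := .all 6 40 [(.mul (.l 1) (.l 2), .mul (.l 1) (.l 2))] (.mem 1 (.pow (.l 40) 2))

theorem sp_sq6_ev : sp.eval sp_sq6_f = true := by decide +kernel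

theorem sp_sq6 {G : Type*} [Group G] {γ : ℕ → G} {k : ℕ} {N : List W} (g : Gf sp γ k N)
    (e : tyB sp k N sp_sq6_f = true := by decide +kernel) :
    ∀ n ∈ genW γ (sp.ws 6), n * (γ 1 * γ 2) = γ 1 * γ 2 * n → n ^ 2 ∈ genW γ (sp.ws 1) :=
  g.transfer e sp_sq6_ev

/-- a formula -/
def sp_sq5_f : Fm := .all 5 40 [(.l 3, .l 3)] (.mem 1 (.pow (.l 40) 2))

theorem sp_sq5_ev : sp.eval sp_sq5_f = true := by decide +kernel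

theorem sp_sq5 {G : Type*} [Group G] {γ : ℕ → G} {k : ℕ} {N : List W} (g : Gf sp γ k N)
    (e : tyB sp k N sp_sq5_f = true := by decide +kernel) :
    ∀ n ∈ genW γ (sp.ws 5), n * γ 3 = γ 3 * n → n ^ 2 ∈ genW γ (sp.ws 1) :=
  g.transfer e sp_sq5_ev

/-- a formula -/
def sp_ip_f : Fm := .all 10 40 [(.mul (.l 1) (.inv (.l 2)), .mul (.l 1) (.inv (.l 2)))] (.or (.all 9 41 [] (.eq (.mul (.mul (.l 40) (.l 41)) (.inv (.l 40))) (.l 41))) (.all 9 41 [] (.eq (.mul (.mul (.l 40) (.l 41)) (.inv (.l 40))) (.inv (.l 41)))))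

theorem sp_ip_ev : sp.eval sp_ip_f = true := by decide +kernel

theorem sp_ip {G : Type*} [Group G] {γ : ℕ → G} {k : ℕ} {N : List W} (g : Gf sp γ k N)
    (e : tyB sp k N sp_ip_f = true := by decide +kernel) :
    ∀ n ∈ genW γ (sp.ws 10), n * (γ 1 * (γ 2)⁻¹) = γ 1 * (γ 2)⁻¹ * n → (∀ e ∈ genW γ (sp.ws 9), n * e * n⁻¹ = e) ∨ (∀ e ∈ genW γ (sp.ws 9), n * e * n⁻¹ = e⁻¹) :=
  g.transfer e sp_ip_ev

/-- a formula -/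
def sp_six_f : Fm := .all 6 40 [(.l 3, .l 3)] (.or (.mem 21 (.l 40)) (.or (.mem 21 (.mul (.l 40) (.l 3))) (.mem 21 (.mul (.l 40) (.inv (.l 3))))))

theorem sp_six_ev : sp.eval sp_six_f = true := by decide +kernel

theorem sp_six {G : Type*} [Group G] {γ : ℕ → G} {k : ℕ} {N : List W} (g : Gf sp γ k N)
    (e : tyB sp k N sp_six_f = true := by decide +kernel) :
    ∀ n ∈ genW γ (sp.ws 6), n * γ 3 = γ 3 * n → n ∈ genW γ (sp.ws 21) ∨ n * γ 3 ∈ genW γ (sp.ws 21) ∨ n * (γ 3)⁻¹ ∈ genW γ (sp.ws 21) :=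
  g.transfer e sp_six_ev

/-- a formula -/
def sp_v_f : Fm := .all 20 40 [(.l 10, .l 10), (.l 5, .l 5)] (.imp (.one (.mul (.l 40) (.l 40))) (.imp (.one (.pow (.mul (.mul (.l 40) (.l 10)) (.l 1)) 3)) (.imp (.one (.mul (.mul (.mul (.mul (.mul (.mul (.mul (.mul (.mul (.l 40) (.l 1)) (.l 2)) (.l 40)) (.l 1)) (.l 2)) (.l 40)) (.l 1)) (.l 2)) (.l 5))) (.eq (.l 40) (.l 9)))))

theorem sp_v_ev : sp.eval sp_v_f = true := by decide +kernel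

theorem sp_v {G : Type*} [Group G] {γ : ℕ → G} {k : ℕ} {N : List W} (g : Gf sp γ k N)
    (e : tyB sp k N sp_v_f = true := by decide +kernel) :
    ∀ y ∈ genW γ (sp.ws 20), y * γ 10 = γ 10 * y → y * γ 5 = γ 5 * y → y * y = 1 → (y * γ 10 * γ 1) ^ 3 = 1 → y * γ 1 * γ 2 * y * γ 1 * γ 2 * y * γ 1 * γ 2 * γ 5 = 1 → y = γ 9 :=
  g.transfer e sp_v_ev

/-- a formula -/
def sp_rT_f : Fm := .and (.all 6 40 [(.mul (.l 5) (.mul (.l 7) (.l 8)), .mul (.l 5) (.mul (.l 7) (.l 8)))] (.mem 26 (.pow (.l 40) 4))) (.all 6 40 [(.mul (.l 7) (.l 8), .mul (.l 7) (.l 8))] (.mem 16 (.pow (.l 40) 4)))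

theorem sp_rT_ev : sp.eval sp_rT_f = true := by decide +kernel

theorem sp_rT {G : Type*} [Group G] {γ : ℕ → G} {k : ℕ} {N : List W} (g : Gf sp γ k N)
    (e : tyB sp k N sp_rT_f = true := by decide +kernel) :
    (∀ n ∈ genW γ (sp.ws 6), n * (γ 5 * (γ 7 * γ 8)) = γ 5 * (γ 7 * γ 8) * n → n ^ 4 ∈ genW γ (sp.ws 26)) ∧ (∀ n ∈ genW γ (sp.ws 6), n * (γ 7 * γ 8) = γ 7 * γ 8 * n → n ^ 4 ∈ genW γ (sp.ws 16)) :=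
  g.transfer e sp_rT_ev

/-- a formula -/
def sp_E_f : Fm := .all 9 40 [] (.or (.mem 26 (.l 40)) (.or (.mem 25 (.l 40)) (.or (.mem 7 (.l 40)) (.mem 7 (.mul (.mul (.inv (.l 7)) (.l 40)) (.l 7))))))

theorem sp_E_ev : sp.eval sp_E_f = true := by decide +kernel

theorem sp_E {G : Type*} [Group G] {γ : ℕ → G} {k : ℕ} {N : List W} (g : Gf sp γ k N)
    (e : tyB sp k N sp_E_f = true := by decide +kernel) :
    ∀ e ∈ genW γ (sp.ws 9), e ∈ genW γ (sp.ws 26) ∨ e ∈ genW γ (sp.ws 25) ∨ e ∈ genW γ (sp.ws 7) ∨ (γ 7)⁻¹ * e * γ 7 ∈ genW γ (sp.ws 7) :=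
  g.transfer e sp_E_ev

/-- a formula -/
def sp_i5_f : Fm := .and (.all 5 40 [(.l 3, .inv (.l 3))] (.imp (.one (.mul (.l 40) (.l 40))) (.ex 5 41 [(.l 7, .l 40)] (.tt)))) (.all 5 40 [(.mul (.mul (.l 1) (.l 2)) (.l 3), .inv (.mul (.mul (.l 1) (.l 2)) (.l 3)))] (.not (.tt)))

theorem sp_i5_ev : sp.eval sp_i5_f = true := by decide +kernel

theorem sp_i5 {G : Type*} [Group G] {γ : ℕ → G} {k : ℕ} {N : List W} (g : Gf sp γ k N)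
    (e : tyB sp k N sp_i5_f = true := by decide +kernel) :
    (∀ y ∈ genW γ (sp.ws 5), y * γ 3 = (γ 3)⁻¹ * y → y * y = 1 → ∃ k ∈ genW γ (sp.ws 5), k * γ 7 = y * k ∧ True) ∧ (∀ y ∈ genW γ (sp.ws 5), y * (γ 1 * γ 2 * γ 3) = (γ 1 * γ 2 * γ 3)⁻¹ * y → ¬ True) :=
  g.transfer e sp_i5_ev

/-- a formula -/
def sp_i6_f : Fm := .all 6 40 [(.l 3, .inv (.l 3))] (.imp (.one (.mul (.l 40) (.l 40))) (.or (.mem 25 (.mul (.l 40) (.mul (.l 7) (.l 8)))) (.or (clsF c6d (.mul (.mul (.l 7) (.l 8)) (.l 10)) (.l 40)) (.or (clsF c6t (.mul (.l 5) (.mul (.l 7) (.l 8))) (.l 40)) (clsF c6i (.l 8) (.l 40))))))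

theorem sp_i6_ev : sp.eval sp_i6_f = true := by decide +kernel

theorem sp_i6 {G : Type*} [Group G] {γ : ℕ → G} {k : ℕ} {N : List W} (g : Gf sp γ k N)
    (e : tyB sp k N sp_i6_f = true := by decide +kernel) :
    ∀ y ∈ genW γ (sp.ws 6), y * γ 3 = (γ 3)⁻¹ * y → y * y = 1 → y * (γ 7 * γ 8) ∈ genW γ (sp.ws 25) ∨ (clsF c6d (.mul (.mul (.l 7) (.l 8)) (.l 10)) (.l 40)).holds (fun k => genW γ (sp.ws k)) (upd γ 40 y) ∨ (clsF c6t (.mul (.l 5) (.mul (.l 7) (.l 8))) (.l 40)).holds (fun k => genW γ (sp.ws k)) (upd γ 40 y) ∨ (clsF c6i (.l 8) (.l 40)).holds (fun k => genW γ (sp.ws k)) (upd γ 40 y) :=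
  g.transfer e sp_i6_ev

/-- a formula -/
def sp_i19_f : Fm := .all 19 40 [(.l 3, .inv (.l 3))] (.imp (.one (.mul (.l 40) (.l 40))) (.or (.mem 25 (.mul (.l 40) (.mul (.l 7) (.l 8)))) (.or (clsF c19d (.mul (.mul (.l 7) (.l 8)) (.l 10)) (.l 40)) (.or (clsF c19t (.mul (.l 5) (.mul (.l 7) (.l 8))) (.l 40)) (clsF c19i (.l 8) (.l 40))))))

theorem sp_i19_ev : sp.eval sp_i19_f = true := by decide +kernel

theorem sp_i19 {G : Type*} [Group G] {γ : ℕ → G} {k : ℕ} {N : List W} (g : Gf sp γ k N)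
    (e : tyB sp k N sp_i19_f = true := by decide +kernel) :
    ∀ y ∈ genW γ (sp.ws 19), y * γ 3 = (γ 3)⁻¹ * y → y * y = 1 → y * (γ 7 * γ 8) ∈ genW γ (sp.ws 25) ∨ (clsF c19d (.mul (.mul (.l 7) (.l 8)) (.l 10)) (.l 40)).holds (fun k => genW γ (sp.ws k)) (upd γ 40 y) ∨ (clsF c19t (.mul (.l 5) (.mul (.l 7) (.l 8))) (.l 40)).holds (fun k => genW γ (sp.ws k)) (upd γ 40 y) ∨ (clsF c19i (.l 8) (.l 40)).holds (fun k => genW γ (sp.ws k)) (upd γ 40 y) :=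
  g.transfer e sp_i19_ev

/-- a formula -/
def sp_cJ_f (k : ℕ) : Fm := .all k 40 [(.l 1, .l 1), (.l 2, .l 2), (.l 3, .l 3)] (.mem 1 (.l 40))

theorem sp_cJ {G : Type*} [Group G] {γ : ℕ → G} {k : ℕ} (hk : k = 3 ∨ k = 4) (g : Gf sp γ k []) :
    ∀ y ∈ genW γ (sp.ws k), y * γ 1 = γ 1 * y → y * γ 2 = γ 2 * y → y * γ 3 = γ 3 * y → y ∈ genW γ (sp.ws 1) := by
  change (sp_cJ_f k).holds (fun k => genW γ (sp.ws k)) γ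
  rcases hk with rfl | rfl <;> exact g.tr (by decide +kernel)

/-- a formula -/
def sp_zN_f (k : ℕ) : Fm := .all 1 40 [] (.all k 41 [(.l 1, .l 40)] (.and (.mem 3 (.l 41)) (.or (.eq (.l 40) (.l 1)) (.or (.eq (.l 40) (.l 2)) (.eq (.l 40) (.l 3))))))

theorem sp_zN {G : Type*} [Group G] {γ : ℕ → G} {k : ℕ} (hk : k = 3 ∨ k = 4) (g : Gf sp γ k []) :
    ∀ e ∈ genW γ (sp.ws 1), ∀ y ∈ genW γ (sp.ws k), y * γ 1 = e * y → y ∈ genW γ (sp.ws 3) ∧ (e = γ 1 ∨ e = γ 2 ∨ e = γ 3) := by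
  change (sp_zN_f k).holds (fun k => genW γ (sp.ws k)) γ
  rcases hk with rfl | rfl <;> exact g.tr (by decide +kernel)

/-- a formula -/
def sp_zc_f (k : ℕ) : Fm := .all 1 40 [] (.or (.mem 7 (.l 40)) (.all k 41 [(.l 40, .l 40)] (.mem 3 (.l 41))))

theorem sp_zc {G : Type*} [Group G] {γ : ℕ → G} {k : ℕ} (hk : k = 3 ∨ k = 4) (g : Gf sp γ k []) :
    ∀ e ∈ genW γ (sp.ws 1), e ∈ genW γ (sp.ws 7) ∨ (∀ y ∈ genW γ (sp.ws k), y * e = e * y → y ∈ genW γ (sp.ws 3)) := by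
  change (sp_zc_f k).holds (fun k => genW γ (sp.ws k)) γ
  rcases hk with rfl | rfl <;> exact g.tr (by decide +kernel)

/-- a formula -/
def sp_L_f (k : ℕ) : Fm := .all 9 40 [] (.or (.mem 7 (.l 40)) (.all k 41 [(.l 40, .l 40)] (.and (.mem 1 (.pow (.l 41) 4)) (.and (.and (.ex 27 42 [] (.eq (.mul (.l 1) (.l 41)) (.mul (.mul (.l 42) (.l 41)) (.l 1)))) (.and (.ex 27 42 [] (.eq (.mul (.l 2) (.l 41)) (.mul (.mul (.l 42) (.l 41)) (.l 2)))) (.ex 27 42 [] (.eq (.mul (.l 3) (.l 41)) (.mul (.mul (.l 42) (.l 41)) (.l 3)))))) (.imp (.eq (.mul (.l 41) (.mul (.l 1) (.inv (.l 2)))) (.mul (.mul (.l 1) (.inv (.l 2))) (.l 41))) (.mem 1 (.l 41)))))))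

theorem sp_L {G : Type*} [Group G] {γ : ℕ → G} {k : ℕ} (hk : k = 3 ∨ k = 10) (g : Gf sp γ k []) :
    ∀ e ∈ genW γ (sp.ws 9), e ∈ genW γ (sp.ws 7) ∨ (∀ n ∈ genW γ (sp.ws k), n * e = e * n → n ^ 4 ∈ genW γ (sp.ws 1) ∧ ((∃ l ∈ genW γ (sp.ws 27), γ 1 * n = l * n * γ 1) ∧ (∃ l ∈ genW γ (sp.ws 27), γ 2 * n = l * n * γ 2) ∧ (∃ l ∈ genW γ (sp.ws 27), γ 3 * n = l * n * γ 3)) ∧ (n * (γ 1 * (γ 2)⁻¹) = γ 1 * (γ 2)⁻¹ * n → n ∈ genW γ (sp.ws 1))) := by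
  change (sp_L_f k).holds (fun k => genW γ (sp.ws k)) γ
  rcases hk with rfl | rfl <;> exact g.tr (by decide +kernel)

/-- a formula -/
def sp_Lw_f (k : ℕ) : Fm := .all k 40 [(.mul (.l 1) (.l 2), .mul (.l 1) (.l 2))] (.and (.mem 1 (.pow (.l 40) 4)) (.and (.and (.ex 27 41 [] (.eq (.mul (.l 1) (.l 40)) (.mul (.mul (.l 41) (.l 40)) (.l 1)))) (.and (.ex 27 41 [] (.eq (.mul (.l 2) (.l 40)) (.mul (.mul (.l 41) (.l 40)) (.l 2)))) (.ex 27 41 [] (.eq (.mul (.l 3) (.l 40)) (.mul (.mul (.l 41) (.l 40)) (.l 3)))))) (.imp (.eq (.mul (.l 40) (.mul (.l 1) (.inv (.l 2)))) (.mul (.mul (.l 1) (.inv (.l 2))) (.l 40))) (.mem 1 (.l 40)))))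

theorem sp_Lw {G : Type*} [Group G] {γ : ℕ → G} {k : ℕ} (hk : k = 3 ∨ k = 10 ∨ k = 5) (g : Gf sp γ k []) :
    ∀ n ∈ genW γ (sp.ws k), n * (γ 1 * γ 2) = γ 1 * γ 2 * n → n ^ 4 ∈ genW γ (sp.ws 1) ∧ ((∃ l ∈ genW γ (sp.ws 27), γ 1 * n = l * n * γ 1) ∧ (∃ l ∈ genW γ (sp.ws 27), γ 2 * n = l * n * γ 2) ∧ (∃ l ∈ genW γ (sp.ws 27), γ 3 * n = l * n * γ 3)) ∧ (n * (γ 1 * (γ 2)⁻¹) = γ 1 * (γ 2)⁻¹ * n → n ∈ genW γ (sp.ws 1)) := by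
  change (sp_Lw_f k).holds (fun k => genW γ (sp.ws k)) γ
  rcases hk with rfl | rfl | rfl <;> exact g.tr (by decide +kernel)

/-- a formula -/
def sp_dcC_f (k : ℕ) : Fm := .and (.all k 40 [(.l 3, .l 3)] (.and (.mem 1 (.pow (.l 40) 4)) (.and (.ex 16 41 [] (.eq (.mul (.l 1) (.l 40)) (.mul (.mul (.l 41) (.l 40)) (.l 1)))) (.and (.ex 16 41 [] (.eq (.mul (.l 2) (.l 40)) (.mul (.mul (.l 41) (.l 40)) (.l 2)))) (.ex 16 41 [] (.eq (.mul (.l 3) (.l 40)) (.mul (.mul (.l 41) (.l 40)) (.l 3)))))))) (.and (.all 16 40 [] (.and (.mem 1 (.l 40)) (.eq (.mul (.mul (.l 7) (.l 40)) (.inv (.l 7))) (.inv (.l 40))))) (.and (.mem 1 (.l 3)) (.and (.all 1 40 [] (.or (.mem 16 (.l 40)) (.or (.mem 16 (.mul (.l 40) (.l 3))) (.mem 16 (.mul (.l 40) (.inv (.l 3))))))) (.and (.one (.mul (.l 7) (.l 7))) (.eq (.mul (.l 7) (.l 3)) (.mul (.l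 3) (.l 7)))))))

theorem sp_dcC {G : Type*} [Group G] {γ : ℕ → G} {k : ℕ} (hk : k = 5 ∨ k = 6) (g : Gf sp γ k []) :
    (∀ n ∈ genW γ (sp.ws k), n * γ 3 = γ 3 * n → n ^ 4 ∈ genW γ (sp.ws 1) ∧ (∃ l ∈ genW γ (sp.ws 16), γ 1 * n = l * n * γ 1) ∧ (∃ l ∈ genW γ (sp.ws 16), γ 2 * n = l * n * γ 2) ∧ (∃ l ∈ genW γ (sp.ws 16), γ 3 * n = l * n * γ 3)) ∧ (∀ e ∈ genW γ (sp.ws 16), e ∈ genW γ (sp.ws 1) ∧ γ 7 * e * (γ 7)⁻¹ = e⁻¹) ∧ γ 3 ∈ genW γ (sp.ws 1) ∧ (∀ e ∈ genW γ (sp.ws 1), e ∈ genW γ (sp.ws 16) ∨ e * γ 3 ∈ genW γ (sp.ws 16) ∨ e * (γ 3)⁻¹ ∈ genW γ (sp.ws 16)) ∧ γ 7 * γ 7 = 1 ∧ γ 7 * γ 3 = γ 3 * γ 7 := by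
  change (sp_dcC_f k).holds (fun k => genW γ (sp.ws k)) γ
  rcases hk with rfl | rfl <;> exact g.tr (by decide +kernel)

/-- a formula -/
def sp_T16_f (k : ℕ) : Fm := .all 16 40 [] (.or (.one (.l 40)) (.or (.ex k 41 [(.mul (.l 1) (.l 2), .l 40)] (.tt)) (.ex k 41 [(.mul (.l 1) (.l 2), .mul (.l 40) (.l 3))] (.tt))))

theorem sp_T16 {G : Type*} [Group G] {γ : ℕ → G} {k : ℕ} (hk : k = 5 ∨ k = 6) (g : Gf sp γ k []) :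
    ∀ e ∈ genW γ (sp.ws 16), e = 1 ∨ (∃ l ∈ genW γ (sp.ws k), l * (γ 1 * γ 2) = e * l ∧ True) ∨ (∃ l ∈ genW γ (sp.ws k), l * (γ 1 * γ 2) = e * γ 3 * l ∧ True) := by
  change (sp_T16_f k).holds (fun k => genW γ (sp.ws k)) γ
  rcases hk with rfl | rfl <;> exact g.tr (by decide +kernel)

/-- a formula -/
def sp_tE_f (k : ℕ) : Fm := .all k 40 [(.l 5, .l 5)] (.mem 9 (.pow (.l 40) 4))

theorem sp_tE {G : Type*} [Group G] {γ : ℕ → G} {k : ℕ} (hk : k = 3 ∨ k = 10 ∨ k = 5 ∨ k = 6) (g : Gf sp γ k []) :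
    ∀ n ∈ genW γ (sp.ws k), n * γ 5 = γ 5 * n → n ^ 4 ∈ genW γ (sp.ws 9) := by
  change (sp_tE_f k).holds (fun k => genW γ (sp.ws k)) γ
  rcases hk with rfl | rfl | rfl | rfl <;> exact g.tr (by decide +kernel)

/-- a formula -/
def sp_dC_f (k : ℕ) : Fm := .all k 40 [(.l 7, .l 7)] (.mem 25 (.pow (.l 40) 4))

theorem sp_dC {G : Type*} [Group G] {γ : ℕ → G} {k : ℕ} (hk : k = 5 ∨ k = 6 ∨ k = 19) (g : Gf sp γ k []) :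
    ∀ n ∈ genW γ (sp.ws k), n * γ 7 = γ 7 * n → n ^ 4 ∈ genW γ (sp.ws 25) := by
  change (sp_dC_f k).holds (fun k => genW γ (sp.ws k)) γ
  rcases hk with rfl | rfl | rfl <;> exact g.tr (by decide +kernel)

/-- a formula -/
def sp_nc_f (k : ℕ) : Fm := .and (.all 16 40 [] (.all k 41 [(.mul (.mul (.l 1) (.l 2)) (.l 3), .l 40)] (.not (.tt)))) (.and (.all 25 40 [] (.all k 41 [(.mul (.mul (.l 1) (.l 2)) (.l 3), .l 40)] (.not (.tt)))) (.and (.all 25 40 [] (.all k 41 [(.mul (.l 1) (.l 2), .l 40)] (.not (.tt)))) (.and (.all 26 40 [] (.all k 41 [(.l 3, .l 40)] (.not (.tt)))) (.and (.all 26 40 [] (.all k 41 [(.l 1, .l 40)] (.not (.tt)))) (.and (.all 9 40 [] (.all k 41 [(.mul (.l 1) (.l 2), .l 40)] (.mem 26 (.l 40)))) (.all 9 40 [] (.all k 41 [(.l 3, .l 40)] (.mem 25 (.l 40)))))))))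

theorem sp_nc {G : Type*} [Group G] {γ : ℕ → G} {k : ℕ} (hk : k = 3 ∨ k = 10 ∨ k = 5 ∨ k = 6) (g : Gf sp γ k []) :
    (∀ e ∈ genW γ (sp.ws 16), ∀ n ∈ genW γ (sp.ws k), n * (γ 1 * γ 2 * γ 3) = e * n → ¬ True) ∧ (∀ e ∈ genW γ (sp.ws 25), ∀ n ∈ genW γ (sp.ws k), n * (γ 1 * γ 2 * γ 3) = e * n → ¬ True) ∧ (∀ e ∈ genW γ (sp.ws 25), ∀ n ∈ genW γ (sp.ws k), n * (γ 1 * γ 2) = e * n → ¬ True) ∧ (∀ e ∈ genW γ (sp.ws 26), ∀ n ∈ genW γ (sp.ws k), n * γ 3 = e * n → ¬ True) ∧ (∀ e ∈ genW γ (sp.ws 26), ∀ n ∈ genW γ (sp.ws k), n * γ 1 = e * n → ¬ True) ∧ (∀ e ∈ genW γ (sp.ws 9), ∀ n ∈ genW γ (sp.ws k), n * (γ 1 * γ 2) = e * n → e ∈ genW γ (sp.ws 26)) ∧ (∀ e ∈ genW γ (sp.ws 9), ∀ n ∈ genW γ (sp.ws k), n * γ 3 = e * n → e ∈ genW γ (sp.ws 25)) := by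
  change (sp_nc_f k).holds (fun k => genW γ (sp.ws k)) γ
  rcases hk with rfl | rfl | rfl | rfl <;> exact g.tr (by decide +kernel)

/-- a formula -/
def sp_cwL_f (k : ℕ) : Fm := .all k 40 [(.l 5, .l 5), (.mul (.l 1) (.l 2), .mul (.l 1) (.l 2))] (.and (.mem 9 (.mul (.mul (.mul (.l 40) (.l 3)) (.inv (.l 40))) (.inv (.l 3)))) (.imp (.mem 26 (.mul (.mul (.mul (.l 40) (.l 3)) (.inv (.l 40))) (.inv (.l 3)))) (.or (.mem 9 (.l 40)) (.mem 9 (.mul (.l 40) (.l 5))))))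

theorem sp_cwL {G : Type*} [Group G] {γ : ℕ → G} {k : ℕ} (hk : k = 5 ∨ k = 6) (g : Gf sp γ k []) :
    ∀ e ∈ genW γ (sp.ws k), e * γ 5 = γ 5 * e → e * (γ 1 * γ 2) = γ 1 * γ 2 * e → e * γ 3 * e⁻¹ * (γ 3)⁻¹ ∈ genW γ (sp.ws 9) ∧ (e * γ 3 * e⁻¹ * (γ 3)⁻¹ ∈ genW γ (sp.ws 26) → e ∈ genW γ (sp.ws 9) ∨ e * γ 5 ∈ genW γ (sp.ws 9)) := by
  change (sp_cwL_f k).holds (fun k => genW γ (sp.ws k)) γ
  rcases hk with rfl | rfl <;> exact g.tr (by decide +kernel)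

/-- a formula -/
def sp_e12_f (k : ℕ) : Fm := .all k 40 [(.l 5, .l 5)] (.one (.pow (.l 40) 12))

theorem sp_e12 {G : Type*} [Group G] {γ : ℕ → G} {k : ℕ} (hk : k = 5 ∨ k = 6 ∨ k = 19 ∨ k = 3 ∨ k = 4) (g : Gf sp γ k []) :
    ∀ y ∈ genW γ (sp.ws k), y * γ 5 = γ 5 * y → y ^ 12 = 1 := by
  change (sp_e12_f k).holds (fun k => genW γ (sp.ws k)) γ
  rcases hk with rfl | rfl | rfl | rfl | rfl <;> exact g.tr (by decide +kernel)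

/-- a formula -/
def z6_v_f : Fm := .all 0 40 [] (.imp (.one (.pow (.l 40) 3)) (.imp (.not (.one (.l 40))) (.all 0 41 [(.l 40, .l 40)] (.imp (.one (.pow (.l 41) 3)) (.imp (.not (.eq (.l 41) (.l 40))) (.imp (.not (.one (.mul (.l 41) (.l 40)))) (.all 0 42 [(.l 40, .l 41), (.l 41, .l 40)] (.imp (.one (.mul (.l 42) (.l 42))) (.all 0 43 [(.l 40, .inv (.l 40)), (.l 41, .l 41)] (.imp (.one (.mul (.l 43) (.l 43))) (.ex 0 44 [(.l 43, .l 43), (.l 42, .l 42)] (.and (.one (.mul (.l 44) (.l 44))) (.and (.one (.pow (.mul (.mul (.l 44) (.l 43)) (.l 40)) 3)) (.and (.one (.mul (.mul (.mul (.mul (.mul (.mul (.mul (.mul (.mul (.l 44) (.l 40)) (.l 41)) (.l 44)) (.l 40)) (.l 41)) (.l 44)) (.l 40)) (.l 41)) (.l 42))) (.not (.eq (.mul (.l 40) (.mul (.mul (.l 44) (.l 40)) (.inv (.l 44)))) (.mul (.mul (.mul (.l 44) (.l 40)) (.inv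 (.l 44))) (.l 40))))))))))))))))))

theorem z6_v_ev : z6.eval z6_v_f = true := by decide +kernel

theorem z6_v {G : Type*} [Group G] {γ : ℕ → G} {k : ℕ} {N : List W} (g : Gf z6 γ k N)
    (e : tyB z6 k N z6_v_f = true := by decide +kernel) :
    ∀ a ∈ genW γ (z6.ws 0), a ^ 3 = 1 → a ≠ 1 → ∀ b ∈ genW γ (z6.ws 0), b * a = a * b → b ^ 3 = 1 → b ≠ a → b * a ≠ 1 → ∀ t ∈ genW γ (z6.ws 0), t * a = b * t → t * b = a * t → t * t = 1 → ∀ s ∈ genW γ (z6.ws 0), s * a = a⁻¹ * s → s * b = b * s → s * s = 1 → ∃ v ∈ genW γ (z6.ws 0), v * s = s * v ∧ v * t = t * v ∧ v * v = 1 ∧ (v * s * a) ^ 3 = 1 ∧ v * a * b * v * a * b * v * a * b * t = 1 ∧ a * (v * a * v⁻¹) ≠ v * a * v⁻¹ * a :=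
  g.transfer e z6_v_ev

end Cfsg.Lib.Loc3
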