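import Cfsg.Agent.Lib.T3.Hlp

/-! The group `2^{1+4} : S₃` on 8 points and its subgroup `2 × S₄` (generated data, helper8). -/

set_option autoImplicit false
set_option maxRecDepth 1000000
set_option maxHeartbeats 0

namespace Cfsg.Lib.Loc3

open Cfsg.Lib.Calc Cfsg.Lib.Grp Cfsg.Lib.T2 Cfsg.Lib.T3

/-- relators of `2 × S₄` -/
def relL0 : List W := [.mul (.l 1) (.l 1), .mul (.l 2) (.l 2), .mul (.l 5) (.l 5), .pow (.mul (.l 1) (.l 2)) 2, .pow (.mul (.l 1) (.l 5)) 2, .pow (.mul (.l 2) (.l 5)) 2, .mul (.mul (.mul (.l 6) (.l 1)) (.inv (.l 6))) (.inv (.l 2)), .mul (.mul (.mul (.l 6) (.l 2)) (.inv (.l 6))) (.inv (.mul (.l 1) (.l 2))), .mul (.mul (.mul (.l 6) (.l 5)) (.inv (.l 6))) (.inv (.l 5)), .mul (.mul (.mul (.l 7) (.l 1)) (.inv (.l 7))) (.inv (.l 1)), .mul (.mul (.mul (.l 7) (.l 2)) (.inv (.l 7))) (.inv (.mul (.l 1) (.l 2))), .mul (.mul (.mul (.l 7) (.l 5)) (.inv (.l 7))) (.inv (.l 5)), .pow (.l 6) 3,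 .mul (.l 7) (.l 7), .pow (.mul (.l 7) (.l 6)) 2]

def tw_L0 : List (ℕ × List ℕ) := [((nat_lit 2), [(nat_lit 16434824), (nat_lit 15551816), (nat_lit 3605756), (nat_lit 14465066), (nat_lit 14136584), (nat_lit 2722748), (nat_lit 13647466), (nat_lit 13253576)]),
  ((nat_lit 3), [(nat_lit 16434824), (nat_lit 13021372), (nat_lit 7532168), (nat_lit 4098227), (nat_lit 957628), (nat_lit 8581811)]),
  ((nat_lit 0), [(nat_lit 16434824), (nat_lit 1742503), (nat_lit 10155649), (nat_lit 3835580)])]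

def tw_D0 : List ℕ := [(nat_lit 0), (nat_lit 513), (nat_lit 1537), (nat_lit 2049), (nat_lit 3329), (nat_lit 121346), (nat_lit 131074), (nat_lit 141570), (nat_lit 0), (nat_lit 109826), (nat_lit 10090243), (nat_lit 197890), (nat_lit 14873859), (nat_lit 16475395), (nat_lit 0), (nat_lit 39727275269), (nat_lit 52498266373), (nat_lit 3741769367302)]

def tw_L1 : List (ℕ × List ℕ) := [((nat_lit 2), [(nat_lit 16434824), (nat_lit 15551816), (nat_lit 12527816), (nat_lit 14136584), (nat_lit 11644808), (nat_lit 13253576)]),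
  ((nat_lit 3), [(nat_lit 16434824), (nat_lit 9370760), (nat_lit 14596232), (nat_lit 7532168)]),
  ((nat_lit 0), [(nat_lit 16434824), (nat_lit 10155649)])]

def tw_D1 : List ℕ := [(nat_lit 0), (nat_lit 513), (nat_lit 2049), (nat_lit 2305), (nat_lit 73730), (nat_lit 81154), (nat_lit 0), (nat_lit 1025), (nat_lit 76034), (nat_lit 6071555), (nat_lit 0), (nat_lit 56066)]

def tw_L2 : List (ℕ × List ℕ) := [((nat_lit 2), [(nat_lit 16434824), (nat_lit 15551816), (nat_lit 16205000), (nat_lit 15321992)]),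
  ((nat_lit 3), [(nat_lit 16434824), (nat_lit 9370760)]),
  ((nat_lit 0), [(nat_lit 16434824), (nat_lit 10155649)])]

def tw_D2 : List ℕ := [(nat_lit 0), (nat_lit 513), (nat_lit 2049), (nat_lit 51202), (nat_lit 0), (nat_lit 1025), (nat_lit 0), (nat_lit 40194)]

def tw_L3 : List (ℕ × List ℕ) := [((nat_lit 2), [(nat_lit 16434824), (nat_lit 15551816)]),
  ((nat_lit 3), [(nat_lit 16434824), (nat_lit 9370760)]),
  ((nat_lit 0), [(nat_lit 16434824), (nat_lit 10155649)])]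

def tw_D3 : List ℕ := [(nat_lit 0), (nat_lit 513), (nat_lit 0), (nat_lit 1025), (nat_lit 0), (nat_lit 30466)]

def tw_L4 : List (ℕ × List ℕ) := [((nat_lit 2), [(nat_lit 16434824), (nat_lit 15551816), (nat_lit 3605756), (nat_lit 14465066), (nat_lit 2722748), (nat_lit 13647466), (nat_lit 10985779), (nat_lit 10626035)]),
  ((nat_lit 3), [(nat_lit 16434824), (nat_lit 9370760)]),
  ((nat_lit 0), [(nat_lit 16434824), (nat_lit 10155649)])]

def tw_D4 : List ℕ := [(nat_lit 0), (nat_lit 513), (nat_lit 1537), (nat_lit 2049), (nat_lit 73218), (nat_lit 80898), (nat_lit 100354), (nat_lit 135170), (nat_lit 0), (nat_lit 1025), (nat_lit 0), (nat_lit 90882)]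

def tw_L5 : List (ℕ × List ℕ) := [((nat_lit 0), [(nat_lit 16434824), (nat_lit 9272641)]),
  ((nat_lit 2), [(nat_lit 16434824), (nat_lit 12527816), (nat_lit 14136584)])]

def tw_D5 : List ℕ := [(nat_lit 0), (nat_lit 513), (nat_lit 0), (nat_lit 1025), (nat_lit 1281)]

def tw : PM :=
  ⟨(nat_lit 8), (nat_lit 3), [(nat_lit 15551816), (nat_lit 9370760), (nat_lit 3605756), (nat_lit 14465066), (nat_lit 9272641), (nat_lit 12527816), (nat_lit 16205000)],
    [[.l 1, .l 2, .l 3, .l 4, .l 5, .l 6, .l 7],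
    [.l 1, .l 2, .l 5, .l 6, .l 7],
    [.l 1, .l 2, .l 5, .l 7],
    [.l 1, .l 2, .l 5],
    [.l 1, .l 2, .l 3, .l 4, .l 5],
    [.l 5, .l 6]],
    [tw_L0, tw_L1, tw_L2, tw_L3, tw_L4, tw_L5], [tw_D0, tw_D1, tw_D2, tw_D3, tw_D4, tw_D5]⟩

instance tw_ne : NeZero tw.n := ⟨by decide⟩

theorem tw_ok0 : tw.ok0 = true := by decide +kernel

theorem tw_k0 : allFrom (nat_lit 0) (nat_lit 1) tw.okK = true := by decide +kernel

theorem tw_k1 : allFrom (nat_lit 1) (nat_lit 1) tw.okK = true := by decide +kernel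

theorem tw_k2 : allFrom (nat_lit 2) (nat_lit 1) tw.okK = true := by decide +kernel

theorem tw_k3 : allFrom (nat_lit 3) (nat_lit 1) tw.okK = true := by decide +kernel

theorem tw_k4 : allFrom (nat_lit 4) (nat_lit 1) tw.okK = true := by decide +kernel

theorem tw_k5 : allFrom (nat_lit 5) (nat_lit 1) tw.okK = true := by decide +kernel

theorem tw_ok : tw.OK := PM.OK.of_check tw_ok0
  (of_allFrom_append (of_allFrom_append (of_allFrom_append (of_allFrom_append (of_allFrom_append (of_allFrom_append of_lt_zero tw_k0) tw_k1) tw_k2) tw_k3) tw_k4) tw_k5)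

theorem tw_card0 : Nat.card (genW tw.gam (tw.ws 0)) = 192 := (tw_ok.card 0).trans (by decide +kernel)

theorem tw_card1 : Nat.card (genW tw.gam (tw.ws 1)) = 48 := (tw_ok.card 1).trans (by decide +kernel)

theorem tw_card2 : Nat.card (genW tw.gam (tw.ws 2)) = 16 := (tw_ok.card 2).trans (by decide +kernel)

theorem tw_card3 : Nat.card (genW tw.gam (tw.ws 3)) = 8 := (tw_ok.card 3).trans (by decide +kernel)

theorem tw_card4 : Nat.card (genW tw.gam (tw.ws 4)) = 32 := (tw_ok.card 4).trans (by decide +kernel)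

theorem tw_card5 : Nat.card (genW tw.gam (tw.ws 5)) = 6 := (tw_ok.card 5).trans (by decide +kernel)

/-- a formula -/
def tw_T_f : Fm := .all 2 40 [] (.imp (.one (.mul (.l 40) (.l 40))) (.or (.mem 3 (.l 40)) (.or (.eq (.l 40) (.l 7)) (.or (.eq (.l 40) (.mul (.l 7) (.l 1))) (.or (.eq (.l 40) (.mul (.l 7) (.l 5))) (.eq (.l 40) (.mul (.mul (.l 7) (.l 1)) (.l 5))))))))

theorem tw_T_ev : tw.eval tw_T_f = true := by decide +kernel

theorem tw_T {G : Type*} [Group G] {γ : ℕ → G} {k : ℕ} {N : List W} (g : Gf tw γ k N)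
    (e : tyB tw k N tw_T_f = true := by decide +kernel) :
    ∀ u ∈ genW γ (tw.ws 2), u * u = 1 → u ∈ genW γ (tw.ws 3) ∨ u = γ 7 ∨ u = γ 7 * γ 1 ∨ u = γ 7 * γ 5 ∨ u = γ 7 * γ 1 * γ 5 :=
  g.transfer e tw_T_ev

/-- a formula -/
def tw_A_f : Fm := .all 3 40 [] (.or (.one (.l 40)) (.or (.eq (.l 40) (.l 5)) (.or (.eq (.l 40) (.l 1)) (.or (.eq (.l 40) (.mul (.l 1) (.l 5))) (.or (.eq (.l 40) (.l 2)) (.or (.eq (.l 40) (.mul (.l 2) (.l 5))) (.or (.eq (.l 40) (.mul (.l 1) (.l 2))) (.eq (.l 40) (.mul (.mul (.l 1) (.l 2)) (.l 5))))))))))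

theorem tw_A_ev : tw.eval tw_A_f = true := by decide +kernel

theorem tw_A {G : Type*} [Group G] {γ : ℕ → G} {k : ℕ} {N : List W} (g : Gf tw γ k N)
    (e : tyB tw k N tw_A_f = true := by decide +kernel) :
    ∀ u ∈ genW γ (tw.ws 3), u = 1 ∨ u = γ 5 ∨ u = γ 1 ∨ u = γ 1 * γ 5 ∨ u = γ 2 ∨ u = γ 2 * γ 5 ∨ u = γ 1 * γ 2 ∨ u = γ 1 * γ 2 * γ 5 :=
  g.transfer e tw_A_ev

/-- a formula -/
def tw_Z_f : Fm := .all 2 40 [(.l 2, .l 2), (.l 7, .l 7)] (.or (.one (.l 40)) (.or (.eq (.l 40) (.l 5)) (.or (.eq (.l 40) (.l 1)) (.eq (.l 40) (.mul (.l 1) (.l 5))))))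

theorem tw_Z_ev : tw.eval tw_Z_f = true := by decide +kernel

theorem tw_Z {G : Type*} [Group G] {γ : ℕ → G} {k : ℕ} {N : List W} (g : Gf tw γ k N)
    (e : tyB tw k N tw_Z_f = true := by decide +kernel) :
    ∀ u ∈ genW γ (tw.ws 2), u * γ 2 = γ 2 * u → u * γ 7 = γ 7 * u → u = 1 ∨ u = γ 5 ∨ u = γ 1 ∨ u = γ 1 * γ 5 :=
  g.transfer e tw_Z_ev

/-- a formula -/
def tw_sq_f : Fm := .all 2 40 [] (.or (.one (.mul (.l 40) (.l 40))) (.eq (.mul (.l 40) (.l 40)) (.l 1)))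

theorem tw_sq_ev : tw.eval tw_sq_f = true := by decide +kernel

theorem tw_sq {G : Type*} [Group G] {γ : ℕ → G} {k : ℕ} {N : List W} (g : Gf tw γ k N)
    (e : tyB tw k N tw_sq_f = true := by decide +kernel) :
    ∀ u ∈ genW γ (tw.ws 2), u * u = 1 ∨ u * u = γ 1 :=
  g.transfer e tw_sq_ev

/-- a formula -/
def tw_6_f : Fm := .all 5 40 [] (.or (.one (.l 40)) (.or (.eq (.l 40) (.l 6)) (.or (.eq (.l 40) (.inv (.l 6))) (.or (.eq (.l 40) (.l 5)) (.or (.eq (.l 40) (.mul (.l 6) (.l 5))) (.eq (.l 40) (.mul (.inv (.l 6)) (.l 5))))))))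

theorem tw_6_ev : tw.eval tw_6_f = true := by decide +kernel

theorem tw_6 {G : Type*} [Group G] {γ : ℕ → G} {k : ℕ} {N : List W} (g : Gf tw γ k N)
    (e : tyB tw k N tw_6_f = true := by decide +kernel) :
    ∀ u ∈ genW γ (tw.ws 5), u = 1 ∨ u = γ 6 ∨ u = (γ 6)⁻¹ ∨ u = γ 5 ∨ u = γ 6 * γ 5 ∨ u = (γ 6)⁻¹ * γ 5 :=
  g.transfer e tw_6_ev

/-- a formula -/
def tw_B_f : Fm := .all 0 40 [(.l 1, .l 1), (.l 7, .l 7)] (.or (.mem 4 (.l 40)) (.or (.eq (.l 40) (.l 7)) (.or (.eq (.l 40) (.mul (.l 7) (.l 1))) (.or (.eq (.l 40) (.mul (.l 7) (.l 5))) (.or (.eq (.l 40) (.mul (.mul (.l 7) (.l 1)) (.l 5))) (.or (.eq (.l 40) (.mul (.l 3) (.l 7))) (.or (.eq (.l 40) (.mul (.mul (.l 3) (.l 7)) (.l 5))) (.or (.eq (.l 40) (.mul (.mul (.l 3) (.l 7)) (.l 1))) (.eq (.l 40) (.mul (.mul (.mul (.l 3) (.l 7)) (.l 1)) (.l 5)))))))))))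

theorem tw_B_ev : tw.eval tw_B_f = true := by decide +kernel

theorem tw_B {G : Type*} [Group G] {γ : ℕ → G} {k : ℕ} {N : List W} (g : Gf tw γ k N)
    (e : tyB tw k N tw_B_f = true := by decide +kernel) :
    ∀ u ∈ genW γ (tw.ws 0), u * γ 1 = γ 1 * u → u * γ 7 = γ 7 * u → u ∈ genW γ (tw.ws 4) ∨ u = γ 7 ∨ u = γ 7 * γ 1 ∨ u = γ 7 * γ 5 ∨ u = γ 7 * γ 1 * γ 5 ∨ u = γ 3 * γ 7 ∨ u = γ 3 * γ 7 * γ 5 ∨ u = γ 3 * γ 7 * γ 1 ∨ u = γ 3 * γ 7 * γ 1 * γ 5 :=
  g.transfer e tw_B_ev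

/-- a formula -/
def tw_Q_f : Fm := .all 3 40 [(.mul (.mul (.mul (.l 4) (.l 7)) (.inv (.l 4))) (.l 7), .mul (.mul (.mul (.l 4) (.l 7)) (.inv (.l 4))) (.l 7)), (.mul (.mul (.l 6) (.mul (.mul (.mul (.l 4) (.l 7)) (.inv (.l 4))) (.l 7))) (.inv (.l 6)), .mul (.mul (.l 6) (.mul (.mul (.mul (.l 4) (.l 7)) (.inv (.l 4))) (.l 7))) (.inv (.l 6)))] (.or (.one (.l 40)) (.eq (.l 40) (.l 5)))

theorem tw_Q_ev : tw.eval tw_Q_f = true := by decide +kernel

theorem tw_Q {G : Type*} [Group G] {γ : ℕ → G} {k : ℕ} {N : List W} (g : Gf tw γ k N)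
    (e : tyB tw k N tw_Q_f = true := by decide +kernel) :
    ∀ u ∈ genW γ (tw.ws 3), u * (γ 4 * γ 7 * (γ 4)⁻¹ * γ 7) = γ 4 * γ 7 * (γ 4)⁻¹ * γ 7 * u → u * (γ 6 * (γ 4 * γ 7 * (γ 4)⁻¹ * γ 7) * (γ 6)⁻¹) = γ 6 * (γ 4 * γ 7 * (γ 4)⁻¹ * γ 7) * (γ 6)⁻¹ * u → u = 1 ∨ u = γ 5 :=
  g.transfer e tw_Q_ev

/-- a formula -/
def tw_Q4_f : Fm := .all 4 40 [] (.and (.or (.eq (.mul (.mul (.l 40) (.l 1)) (.inv (.l 40))) (.l 1)) (.eq (.mul (.mul (.l 40) (.l 1)) (.inv (.l 40))) (.mul (.l 1) (.l 5)))) (.or (.eq (.mul (.mul (.l 40) (.l 2)) (.inv (.l 40))) (.l 2)) (.eq (.mul (.mul (.l 40) (.l 2)) (.inv (.l 40))) (.mul (.l 2) (.l 5)))))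

theorem tw_Q4_ev : tw.eval tw_Q4_f = true := by decide +kernel

theorem tw_Q4 {G : Type*} [Group G] {γ : ℕ → G} {k : ℕ} {N : List W} (g : Gf tw γ k N)
    (e : tyB tw k N tw_Q4_f = true := by decide +kernel) :
    ∀ u ∈ genW γ (tw.ws 4), (u * γ 1 * u⁻¹ = γ 1 ∨ u * γ 1 * u⁻¹ = γ 1 * γ 5) ∧ (u * γ 2 * u⁻¹ = γ 2 ∨ u * γ 2 * u⁻¹ = γ 2 * γ 5) :=
  g.transfer e tw_Q4_ev

/-- a formula -/
def tw_nT_f : Fm := .all 2 40 [(.l 2, .mul (.mul (.l 1) (.l 2)) (.l 5))] (.not (.tt))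

theorem tw_nT_ev : tw.eval tw_nT_f = true := by decide +kernel

theorem tw_nT {G : Type*} [Group G] {γ : ℕ → G} {k : ℕ} {N : List W} (g : Gf tw γ k N)
    (e : tyB tw k N tw_nT_f = true := by decide +kernel) :
    ∀ u ∈ genW γ (tw.ws 2), u * γ 2 = γ 1 * γ 2 * γ 5 * u → ¬ True :=
  g.transfer e tw_nT_ev

theorem tw_soc : ∀ e ∈ genW tw.gam (tw.ws 0), e = 1 ∨ e = tw.gam 5 ∨ (∃ l ∈ genW tw.gam (tw.ws 0), l * e = tw.gam 5 * e * l ∧ True) ∨ (∃ k ∈ genW tw.gam (tw.ws 0), ∃ l ∈ genW tw.gam (tw.ws 0), l * (k * e * k⁻¹ * e⁻¹) = tw.gam 5 * (k * e * k⁻¹ * e⁻¹) * l ∧ True) :=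
  tw_ok.holds (φ := .all 0 40 [] (.or (.one (.l 40)) (.or (.eq (.l 40) (.l 5)) (.or (.ex 0 41 [(.l 40, .mul (.l 5) (.l 40))] (.tt)) (.ex 0 41 [] (.ex 0 42 [(.mul (.mul (.mul (.l 41) (.l 40)) (.inv (.l 41))) (.inv (.l 40)), .mul (.l 5) (.mul (.mul (.mul (.l 41) (.l 40)) (.inv (.l 41))) (.inv (.l 40))))] (.tt))))))) (by decide +kernel)

/-- inverse letters -/
def tcL0_iv : ℕ := 6846349936672

/-- inverse letters -/
def tcL0_labs : List W := [.l 0, .l 1, .l 2, .l 0, .l 0, .l 5, .l 6, .l 7, .inv (.l 6)]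

def tcL0_F : Tr := .leaf (nat_lit 0x558af3ce7bcb496f0cc1bd171af1582b9129ae2d05b83506e14c2b4f01ed2c45b43586d4586b50f9ac2c25b03206c3b67acae96b4546ac520aa4346a8ae16a13a2a4eb9e90ac1a5141a91422a10a9a80b81a10c1a734689cab96714029ce91e62ac599121a63b0794aa9650be195089a42a8590cc2232a658c2c86312c288e79e20ba189109a241c6842a0610c016d1019e29e5804d09f29c57c4c89e29a5782805e3967750e19d1282710519c436664a595b12426ca515a0a2168a49591102602605840e65cc9a1711e25ce31d6428658e39d509c1550299430e84c24853424640a315228a544a215009e12d0798d1142384488d0881344188c4166244308b08a1282184808411d0318445e694f71e345a67cf61de456668f51d9452654f41d30ce1491319114a244f21d01462411118e3c2734d020c3be7310f18c43a628ee1c9336820ed1c8432620ac1470ae1190b18512a214ea1c4126210c92033a270d0818331e808e71c241a608a6142316804e51c1412604a414110e204c320038a701021802865004108008210000000)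
def tcL0_T : Tr := .leaf (nat_lit 0xbeeb6caeaa689e69648e28607de75c6da6585d65544d24503ce34c2ca2481c61440c2040)
def tcL0_P : Tr := .node (.node (.leaf (nat_lit 0x36328940180c68100a801040d0ca230020619040260040a30070440000860630c800008b8d01607800020b8c02700403171a0ee004002c050340002858840000915028060f0040715198e400000280402c008284c080183c010104c6e38800000804a00012240303401814440605801040800c0900205348300a1f008040d07c000243862070540081c34620704c00810340404801018600807000020905c000242c020680301850040b00206080080e000020e0101400000100d00009))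
  (.leaf (nat_lit 0xbcd77200005179aa53002052f1289a004065e8a0000497192b02c801039719ad60020a2e32ca2004105c6495400818b4d22513400810b43e20800051696645002052d2d4ae004065a8200004960783f0020a2c2bc8600410585692400818ac341b800051593a3b002052b3d800024a8c8231240081ca8321a801051513239002082921ce63b0020429225240001452150b40080ca4e80000928204e043002072820d100041450408e4008189c9e1b258000109c7e2380201938fa2f00201)))
  (.node (.leaf (nat_lit 0x9c9e5d8010013044250000a261ec5a0040a4c680000492844644b00203928f62b00202252696800000481008c008289079148010411840644b00202118f22700202232b1620000044430a85a00408440e07c0002888731d801019117c00012420d07400828846f148010327c486c20804020f08200012400c07c018147c944b8d40081c7c180e801040f1289719801020f0301b002051e1b442004063a0a05c0002874a4000091c2004c29002071c0482a00414321b800048d8201700605))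
  (.leaf (nat_lit 0x1ff001ff001ff001ff001ff001ff001ff001ff001ff001ff001ff001ff001ff001ff001ff001ff001ff001ff001ff001ff001ff001ff001ff001ff001ff001ff001ff001ff001ff001ff001ff2f34d6a5700204)))
def tcL0_N_0 : Tr := .node (.node (.node (.node (.leaf (nat_lit 66625))
  (.leaf (nat_lit 200)))
  (.leaf (nat_lit 2050)))
  (.node (.leaf (nat_lit 171175))
  (.leaf (nat_lit 165))))
  (.node (.node (.node (.leaf (nat_lit 1122374))
  (.leaf (nat_lit 0)))
  (.leaf (nat_lit 132)))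
  (.node (.leaf (nat_lit 33))
  (.leaf (nat_lit 8198))))
def tcL0_N_1 : Tr := .node (.node (.node (.node (.leaf (nat_lit 166050))
  (.leaf (nat_lit 6152)))
  (.leaf (nat_lit 99)))
  (.node (.leaf (nat_lit 203975))
  (.leaf (nat_lit 262))))
  (.node (.node (.leaf (nat_lit 39975))
  (.leaf (nat_lit 4100)))
  (.node (.leaf (nat_lit 66))
  (.leaf (nat_lit 231))))
def tcL0_N_2 : Tr := .node (.node (.node (.node (.leaf (nat_lit 165025))
  (.leaf (nat_lit 200)))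
  (.leaf (nat_lit 99)))
  (.node (.leaf (nat_lit 6342))
  (.leaf (nat_lit 5125))))
  (.node (.node (.leaf (nat_lit 172198))
  (.leaf (nat_lit 132)))
  (.node (.leaf (nat_lit 1025))
  (.leaf (nat_lit 231))))
def tcL0_N_3 : Tr := .node (.node (.node (.node (.leaf (nat_lit 73766))
  (.leaf (nat_lit 0)))
  (.leaf (nat_lit 3075)))
  (.node (.leaf (nat_lit 33))
  (.leaf (nat_lit 262))))
  (.node (.node (.leaf (nat_lit 1121351))
  (.leaf (nat_lit 165)))
  (.node (.leaf (nat_lit 66))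
  (.leaf (nat_lit 7175))))
def tcL0_N : Tr := .node (.node tcL0_N_0
  tcL0_N_1)
  (.node tcL0_N_2
  tcL0_N_3)
noncomputable def tcL0 : TC :=
  ⟨[.l 0, .l 1, .l 2, .l 3, .l 4, .l 5, .l 6, .l 7, .l 8],
    (nat_lit 6), (nat_lit 9), (nat_lit 6846349936672), (nat_lit 1), (nat_lit 48), (nat_lit 0), (nat_lit 32), (nat_lit 4), (nat_lit 37),
    get (nat_lit 10) (nat_lit 0x400c0400c02010030080400c02010030080400c02010030080400c02010030080400c0401404010050100401004), Tr.get tcL0_N, get (nat_lit 20) (nat_lit 0x3ff003ff003ff003ff003ff003ff003ff003ff003ff003ff003ff003ff003ff003ff003ff003ff003ff003ff003ff003ff003ff003ff003ff003ff003ff003ff0000e0000c0000b0000a00009000080000700006000050000400003),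
    Tr.get3 tcL0_F (nat_lit 22) (nat_lit 5), Tr.get3 tcL0_T (nat_lit 6) (nat_lit 7), Tr.get tcL0_P⟩

theorem tcL0_head : tcL0.headOK relL0 tcL0_iv = true := by decide +kernel

theorem tcL0_b0 : allFrom (nat_lit 0) (nat_lit 4) tcL0.blockOK = true := by decide +kernel

def tcL0_Q7 : Tr := .leaf (nat_lit 0x8f17618597f155e0518fb71ac492e310870d1f96154397f8d4a8d778a31102928374464862874843e55854703444a34162811070280a)
theorem tcL0_f7_0 : allFrom (nat_lit 0) (nat_lit 48) (tcL0.finOK (nat_lit 48) (Tr.get3 tcL0_Q7 (nat_lit 9) (nat_lit 6)) (nat_lit 7)) = true := by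
  decide +kernel

def tcL0_Q6 : Tr := .leaf (nat_lit 0x8c4520d047d3d9d8e872360bcd071b017c412d2e150a41b95944cd49228a48448894987e0f910e83c0b8e8d432418345860100682408)
theorem tcL0_f6_0 : allFrom (nat_lit 0) (nat_lit 48) (tcL0.finOK (nat_lit 48) (Tr.get3 tcL0_Q6 (nat_lit 9) (nat_lit 6)) (nat_lit 6)) = true := by
  decide +kernel

def tcL0_Q5 : Tr := .leaf (nat_lit 0x8e44a15027e3d23b1370369a8ce6542e06b6592b9faf550271303170b6daacf659f0f4785bacd5e1950a753211181f4f679038602006)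
theorem tcL0_f5_0 : allFrom (nat_lit 0) (nat_lit 48) (tcL0.finOK (nat_lit 48) (Tr.get3 tcL0_Q5 (nat_lit 9) (nat_lit 6)) (nat_lit 5)) = true := by
  decide +kernel

def tcL0_Q2 : Tr := .leaf (nat_lit 0x9045a1d1790be1e4ea6f43c96f923b19d6df5a2c1e6a64f2d562964731c56a713a7c9446479c8e06c341cce297079a45426368141c04)
theorem tcL0_f2_0 : allFrom (nat_lit 0) (nat_lit 48) (tcL0.finOK (nat_lit 48) (Tr.get3 tcL0_Q2 (nat_lit 9) (nat_lit 6)) (nat_lit 2)) = true := by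
  decide +kernel

def tcL0_Q1 : Tr := .leaf (nat_lit 0x8d442110084c45dce627c6da5016430978bb69ab186e75d269929417bbd0cbd4013936ad3ba1cdc953b1990264310b8ce6f3298c0602)
theorem tcL0_f1_0 : allFrom (nat_lit 0) (nat_lit 48) (tcL0.finOK (nat_lit 48) (Tr.get3 tcL0_Q1 (nat_lit 9) (nat_lit 6)) (nat_lit 1)) = true := by
  decide +kernel

theorem tcL0_blocks : ∀ t < tcL0.k, tcL0.blockOK t = true :=
  (of_allFrom_append of_lt_zero tcL0_b0)

/-- index 48 max 48 total 48 facts 145 | needed cosets 48 facts 145 steps 297 trivial 0 -/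
theorem tcL0_index {G : Type*} [Group G] {γ : ℕ → G} (hL : Lab γ tcL0_iv) (hr : ∀ t ∈ relL0, t.ev γ = 1) {K : Subgroup G}
    (hK : ∀ t ∈ ([] : List W), t.ev γ ∈ K) :
    K.relIndex (genW γ [.l 1, .l 2, .l 5, .l 6, .l 7]) ≠ 0 ∧ K.relIndex (genW γ [.l 1, .l 2, .l 5, .l 6, .l 7]) ≤ 48 :=
  TC.relIndex_le (D := tcL0) (gens := [1, 2, 5, 6, 7]) hL (List.forall_mem_cons.2 ⟨hL.zero_mem K, hK⟩) hr tcL0_head tcL0_blocks (by decide) (by decide)
   (List.forall_mem_cons.2 ⟨⟨_, (of_allFrom_append of_lt_zero tcL0_f1_0)⟩,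
    List.forall_mem_cons.2 ⟨⟨_, (of_allFrom_append of_lt_zero tcL0_f2_0)⟩,
    List.forall_mem_cons.2 ⟨⟨_, (of_allFrom_append of_lt_zero tcL0_f5_0)⟩,
    List.forall_mem_cons.2 ⟨⟨_, (of_allFrom_append of_lt_zero tcL0_f6_0)⟩,
    List.forall_mem_cons.2 ⟨⟨_, (of_allFrom_append of_lt_zero tcL0_f7_0)⟩,
    fun _ h => absurd h List.not_mem_nil⟩⟩⟩⟩⟩)

theorem tcL0_idx {G : Type*} [Group G] {γ : ℕ → G} (h0 : γ 0 = 1) (hr : ∀ t ∈ relL0, t.ev γ = 1) {K : Subgroup G}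
    (hK : ∀ t ∈ ([] : List W), t.ev γ ∈ K) :
    K.relIndex (genW γ [.l 1, .l 2, .l 5, .l 6, .l 7]) ≠ 0 ∧ K.relIndex (genW γ [.l 1, .l 2, .l 5, .l 6, .l 7]) ≤ 48 := by
  have a := lab_of_rels h0 hr (iv := tcL0_iv) (labs := tcL0_labs) (by decide +kernel)
  have b := tcL0_index a.1 a.2 (mems_fix (by decide +kernel) hK)
  rwa [genW_fix (by decide +kernel)] at b

theorem tcL0_tb : TB relL0 [.l 1, .l 2, .l 5, .l 6, .l 7] 48 := fun _ _ _ h0 hr =>
  card_le_of_relIndex (N := 1) bot_le (tcL0_idx h0 hr nil_all) card_bot_le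

/-- relators for `c`, `d` -/
def relF : List W := [.mul (.l 3) (.l 3), .pow (.mul (.l 3) (.l 6)) 3, .mul (.mul (.mul (.l 3) (.l 1)) (.inv (.l 3))) (.inv (.l 1)), .mul (.mul (.mul (.l 3) (.l 2)) (.inv (.l 3))) (.inv (.mul (.l 2) (.l 5))), .mul (.mul (.mul (.l 3) (.l 7)) (.inv (.l 3))) (.inv (.l 7)), .mul (.mul (.mul (.l 3) (.l 5)) (.inv (.l 3))) (.inv (.l 5)), .mul (.mul (.mul (.l 6) (.l 3)) (.inv (.l 6))) (.inv (.l 4))]

/-- relators of the centraliser -/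
def relM : List W := relL0 ++ relF

/-- inverse letters -/
def tcM4_iv : ℕ := 215754637150240

/-- inverse letters -/
def tcM4_labs : List W := [.l 0, .l 1, .l 2, .l 3, .l 4, .l 5, .l 6, .l 7, .inv (.l 4), .inv (.l 6)]

def tcM4_F : Tr := .leaf (nat_lit 0x314b3a3b4a332b2b41231a1b13130b0b030424411a1c14143a3c2c2c0c0c4a3422400a0a2a2a121232491111292939390909383848302828101008084c314321422019180000)
def tcM4_T : Tr := .leaf (nat_lit 18056)
def tcM4_P : Tr := .leaf (nat_lit 0x3fe003fe003fe003fe003fe003fe003fed0400015345a00048d1380010b456d40007da320001b68c400061a2f6a0002cd14b5000134ec04078061012c530030808044019d0000b1054d8900204105ce800050832240081441b120040620e8000491067401840f1c367402010e193a00c0a70a9d006030440280208021a3c180106821e0c0083c113060041c085830020c)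
def tcM4_N_0 : Tr := .node (.node (.node (.node (.leaf (nat_lit 66625))
  (.leaf (nat_lit 294)))
  (.leaf (nat_lit 271462)))
  (.node (.node (.leaf (nat_lit 171175))
  (.leaf (nat_lit 4104)))
  (.leaf (nat_lit 99))))
  (.node (.node (.node (.leaf (nat_lit 1123398))
  (.leaf (nat_lit 231)))
  (.leaf (nat_lit 66)))
  (.node (.node (.leaf (nat_lit 35875))
  (.leaf (nat_lit 0)))
  (.leaf (nat_lit 8196))))
def tcM4_N_1 : Tr := .node (.node (.node (.node (.leaf (nat_lit 166050))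
  (.leaf (nat_lit 9222)))
  (.leaf (nat_lit 33)))
  (.node (.node (.leaf (nat_lit 203975))
  (.leaf (nat_lit 201)))
  (.leaf (nat_lit 260))))
  (.node (.node (.node (.leaf (nat_lit 39975))
  (.leaf (nat_lit 136)))
  (.leaf (nat_lit 2050)))
  (.node (.leaf (nat_lit 232675))
  (.leaf (nat_lit 165))))
def tcM4_N_2 : Tr := .node (.node (.node (.node (.leaf (nat_lit 165025))
  (.leaf (nat_lit 294)))
  (.leaf (nat_lit 33)))
  (.node (.node (.leaf (nat_lit 6342))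
  (.leaf (nat_lit 201)))
  (.leaf (nat_lit 3075))))
  (.node (.node (.node (.leaf (nat_lit 173222))
  (.leaf (nat_lit 7175)))
  (.leaf (nat_lit 66)))
  (.node (.node (.leaf (nat_lit 2264131))
  (.leaf (nat_lit 0)))
  (.leaf (nat_lit 165))))
def tcM4_N_3 : Tr := .node (.node (.node (.node (.leaf (nat_lit 74790))
  (.leaf (nat_lit 231)))
  (.leaf (nat_lit 1025)))
  (.node (.node (.leaf (nat_lit 204672195))
  (.leaf (nat_lit 6153)))
  (.leaf (nat_lit 260))))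
  (.node (.node (.node (.leaf (nat_lit 1121351))
  (.leaf (nat_lit 136)))
  (.leaf (nat_lit 99)))
  (.node (.leaf (nat_lit 167075))
  (.leaf (nat_lit 5125))))
def tcM4_N : Tr := .node (.node tcM4_N_0
  tcM4_N_1)
  (.node tcM4_N_2
  tcM4_N_3)
noncomputable def tcM4 : TC :=
  ⟨[.l 0, .l 1, .l 2, .l 3, .l 4, .l 5, .l 6, .l 7, .l 8, .l 9],
    (nat_lit 3), (nat_lit 7), (nat_lit 215754637150240), (nat_lit 231), (nat_lit 5), (nat_lit 5), (nat_lit 32), (nat_lit 1), (nat_lit 46),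
    get (nat_lit 10) (nat_lit 0x1003010030080400c02010030080400c02010030080400c02010030080400c02010030080401004014040180400c0401404010050100401004), Tr.get tcM4_N, get (nat_lit 20) (nat_lit 0x3ff003ff003ff003ff003ff003ff003ff003ff003ff003ff003ff003ff003ff003ff003ff003ff003ff003ff003ff003ff003ff003ff003ff003ff003ff003ff003ff003ff003ff0001500014000130001200011000100000e0000c0000b0000a00009000080000700006000050000400003),
    Tr.get3 tcM4_F (nat_lit 16) (nat_lit 5), Tr.get3 tcM4_T (nat_lit 3) (nat_lit 8), Tr.get tcM4_P⟩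

theorem tcM4_head : tcM4.headOK relM tcM4_iv = true := by decide +kernel

theorem tcM4_b0 : allFrom (nat_lit 0) (nat_lit 1) tcM4.blockOK = true := by decide +kernel

def tcM4_Q7 : Tr := .leaf (nat_lit 139512594)
theorem tcM4_f7_0 : allFrom (nat_lit 0) (nat_lit 4) (tcM4.finOK (nat_lit 4) (Tr.get3 tcM4_Q7 (nat_lit 7) (nat_lit 7)) (nat_lit 7)) = true := by
  decide +kernel

def tcM4_Q6 : Tr := .leaf (nat_lit 134701712)
theorem tcM4_f6_0 : allFrom (nat_lit 0) (nat_lit 4) (tcM4.finOK (nat_lit 4) (Tr.get3 tcM4_Q6 (nat_lit 7) (nat_lit 7)) (nat_lit 6)) = true := by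
  decide +kernel

def tcM4_Q5 : Tr := .leaf (nat_lit 16385550)
theorem tcM4_f5_0 : allFrom (nat_lit 0) (nat_lit 4) (tcM4.finOK (nat_lit 4) (Tr.get3 tcM4_Q5 (nat_lit 6) (nat_lit 7)) (nat_lit 5)) = true := by
  decide +kernel

def tcM4_Q4 : Tr := .leaf (nat_lit 15880580)
theorem tcM4_f4_0 : allFrom (nat_lit 0) (nat_lit 4) (tcM4.finOK (nat_lit 4) (Tr.get3 tcM4_Q4 (nat_lit 6) (nat_lit 7)) (nat_lit 4)) = true := by
  decide +kernel

def tcM4_Q3 : Tr := .leaf (nat_lit 15446210)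
theorem tcM4_f3_0 : allFrom (nat_lit 0) (nat_lit 4) (tcM4.finOK (nat_lit 4) (Tr.get3 tcM4_Q3 (nat_lit 6) (nat_lit 7)) (nat_lit 3)) = true := by
  decide +kernel

def tcM4_Q2 : Tr := .leaf (nat_lit 14804620)
theorem tcM4_f2_0 : allFrom (nat_lit 0) (nat_lit 4) (tcM4.finOK (nat_lit 4) (Tr.get3 tcM4_Q2 (nat_lit 6) (nat_lit 7)) (nat_lit 2)) = true := by
  decide +kernel

def tcM4_Q1 : Tr := .leaf (nat_lit 14296330)
theorem tcM4_f1_0 : allFrom (nat_lit 0) (nat_lit 4) (tcM4.finOK (nat_lit 4) (Tr.get3 tcM4_Q1 (nat_lit 6) (nat_lit 7)) (nat_lit 1)) = true := by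
  decide +kernel

theorem tcM4_blocks : ∀ t < tcM4.k, tcM4.blockOK t = true :=
  (of_allFrom_append of_lt_zero tcM4_b0)

/-- index 4 max 5 total 5 facts 35 | needed cosets 5 facts 35 steps 75 trivial 8 -/
theorem tcM4_index {G : Type*} [Group G] {γ : ℕ → G} (hL : Lab γ tcM4_iv) (hr : ∀ t ∈ relM, t.ev γ = 1) {K : Subgroup G}
    (hK : ∀ t ∈ ([.l 1, .l 2, .l 5, .l 6, .l 7] : List W), t.ev γ ∈ K) :
    K.relIndex (genW γ [.l 1, .l 2, .l 3, .l 4, .l 5, .l 6, .l 7]) ≠ 0 ∧ K.relIndex (genW γ [.l 1, .l 2, .l 3, .l 4, .l 5, .l 6, .l 7]) ≤ 4 :=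
  TC.relIndex_le (D := tcM4) (gens := [1, 2, 3, 4, 5, 6, 7]) hL (List.forall_mem_cons.2 ⟨hL.zero_mem K, hK⟩) hr tcM4_head tcM4_blocks (by decide) (by decide)
   (List.forall_mem_cons.2 ⟨⟨_, (of_allFrom_append of_lt_zero tcM4_f1_0)⟩,
    List.forall_mem_cons.2 ⟨⟨_, (of_allFrom_append of_lt_zero tcM4_f2_0)⟩,
    List.forall_mem_cons.2 ⟨⟨_, (of_allFrom_append of_lt_zero tcM4_f3_0)⟩,
    List.forall_mem_cons.2 ⟨⟨_, (of_allFrom_append of_lt_zero tcM4_f4_0)⟩,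
    List.forall_mem_cons.2 ⟨⟨_, (of_allFrom_append of_lt_zero tcM4_f5_0)⟩,
    List.forall_mem_cons.2 ⟨⟨_, (of_allFrom_append of_lt_zero tcM4_f6_0)⟩,
    List.forall_mem_cons.2 ⟨⟨_, (of_allFrom_append of_lt_zero tcM4_f7_0)⟩,
    fun _ h => absurd h List.not_mem_nil⟩⟩⟩⟩⟩⟩⟩)

theorem tcM4_idx {G : Type*} [Group G] {γ : ℕ → G} (h0 : γ 0 = 1) (hr : ∀ t ∈ relM, t.ev γ = 1) {K : Subgroup G}
    (hK : ∀ t ∈ ([.l 1, .l 2, .l 5, .l 6, .l 7] : List W), t.ev γ ∈ K) :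
    K.relIndex (genW γ [.l 1, .l 2, .l 3, .l 4, .l 5, .l 6, .l 7]) ≠ 0 ∧ K.relIndex (genW γ [.l 1, .l 2, .l 3, .l 4, .l 5, .l 6, .l 7]) ≤ 4 := by
  have a := lab_of_rels h0 hr (iv := tcM4_iv) (labs := tcM4_labs) (by decide +kernel)
  have b := tcM4_index a.1 a.2 (mems_fix (by decide +kernel) hK)
  rwa [genW_fix (by decide +kernel)] at b

theorem tcM_tb : TB relM [.l 1, .l 2, .l 3, .l 4, .l 5, .l 6, .l 7] 192 := fun _ _ δ h0 hr =>
  card_le_of_relIndex (m := 4) (N := 48) (ov_le h0) (tcM4_idx h0 hr fun _ => mem_genW δ)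
    (tcL0_tb _ δ h0 (List.forall_mem_append.1 hr).1)

end Cfsg.Lib.Loc3
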