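import Cfsg.Agent.Lib.Loc3.U6G

/-! Quaternion subgroups and signalizers in the centraliser of `t` (helper8). -/

set_option autoImplicit false

namespace Cfsg.Lib.U63

open Subgroup Matrix Cfsg.Lib.BG Cfsg.Lib.Transfer Cfsg.Lib.OddChar Cfsg.Lib.T3 Cfsg.Lib.IA Cfsg.Lib.Loc3 Cfsg.Lib.F43
open scoped Cfsg.Lib.Transfer

variable {G : Type*} [Group G] {A B F L P Q R U X : Subgroup G} {a b c d e f g j k n r s t u v w x y z : G}

/-- the quaternion group attached to `x` -/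
def Ex (t x : G) : Subgroup G := 𝐎({3}ᶜ, 𝐂[x] ⊓ 𝐂[t])

theorem Ex_conj (o : g * t = t * g) (x : G) : g ⋆ Ex t x = Ex t (g * x * g⁻¹) := by
  rw [Ex, conj_pcore, conj_inf, conj_cent1, conj_cent1, cj_of o, Ex]
theorem Ex_inv (t x : G) : Ex t x⁻¹ = Ex t x := by rw [Ex, cent1_inv, Ex]
theorem Ex_cj (o : g * t = t * g) (p : g * x * g⁻¹ = y) (m : e ∈ Ex t x) : g * e * g⁻¹ ∈ Ex t y :=
  p ▸ Ex_conj o x ▸ conj_mem_conj.2 m
theorem Ex_x (m : e ∈ Ex t x) : e * x = x * e := cms (pcore_le _ _ m).1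
theorem Ex_t (m : e ∈ Ex t x) : e * t = t * e := cms (pcore_le _ _ m).2
theorem Ex_n (o : g * t = t * g) (p : g * x = x * g) (m : e ∈ Ex t x) : g * e * g⁻¹ ∈ Ex t x := Ex_cj o (cj_of p) m

theorem s3_q : ∀ g : S3, g ^ 3 = 1 → g ≠ 1 → ∀ m : S3, m * m = 1 → m ≠ 1 → ∃ q : S3, q ^ 4 = 1 ∧ q * q = m ∧
    g * q * g⁻¹ * (g * q * g⁻¹) = m ∧ g * q * g⁻¹ * q = q * (g * q * g⁻¹) * m ∧ g * (g * q * g⁻¹) * g⁻¹ = q * (g * q * g⁻¹) ∧
    ∀ k : S3, k ^ 4 = 1 → ∃ i j l : ZMod 2, k = q ^ i.val * (g * q * g⁻¹) ^ j.val * m ^ l.val := by decide +kernel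

theorem s3_top : ∀ g : S3, g ^ 3 = 1 → g ≠ 1 → ∀ k : S3, ∃ q : S3, q ^ 4 = 1 ∧ ∃ i : Fin 3, k = q * g ^ i.1 := by decide +kernel

namespace AD

variable (h : AD z r t P Q R)
include h

theorem PK (m : x ∈ P ⊔ Q) (o : x * t = t * x) : x ∈ P := by
  obtain ⟨u, p, v, q, rfl⟩ := h.dec m
  exact mul_mem p (h.e1.zle (h.sy.Pr_z q (mul_left_cancel (a := u) (by rw [← mul_assoc, h.tP u p, mul_assoc, ← o, mul_assoc]))))

variable [Finite G]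

theorem hK (m : n * z = z * n) (e : n * t = t * n) : n ∈ H0 P Q z := hs (h.sy.h0_r (mcs m) e)

theorem p4 (p : PiGrp {3}ᶜ F) (m : f ∈ F) (o : f ∈ H0 P Q z) : f ^ 4 = 1 :=
  have := Fact.mk Nat.prime_three
  pow4 p m (mem_bot.1 (disjoint_of_coprime (p.coprime_pgroup h.es.pg) ▸ mem_inf.2 ⟨pow_mem m 12, h.ker2 (pow_mem o 12)
    (by rw [h.D.ρ_pow (hl o), s3_12]) (by rw [h.E.ρ_pow (hh o), s3_12])⟩))

theorem injR (m : x ∈ R) (o : x ∈ 𝐂(P)) (e : h.E.ρ x = 1) : x = 1 := h.RQ m (h.ker2 (h.hR m) (h.D.ρ_cen h.e1 o) e)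

theorem R4' (m : x ∈ R) (o : x ∈ 𝐂(P)) : x ^ 4 = 1 :=
  h.injR (pow_mem m 4) (pow_mem o 4) (by rw [h.E.ρ_pow (hh (h.hR m))]; exact h.sy.R4 m)

theorem memR (m : n ∈ 𝐂(P)) (o : n * t = t * n) (e : n ^ 4 = 1) : n ∈ R := by
  have i := h.hK (cms (h.e1.nz m).2) o
  obtain ⟨x, p, q, f⟩ := h.sy.exq (q := h.E.ρ n) (show _ ^ 4 = 1 by rw [← h.E.ρ_pow (hh i), e, h.E.ρ_one])
  have l := h.hR (inv_mem p)
  have k := h.cen (mem_inf.2 ⟨mul_mem (inv_mem q) m, h.sy.cenP (hs (mul_mem l i)) (by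
    change h.E.ρ _ = _ at f ⊢
    rw [h.E.ρ_mul (hh l) (hh i), h.E.ρ_inv (hh (h.hR p)), f, inv_mul_cancel]) (by cg [o, cms (h.tc p)])⟩)
  have := one43 (a := x⁻¹ * n) (by
    have := Commute.mul_pow (h.zcc k (h.hR p)) 4
    rwa [mul_inv_cancel_left, e, h.R4' p q, one_mul, eq_comm] at this) (cube_z h.z3 k)
  exact inv_mul_eq_one.1 this ▸ p

theorem memEx : e ∈ Ex t z ↔ e ∈ R ∧ e ∈ 𝐂(P) := by
  have := Fact.mk Nat.prime_three
  refine ⟨fun m => ?_, fun m => pcore_max (K := R ⊓ 𝐂(P)) (PiGrp.of_le (K := R) (PiGrp.p'_iff.2 (by rw [h.cR]; decide)) inf_le_left)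
    ⟨fun x o => mem_inf.2 ⟨h.Rz o.1, h.tc o.1⟩, fun n o => mem_normalizer_fintype fun x p => ?_⟩ m⟩
  · have k : e ∈ 𝐂(P) := fun x o => (cen3 (pcore_pi _ _) (h.QP o) m (mcs (Ex_x m)) ((pcore_nml _ _).norm
      (mem_inf.2 ⟨h.e1.cz o, mcs (h.tP x o)⟩))).symm
    exact ⟨h.memR k (Ex_t m) (h.p4 (pcore_pi _ _) m (h.hK (Ex_x m) (Ex_t m))), k⟩
  · have k := conj_mem_of_norm (norm_cent le_rfl (hn (h.hK (cms o.1) (cms o.2)))) p.2
    exact ⟨h.memR k (by cg [cms o.2, cms (h.tc p.1)]) (by rw [conj_pow, h.R4' p.1 p.2]; group), k⟩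

theorem hE (m : e ∈ Ex t z) : e ∈ H0 P Q z := h.hR (h.memEx.1 m).1
theorem E4 (m : e ∈ Ex t z) : e ^ 4 = 1 := h.R4' (h.memEx.1 m).1 (h.memEx.1 m).2
theorem tE : t ∈ Ex t z := h.memEx.2 ⟨h.tR, h.tP⟩

theorem injE (m : e ∈ Ex t z) (o : f ∈ Ex t z) (p : h.E.ρ e = h.E.ρ f) : e = f :=
  have k := h.memEx.1 (mul_mem m (inv_mem o))
  mul_inv_eq_one.1 (h.injR k.1 k.2 (by rw [h.E.ρ_mul (hh (h.hE m)) (hh (h.hE (inv_mem o))), h.E.ρ_inv (hh (h.hE o)), p, mul_inv_cancel]))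

theorem exE {q : S3} (m : q ^ 4 = 1) : ∃ e ∈ Ex t z, h.E.ρ e = q := let ⟨x, p, o, f⟩ := h.sy.exq m; ⟨x, h.memEx.2 ⟨p, o⟩, f⟩

theorem cenE (p : n * z = z * n) (q : n * t = t * n) (o : ∀ k, h.E.ρ n * k = k * h.E.ρ n) (m : e ∈ Ex t z) : n * e = e * n :=
  mul_inv_eq_iff_eq_mul.1 (h.injE (Ex_n q p m) m (by rw [h.E.ρ_cj (hh (h.hK p q)) (hh (h.hE m)), o, mul_inv_cancel_right]))

theorem cenE2 (p : n * z = z * n) (q : n * t = t * n) (o : n * n = 1) (m : e ∈ Ex t z) : n * e = e * n :=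
  h.cenE p q (s3_cen _ (by rw [← h.E.ρ_mul (hh (h.hK p q)) (hh (h.hK p q)), o, h.E.ρ_one])) m

theorem cenQ (p : n * z = z * n) (q : n * t = t * n) (o : n ^ 3 = 1) (m : ∀ e ∈ Ex t z, n * e = e * n) : n ∈ 𝐂(Q) := by
  have i := h.hK p q
  refine h.sy.cenP (hs i) (s3_core _ (fun k l => ?_) (h.E.ρ_three (n := 1) (hh i) o)) q.symm
  obtain ⟨e, p, rfl⟩ := h.exE l
  change (_ * h.E.ρ n * _ * (h.E.ρ n)⁻¹) ^ 3 = 1
  rw [← h.E.ρ_cm (hh (h.hE p)) (hh i), ← m e p, mul_inv_cancel_right, mul_inv_cancel, h.E.ρ_one, one_pow]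

end AD

/-- the centraliser of `t` in `J` -/
def Jt (z b d t : G) : Subgroup G := JJ z b d ⊓ 𝐂[t]

/-- the subgroup `T` -/
def TT (z b d s : G) (Q : Subgroup G) : Subgroup G := JJ z b d ⊓ 𝐂(Q) ⊓ s⁻¹ ⋆ 𝐂(Q)

theorem mem_TT : j ∈ TT z b d s Q ↔ j ∈ JJ z b d ∧ j ∈ 𝐂(Q) ∧ s * j * s⁻¹ ∈ 𝐂(Q) := by
  rw [TT, mem_inf, mem_inf, mem_conj, inv_inv, and_assoc]

namespace B0

variable [Finite G] (h : B0 z r t y a b c d P Q R)
include h

theorem type1 (p : PiGrp {3}ᶜ F) (m : f ∈ F) (o : b ∈ 𝐍(F)) (q : f * z = z * f) (e : f * t = t * f) : f ∈ Ex t z := by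
  have i := h.hK q e
  have k := h.p4 p m i
  have l := h.D.cen_of h.e1 (n := 2) (hl i) (one43 (by rw [← h.D.ρ_pow (hl i), k, h.D.ρ_one]) (s3_cube _ _ (h.D.π_ne h.u.mb h.u.nb)
    (h.D.fix (hl i) h.u.mb (cen3 p (h.QP h.u.mb) m (mcs q) o)))) k
  exact h.memEx.2 ⟨h.memR l e k, l⟩

theorem yQ (m : y ∈ 𝐂(Q)) : False := h.sy.noT h.p (h.E.ρ_cen h.e2 m)

theorem JQt (m : j ∈ JJ z b d) (o : j ∈ 𝐂(Q)) : j * t = t * j := by
  have k := h.sy.cmJ (jsy m)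
  rcases z3c h.sy.b3 k with f | f | f
  · exact (mul_inv_eq_iff_eq_mul.1 (mul_inv_eq_one.1 f)).symm
  all_goals
    have := mul_mem (conj_mem_of_norm (norm_cent le_rfl (hn (hs h.ht))) o) (inv_mem o)
    rw [f] at this
    exact absurd (h.e2.cen (mem_inf.2 ⟨h.v.mb, by simpa only [inv_mem_iff] using this⟩)) h.v.nb

theorem tN : t ∈ 𝐍(JJ z b d) := mem_normalizer_fintype fun _ m =>
  (mul_mem_cancel_right (inv_mem m)).1 (zpowers_le.2 h.dJ (h.sy.cmJ (jsy m)))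

theorem Jor (p : n * z = z * n) (q : n * y = y * n) (o : n * b = b * n) : n ∈ JJ z b d ∨ t * n ∈ JJ z b d := by
  rcases z3c h.sy.b3 (h.sy.nb (hs (h.h0_b (mcs p) h.u.mb h.u.nb (by rw [cj_of o]; exact h.u.mb))) q) with f | f | f
  · exact absurd (conj_eq_one_iff.1 f) h.sy.b1
  · exact .inl (jmk p o (mul_inv_eq_iff_eq_mul.1 f))
  · exact .inr (jmk (by cg [p, h.sy.rz]) (by cg [o, h.sy.rd]) (mul_inv_eq_iff_eq_mul.1 (by rw [← cjcj, f, ← conj_inv, h.v.ib, inv_inv])))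

end B0

theorem phzy (z y b d : G) : z * y = ph z y b d ![1, 1, 0, 0] := show _ = z ^ 1 * y ^ 1 * b ^ 0 * d ^ 0 by group

/-- the singular vectors fixed by `t` -/
def xv : Fin 4 → V4 := ![![1, 0, 0, 0], ![0, 1, 0, 0], ![1, 1, 1, 0], ![1, 1, 2, 0]]
/-- conjugating elements -/
def gs (r a s : G) : Fin 4 → G := ![1, s, a * s, r * (a * s)]
/-- the extraspecial group -/
def EE (z y b d t : G) : Subgroup G := Ex t z ⊔ Ex t y ⊔ Ex t (ph z y b d (xv 2)) ⊔ Ex t (ph z y b d (xv 3))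

theorem leE (i : Fin 4) : Ex t (ph z y b d (xv i)) ≤ EE z y b d t := by
  fin_cases i
  exacts [(congrArg _ phz).trans_le (le_sup_of_le_left (le_sup_of_le_left le_sup_left)),
    (congrArg _ phy).trans_le (le_sup_of_le_left (le_sup_of_le_left le_sup_right)), le_sup_of_le_left le_sup_right, le_sup_right]

theorem EE_le (h : ∀ i, Ex t (ph z y b d (xv i)) ≤ X) : EE z y b d t ≤ X :=
  sup_le (sup_le (sup_le ((congrArg _ phz).ge.trans (h 0)) ((congrArg _ phy).ge.trans (h 1))) (h 2)) (h 3)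

theorem Et (m : e ∈ EE z y b d t) : e * t = t * e := cms (EE_le (X := 𝐂[t]) (fun _ _ m => mcs (Ex_t m)) m)

theorem sv_t : ∀ p, Sv p → ft p = p → ∃ i, p = xv i ∨ p = -xv i := by decide +kernel

theorem xv_3 : ∀ i, xv i 3 = 0 := by decide

theorem xv_hyp : ∀ α β γ : ZMod 3, (∀ i, ¬ ((xv i 0).val * α + (xv i 1).val * β + (xv i 2).val * γ = 0)) →
    α = β ∧ γ = 0 ∨ (α = (1 : ℕ) * α + (1 : ℕ) * β + (1 : ℕ) * γ ∧ (2 : ℕ) * α + (0 : ℕ) * β + (1 : ℕ) * γ = 0) ∨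
      α = (1 : ℕ) * α + (1 : ℕ) * β + (2 : ℕ) * γ ∧ (2 : ℕ) * α + (0 : ℕ) * β + (2 : ℕ) * γ = 0 := by decide

theorem sv_T : ∀ p, Sv p → fc p = p → fc (fs (p - ![1, 0, 0, 0])) = fs (p - ![1, 0, 0, 0]) → p = ![1, 0, 0, 0] := by decide +kernel

theorem sv_B : ∀ p, Sv p → Sv (p - ![1, 0, 0, 0] + ![0, 1, 0, 0]) → Sv (p + ![0, 0, 1, 0] + (p - ![1, 0, 0, 0] + ![0, 1, 0, 0])) →
    p = ![1, 0, 0, 0] ∨ p = -![0, 1, 0, 0] := by decide +kernel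

namespace B1

variable (h : B1 z r t y a b c d s P Q R)
include h

theorem sy' : s * y * s⁻¹ = z := by rw [← h.sz, cj_cj h.s2]

variable [Finite G]

theorem sN : s ∈ 𝐍(JJ z b d) := mem_normalizer_fintype fun _ m =>
  (mul_mem_cancel_right (inv_mem m)).1 (zpowers_le.2 (mul_mem h.zJ (inv_mem h.yJ)) (h.sJ _ m))

theorem act_s (p : V4) : s * ph z y b d p * s⁻¹ = ph z y b d (fs p) :=
  h.act (φ := fs) (h.sz.trans phy.symm) (h.sy'.trans phz.symm) ((cj_of h.sb).trans phb.symm) ((cj_of h.sd).trans phd.symm) (p := p)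

theorem sr : s * r = r * s := by
  have m : s * r * s * r ∈ JJ z b d := by
    refine jmk ?_ ?_ ?_ <;> refine mul_inv_eq_iff_eq_mul.1 ?_ <;> rw [← cjcj, ← cjcj, ← cjcj]
    · rw [cj_of h.rz, h.sz, cj_of h.u.ry, h.sy']
    · rw [h.u.ib, ← conj_inv, cj_of h.sb, ← conj_inv, h.u.ib, inv_inv, cj_of h.sb]
    · rw [cj_of h.rd, cj_of h.sd, cj_of h.rd, cj_of h.sd]
  have e : r * (s * r * s * r) * r⁻¹ = (s * r * s * r)⁻¹ := by
    simp only [_root_.mul_inv_rev, inv_sq h.s2, inv_sq h.r2, mul_assoc, h.r2, mul_one]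
  have k := h.cmJ m
  rw [e] at k
  have := zcj (inv_mem_iff.1 (sqm (inv_cube (h.J3 m)) k)) (mcs h.sb)
  have := one23 (a := s * r * s * r) (by
    nth_rw 1 [← this]
    simp only [inv_sq h.s2, mul_assoc, ← mul_assoc s s, ← mul_assoc r r, h.r2, h.s2, one_mul]) (h.J3 m)
  rw [mul_assoc, mul_eq_one_iff_eq_inv, _root_.mul_inv_rev, inv_sq h.s2, inv_sq h.r2] at this
  exact this

theorem TJ : TT z b d s Q ≤ JJ z b d := fun _ m => (mem_TT.1 m).1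
theorem Tt (m : j ∈ TT z b d s Q) : j * t = t * j := h.JQt (h.TJ m) (mem_TT.1 m).2.1
theorem bT : b ∈ TT z b d s Q := mem_TT.2 ⟨h.bJ, h.cm h.u.mb, by rw [cj_of h.sb]; exact h.cm h.u.mb⟩
theorem JT : JJ z b d ≤ 𝐂(TT z b d s Q) := fun _ m _ o => h.Jab (h.TJ o) m

theorem zT (m : e ∈ zpowers z) (o : e ∈ TT z b d s Q) : e = 1 := by
  have := (mem_TT.1 o).2.2
  rcases z3c h.z3 m with f | rfl | rfl
  exacts [f, (h.yQ (h.sz ▸ this)).elim, (h.yQ (inv_mem_iff.1 (by rwa [← conj_inv, h.sz] at this))).elim]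

theorem QT (m : e ∈ Q) (o : e ∈ TT z b d s Q) : e = 1 := h.zT (h.e2.cen ⟨m, (mem_TT.1 o).2.1⟩) o

theorem sT (m : j ∈ TT z b d s Q) : s * j = j * s := by
  obtain ⟨p, q, o⟩ := mem_TT.1 m
  have k := mul_mem o (inv_mem q)
  have z1 := h.cm h.e1.zP
  rcases z3c (h.J3 (mul_mem h.zJ (inv_mem h.yJ))) (h.sJ j p) with f | f | f
  · exact mul_inv_eq_iff_eq_mul.1 (mul_inv_eq_one.1 f)
  all_goals rw [f] at k
  exacts [(h.yQ (inv_mem_iff.1 ((mul_mem_cancel_left z1).1 k))).elim, (h.yQ (inv_mem_iff.1 ((mul_mem_cancel_left z1).1 (inv_mem_iff.1 k)))).elim]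

theorem TE (m : j ∈ TT z b d s Q) (o : e ∈ Ex t z) : j * e = e * j :=
  h.cenE (jz (h.TJ m)) (h.Tt m) (fun k => by rw [h.E.ρ_cen h.e2 (mem_TT.1 m).2.1, one_mul, mul_one]) o

theorem TE' (m : j ∈ TT z b d s Q) (o : e ∈ Ex t y) : j * e = e * j := by
  simpa only [cj_of (h.sT m), cj_cj h.s2] using cj_comm (k := s) (h.TE m (Ex_cj h.ts.symm h.sy' o))

theorem J1 (m : j ∈ JJ z b d) (o : j ∈ 𝐂(Q)) : ∃ e ∈ zpowers z, e * j ∈ TT z b d s Q := by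
  have i := conj_mem_of_norm h.sN m
  have k : ∀ e ∈ zpowers z, h.E.ρ (s * e * s⁻¹) * h.E.ρ (s * j * s⁻¹) = 1 → ∃ e ∈ zpowers z, e * j ∈ TT z b d s Q := fun e p q => by
    have l := mul_mem (h.ZJ p) m
    have l' := conj_mem_of_norm h.sN (h.ZJ p)
    refine ⟨e, p, mem_TT.2 ⟨l, mul_mem (h.cm (h.e1.zle p)) o, h.sy.cenP (hs (h.hJ (conj_mem_of_norm h.sN l))) ?_ (by
      cg [h.ts.symm, h.JQt m o, (h.zcc p h.ht).symm])⟩⟩
    rw [← conj_mul]; exact (h.E.ρ_mul (hh (h.hJ l')) (hh (h.hJ i))).trans q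
  rcases h.sy.ρJ (jsy i) with f | f | f <;> change h.E.ρ _ = _ at f
  · exact k 1 (one_mem _) (by rw [f, mul_one, mul_one, mul_inv_cancel, h.E.ρ_one])
  · exact k _ (inv_mem (mem_zpowers z)) (by rw [f, ← conj_inv, h.sz, h.E.ρ_inv (hh h.hy)]; exact inv_mul_cancel _)
  · exact k _ (mem_zpowers z) (by rw [f, h.sz]; exact mul_inv_cancel _)

theorem sgT (m : j ∈ TT z b d s Q) (e : Sg z (z * j)) : j = 1 := by
  obtain ⟨p, o, f⟩ := h.SJ (mul_mem h.zJ (h.TJ m)) e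
  have k : j = ph z y b d (p - ![1, 0, 0, 0]) := by rw [sub_eq_neg_add, h.ph_add, h.ph_neg, phz, ← f, inv_mul_cancel_left]
  obtain rfl := sv_T p o (h.ph_ext (by rw [← h.act_c, ← f]; cg [h.sy.az, (mem_TT.1 m).2.1 c h.v.ma])) (h.ph_ext (by
    rw [← h.act_c, ← h.act_s, ← k]; exact cj_of ((mem_TT.1 m).2.2 c h.v.ma)))
  rw [k, sub_self, ph0]

theorem cTA (m : n * z = z * n) (o : n ∈ 𝐂(TT z b d s Q)) : n ∈ H0 P Q z :=
  h.h0_b (mcs m) h.u.mb h.u.nb (by rw [cj_of (o b h.bT).symm]; exact h.u.mb)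

theorem QC : Q ≤ 𝐂(TT z b d s Q) := cent_symm fun _ m => (mem_TT.1 m).2.1

theorem kerT (m : n * z = z * n) (o : n ∈ 𝐂(TT z b d s Q)) (p : n ∈ 𝐂(Q)) : ∃ e ∈ zpowers z, e * n ∈ TT z b d s Q :=
  h.J1 (jmk m (o b h.bT).symm (p d h.v.mb).symm) p

theorem cardT : Nat.card ↥(𝐂[z] ⊓ 𝐂(TT z b d s Q)) = 648 * Nat.card (TT z b d s Q) ∧
    Nat.card (JJ z b d) = 27 * Nat.card (TT z b d s Q) := by
  have i : ∀ {A}, A ⊓ TT z b d s Q ≤ Q → A ⊓ TT z b d s Q = ⊥ := fun l => eq_bot_iff.2 fun x m => h.QT (l m) m.2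
  have K : ∀ {n}, n * z = z * n → n ∈ 𝐂(TT z b d s Q) → n ∈ h.E.K → ∃ x ∈ Q, ∃ u ∈ TT z b d s Q, x * u = n := fun m o p => by
    obtain ⟨x, q, l⟩ := h.E.ker (Hf.mem_K.1 p).1 (Hf.mem_K.1 p).2
    obtain ⟨e, p1, p2⟩ := h.kerT (by cg [m, cms (h.e2.cz q)]) (mul_mem (h.QC (inv_mem q)) o) l
    exact ⟨x * e⁻¹, mul_mem q (inv_mem (h.e2.zle p1)), _, p2, by group⟩
  have TK : TT z b d s Q ≤ h.E.K := fun x m => Hf.mem_K.2 ⟨hh (h.hJ (h.TJ m)), h.E.ρ_cen h.e2 (mem_TT.1 m).2.1⟩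
  have QK : Q ≤ h.E.K := fun x m => Hf.mem_K.2 ⟨hh (h.hQ m), h.E.ρ_mem h.e2 m⟩
  have y3 : h.E.ρ y ^ 3 = 1 := h.E.ρ_three (n := 1) (hh h.hy) h.y3
  constructor
  · have c1 := h.E.card (A := 𝐂[z] ⊓ 𝐂(TT z b d s Q)) fun _ m => hh (h.cTA (cms m.1) m.2)
    have c2 := Core.card_sup_mul_card_inf (norm_of_cent h.QC)
    rw [i inf_le_left, card_bot, h.c2] at c2
    rw [show 𝐂[z] ⊓ 𝐂(TT z b d s Q) ⊓ h.E.K = Q ⊔ TT z b d s Q from le_antisymm (fun x m => by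
      obtain ⟨u, p, v, q, rfl⟩ := K (cms m.1.1) m.1.2 m.2; exact mul_mem_sup p q) (sup_le (le_inf (le_inf h.e2.cz h.QC) QK)
        (le_inf (le_inf (fun _ m => mcs (jz (h.TJ m))) (h.TJ.trans h.JT)) TK)),
      show ((𝐂[z] ⊓ 𝐂(TT z b d s Q)).subgroupOf _).map h.E.ρh = ⊤ from eq_top_iff.2 fun k _ => by
      obtain ⟨q, p, i, rfl⟩ := s3_top _ y3 (h.sy.noT h.p) k
      obtain ⟨e, o, rfl⟩ := h.exE p
      exact ⟨⟨e * y ^ i.1, hh (mul_mem (h.hE o) (pow_mem h.hy _))⟩, mul_mem (s := 𝐂[z] ⊓ 𝐂(TT z b d s Q)) (mem_inf.2 ⟨mcs (Ex_x o),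
        fun j m => h.TE m o⟩) (pow_mem (mem_inf.2 ⟨mcs h.yz, h.JT h.yJ⟩) _), (h.E.ρ_mul (hh (h.hE o)) (hh (pow_mem h.hy _))).trans (by
          rw [h.E.ρ_pow (hh h.hy)])⟩, card_top, card_S3] at c1
    omega
  · have c1 := h.E.card (A := JJ z b d) fun _ m => hh (h.hJ m)
    have c2 := Core.card_sup_mul_card_inf (norm_of_cent (A := JJ z b d ⊓ Q) (inf_le_left.trans h.JT))
    have c3 := h.sy.nine (A := JJ z b d ⊓ Q) (le_inf (fun _ => h.ZJ) h.e2.zle) (pgroup_of_le h.pgJ inf_le_left) ⟨h.dJ, h.v.mb⟩ h.v.nb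
    have c4 := p3_lt (A := JJ z b d ⊓ Q) (lt_of_le_of_ne inf_le_right fun e => h.z1 (by
      simpa [cj_of (jd (e.ge h.v.ma).1)] using h.v.ab)) h.e2.pg
    rw [i (inf_le_left.trans inf_le_right), card_bot] at c2
    rw [show JJ z b d ⊓ h.E.K = JJ z b d ⊓ Q ⊔ TT z b d s Q from le_antisymm (fun x m => by
      obtain ⟨u, p, v, q, rfl⟩ := K (jz m.1) (h.JT m.1) m.2
      exact mul_mem_sup ⟨(mul_mem_cancel_right (h.TJ q)).1 m.1, p⟩ q) (sup_le (inf_le_inf_left _ QK) (le_inf h.TJ TK)),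
      show ((JJ z b d).subgroupOf _).map h.E.ρh = zpowers (h.E.ρ y) from le_antisymm (by
        rintro _ ⟨x, m, rfl⟩
        rcases h.sy.ρJ (jsy m) with f | f | f <;> change h.E.ρh x = _ at f <;> rw [f]
        exacts [one_mem _, mem_zpowers _, inv_mem (mem_zpowers _)]) (zpowers_le.2 ⟨⟨y, hh h.hy⟩, h.yJ, rfl⟩),
      card_z y3 (h.sy.noT h.p)] at c1
    rw [h.c2] at c4
    have : Nat.card ↥(JJ z b d ⊓ Q) = 9 := by omega
    rw [this] at c2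
    omega

theorem pgT : IsPGroup 3 (TT z b d s Q) := pgroup_of_le h.pgJ h.TJ

theorem pr : 𝐂(TT z b d s Q) ⊓ 𝐂[z * y⁻¹] ≤ 𝐍(JJ z b d) ∧ (∀ w ∈ 𝐂(TT z b d s Q), w * t = t * w → ∃ F, PiGrp {3}ᶜ F ∧ F ≤ 𝐂[t] ∧
    Jt z b d t ≤ 𝐍(F) ∧ ∃ f ∈ F, f ∈ 𝐂(TT z b d s Q) ∧ f⁻¹ * w ∈ 𝐍(JJ z b d)) ∧ ∀ e ∈ Ex t z, ∀ f ∈ Ex t y, e * f = f * e := by
  have := Fact.mk Nat.prime_three
  have TC := h.TJ.trans h.JT
  obtain ⟨Y, _, _, φ, q⟩ := exists_qm (Nml.of_cent le_rfl TC)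
  have zC := h.JT h.zJ
  have yC := h.JT h.yJ
  have tC : t ∈ 𝐂(TT z b d s Q) := fun _ => h.Tt
  have sC : s ∈ 𝐂(TT z b d s Q) := fun _ m => (h.sT m).symm
  have z1 : ∀ {e}, e ∈ zpowers z → φ e = 1 → e = 1 := fun m o => h.zT m ((q.ker (h.JT (h.ZJ m))).1 o)
  have zp : ∀ {e}, e ∈ zpowers z → φ e ∈ zpowers (φ z) := fun m => by
    rcases z3c h.z3 m with rfl | rfl | rfl
    exacts [q.one ▸ one_mem _, mem_zpowers _, q.inv zC ▸ inv_mem (mem_zpowers _)]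
  have z3 : φ z ^ 3 = 1 := by rw [← q.pow zC, h.z3, q.one]
  have hC : q.im (𝐂[z] ⊓ 𝐂(TT z b d s Q)) = 𝐂[φ z] := le_antisymm (q.fa fun x m o => mcs (q.comm o zC (cms m.1))) fun v m => by
    obtain ⟨x, o, rfl⟩ := q.sur v
    have k := q.cm o zC (cms m)
    have := h.sgT k ((Sg.refl z).of (g := x) (by rw [jz (h.TJ k) |>.symm, inv_mul_cancel_right]))
    exact q.mi (mem_inf.2 ⟨mcs (mul_inv_eq_iff_eq_mul.1 (mul_inv_eq_one.1 this)), o⟩) o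
  have X : X2 (q.im (𝐂[z] ⊓ 𝐂(TT z b d s Q))) (q.im Q) (q.im (JJ z b d)) (φ z) := by
    have c0 : 0 < Nat.card (TT z b d s Q) := Nat.card_pos
    have c1 := q.card h.QC
    have c2 := q.card (A := 𝐂[z] ⊓ 𝐂(TT z b d s Q)) inf_le_right
    have c3 := q.card h.JT
    rw [show Q ⊓ TT z b d s Q = ⊥ from eq_bot_iff.2 fun x m => h.QT m.1 m.2, card_bot, mul_one, h.c2] at c1
    rw [inf_eq_right.2 (le_inf (fun _ m => mcs (jz (h.TJ m))) TC), h.cardT.1] at c2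
    rw [inf_eq_right.2 h.TJ, h.cardT.2] at c3
    refine ⟨⟨q.fa fun x m o => q.mi (mem_inf.2 ⟨h.e2.cz m, o⟩) o, q.fa fun x m o => q.norm_im o (hn (hs (h.cTA (cms m.1) o)))⟩, c1,
      Nat.eq_of_mul_eq_mul_right c0 c2, le_antisymm (fun v m => ?_) (zpowers_le.2 (mem_inf.2 ⟨q.mi (mem_inf.2 ⟨mcs rfl, zC⟩) zC,
        q.fa fun x m o => q.comm o zC (cms (h.e2.cz m))⟩)), q.mi h.e2.zP zC, orderOf_eq_three z3 fun e => h.z1 (z1 (mem_zpowers z) e),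
      hC.le, q.fa fun x m o => q.mi (mem_inf.2 ⟨mcs (jz m), o⟩) o, Nat.eq_of_mul_eq_mul_right c0 c3,
      q.fa fun x m o => q.fa fun y m' o' => q.comm o o' (h.Jab m m'), q.fa fun x m o => by rw [← q.pow o, h.J3 m, q.one]⟩
    obtain ⟨x, o, p, rfl⟩ := q.mem_im.1 m.1
    obtain ⟨e, p1, p2⟩ := h.kerT (cms o.1) p fun u k => by
      have := h.QT (mul_mem (conj_mem_of_norm (hn (hs (h.cTA (cms o.1) p))) k) (inv_mem k)) (q.cm p (h.QC k) (m.2 _ (q.mi k (h.QC k))).symm)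
      exact (mul_inv_eq_iff_eq_mul.1 (mul_inv_eq_one.1 this)).symm
    have := (q.ker (TC p2)).2 p2
    rw [q.mul (h.JT (h.ZJ p1)) p, mul_eq_one_iff_inv_eq] at this
    exact this ▸ inv_mem (zp p1)
  have cC := h.QC h.v.ma
  obtain ⟨r1, ⟨F, r2, r3, r4⟩, r5⟩ := prg (y := φ y) X hC (q.sig h.pgT le_rfl h.JT h.sig) (by rw [← q.mul tC tC, h.t2, q.one])
    (fun e => h.sy.r1 (one23 h.t2 (h.J3 (h.TJ ((q.ker tC).1 e))))) (q.comm tC zC h.sy.rz) (q.norm_im tC h.tN) (q.comm yC tC h.v.ry.symm)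
    (fun m => by
      have k : ∀ {e}, e ∈ zpowers z → φ y = φ e → False := fun p o => h.yQ ((mul_mem_cancel_right (inv_mem (h.cm (h.e1.zle p)))).1
        (mem_TT.1 ((q.eq yC (h.JT (h.ZJ p))).1 o)).2.1)
      rcases z3c z3 m with f | f | f
      exacts [k (one_mem _) (f.trans q.one.symm), k (mem_zpowers _) f, k (inv_mem (mem_zpowers _)) (f.trans (q.inv zC).symm)])
    (q.norm_im sC h.sN) (by rw [← q.cj sC zC, h.sz]) (q.norm_im cC (h.QN (h.QQ h.v.ma))) (q.comm cC zC h.sy.az) (by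
      rw [← q.cj cC yC, ← q.cj cC (cjm cC yC), ← q.mul zC yC, ← q.mul (mul_mem zC yC) (cjm cC yC), ← q.mul (mul_mem (mul_mem zC yC)
        (cjm cC yC)) (cjm cC (cjm cC yC)), ← q.one, evy h.act_c, h.act_c, phzy z y b d, ← h.ph_add, ← h.ph_add]
      exact congrArg φ ((congrArg _ (by decide)).trans ph0))
  refine ⟨fun n m => q.norm_of h.TJ h.JT m.1 (r1 (mcs ?_)), fun w m o => ?_, fun e m f o => ?_⟩
  · rw [← q.inv yC, ← q.mul zC (inv_mem yC)]; exact q.comm m.1 (mul_mem zC (inv_mem yC)) (cms m.2)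
  · obtain ⟨v, p1, u, p2, e⟩ := (mem_sup_left_norm (inf_le_left.trans r3.norm)).1 (r4 (mcs (q.comm m tC o)))
    obtain ⟨x, p3, rfl⟩ := q.sur v
    obtain ⟨f, p4, p5⟩ := q.lift h.pgT le_rfl r2 (q.mem_pre.2 ⟨p3, p1⟩)
    have n : ∀ {g}, g ∈ 𝐂(TT z b d s Q) → g * t = t * g → g ∈ 𝐍(𝐎({3}ᶜ, q.pre F)) := fun m o =>
      norm_pcore le_rfl _ (q.norm_pre m (r3.norm (mcs (q.comm m tC o))))
    have fC := q.pre_le (pcore_le _ _ p4)
    refine ⟨_, pcore_pi _ _, fun g i => mcs (mul_inv_eq_iff_eq_mul.1 (mul_inv_eq_one.1 (mem_bot.1 (disjoint_of_coprime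
      ((pcore_pi {3}ᶜ (q.pre F)).coprime_pgroup h.pgT) ▸ mem_inf.2 ⟨mq (mul_mem i (conj_mem_of_norm (n tC rfl) (inv_mem i))) (by group),
        q.cm (q.pre_le (pcore_le _ _ i)) tC (cms (r3.le (q.mem_pre.1 (pcore_le _ _ i)).2))⟩)))), fun j i => n (h.JT i.1) (cms i.2),
      f, p4, fC, q.norm_of h.TJ h.JT (mul_mem (inv_mem fC) m) ?_⟩
    rw [q.mul (inv_mem fC) m, q.inv fC, p5, ← e, inv_mul_cancel_left]; exact p2.2
  · have eC : e ∈ 𝐂(TT z b d s Q) := fun _ i => h.TE i m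
    have fC : f ∈ 𝐂(TT z b d s Q) := fun _ i => h.TE' i o
    have f4 : f ^ 4 = 1 := by
      have := h.E4 (Ex_cj h.ts.symm h.sy' o)
      rwa [conj_pow, conj_eq_one_iff] at this
    have k := q.cm eC fC (r5 _ _ (q.comm eC zC (Ex_x m)) (q.comm eC tC (Ex_t m)) (by rw [← q.pow eC, h.E4 m, q.one])
      (q.comm fC yC (Ex_x o)) (q.comm fC tC (Ex_t o)) (by rw [← q.pow fC, f4, q.one]))
    refine mul_inv_eq_iff_eq_mul.1 (mul_inv_eq_one.1 (one43 ?_ (h.J3 (h.TJ k))))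
    have := Commute.mul_pow (fC _ k) 4
    rwa [inv_mul_cancel_right, conj_pow, f4, mul_one, mul_one, mul_inv_cancel, eq_comm] at this

theorem cB {l : G → ZMod 3} (e : ∀ x ∈ Jt z b d t, ∀ y ∈ Jt z b d t, l (x * y) = l x + l y) (k : ∀ x ∈ Jt z b d t, (l x = 0 ↔ x ∈ B))
    (le : B ≤ Jt z b d t) (p1 : l z = l y) (p2 : l z ≠ 0) (p3 : l b = 0) : 𝐂(B) ≤ 𝐍(JJ z b d) := by
  have mz : z ∈ Jt z b d t := mem_inf.2 ⟨h.zJ, mcs h.sy.rz.symm⟩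
  have my : y ∈ Jt z b d t := mem_inf.2 ⟨h.yJ, mcs h.v.ry.symm⟩
  have mb := (k b (mem_inf.2 ⟨h.bJ, mcs h.sy.rd.symm⟩)).1 p3
  have li : ∀ {x}, x ∈ Jt z b d t → l x⁻¹ = -l x := fun m => eq_neg_of_add_eq_zero_left (by
    rw [← e _ (inv_mem m) _ m, inv_mul_cancel]; exact (k 1 (one_mem _)).2 (one_mem _))
  have zy := (k _ (mul_mem mz (inv_mem my))).1 (by rw [e _ mz _ (inv_mem my), li my, p1, add_neg_cancel])
  by_cases o : TT z b d s Q ≤ B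
  · exact le_trans (le_inf (cent_anti o) (cent_le_cent1 zy)) h.pr.1
  obtain ⟨u, p, o⟩ := SetLike.not_le_iff_exists.1 o
  have mu : u ∈ Jt z b d t := mem_inf.2 ⟨h.TJ p, mcs (h.Tt p)⟩
  refine h.sig.le_norm h.pgJ (fun j m x i => h.Jab (le i).1 m) (fun _ m _ => h.Jab m) h.sy.b3 h.dJ fun n m i => ?_
  obtain ⟨q, o1, f⟩ := h.SJ (conj_mem_of_norm i h.zJ) ((Sg.refl z).cj n)
  have nb := cj_of (m b mb).symm
  have f' : n * y * n⁻¹ = ph z y b d (q - ![1, 0, 0, 0] + ![0, 1, 0, 0]) := by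
    rw [h.ph_add, sub_eq_add_neg, h.ph_add, h.ph_neg, ← f, phz, phy, mul_assoc (n * z * n⁻¹), (cs h.yz).1.2.2.1.symm,
      ← inv_inv (y * z⁻¹), _root_.mul_inv_rev, inv_inv, ← cj_of (m _ zy).symm]
    cg [h.yz]
  have nz : n * z * n⁻¹ = z := by
    rcases sv_B q o1 (h.sv_of (f' ▸ h.p.s.cj n)) (h.sv_of (by
      rw [h.ph_add, h.ph_add, ← f, ← f', phb, ← nb, conj_mul, conj_mul]; exact (h.p.s.of h.u.ay).cj n)) with rfl | rfl
    · exact f.trans phz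
    exfalso
    rw [h.ph_neg, phy] at f
    have sz : s * n * z * (s * n)⁻¹ = z⁻¹ := by rw [← cjcj, f, ← conj_inv, h.sy']
    have sy : s * n * y * (s * n)⁻¹ = y⁻¹ := by
      rw [← cjcj, f', show (-![0, 1, 0, 0] - ![1, 0, 0, 0] + ![0, 1, 0, 0] : V4) = -![1, 0, 0, 0] by decide, h.ph_neg, phz, ← conj_inv, h.sz]
    obtain ⟨x, p4, v, p5, g⟩ := h.dec' (Qz_inv z ▸ sz ▸ Qz_conj (s * n) z ▸ conj_mem_conj.2 (h.QQ h.v.ma))
    have xJ : x ∈ JJ z b d := by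
      obtain ⟨e, q1, w, q2, rfl⟩ := h.Pb p4 (by
        have := cj_comm (k := s * n) (h.cc h.u.mb h.v.ma)
        rw [g, ← cjcj, nb, cj_of h.sb, mul_assoc, ← h.cc h.u.mb p5, ← mul_assoc, ← mul_assoc, mul_left_inj] at this
        exact this.symm)
      exact mul_mem (h.ZJ q1) (zpowers_le.2 h.bJ q2)
    have vy : v * y = y * v := by
      have k1 : ∀ {e w}, e ∈ zpowers z → e * u ∈ B → s * n * e * (s * n)⁻¹ = e⁻¹ → s * e * s⁻¹ = w → v * w = w * v := fun {e w} q1 q2 q3 q4 => by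
        have q5 : s * n * u * (s * n)⁻¹ = e * w * u := by
          rw [mul_assoc e, ← inv_mul_eq_iff_eq_mul, ← q3, conj_mul, ← cjcj, cj_of (m _ q2).symm, ← conj_mul, q4, cj_of (h.sT p)]
        have := cj_comm (k := s * n) ((mem_TT.1 p).2.1 c h.v.ma)
        have wJ : e * w * u ∈ JJ z b d := q5 ▸ conj_mem_of_norm (mul_mem h.sN i) (h.TJ p)
        rw [g, q5, ← mul_assoc _ x, ← h.Jab xJ wJ, mul_assoc, mul_assoc x, mul_right_inj] at this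
        exact cms ((mul_mem_cancel_left (mcs (h.zcc q1 (h.hQ p5)).symm)).1 ((mul_mem_cancel_right (mcs ((mem_TT.1 p).2.1 v p5).symm)).1
          (mcs this.symm))) |>.symm
      rcases (by decide : ∀ a b : ZMod 3, a ≠ 0 → b ≠ 0 → a + b = 0 ∨ -a + b = 0) _ _ p2 (mt (k u mu).1 o) with q | q
      · exact k1 (mem_zpowers z) ((k _ (mul_mem mz mu)).1 (by rw [e _ mz _ mu, q])) sz h.sz
      · exact (cs (k1 (inv_mem (mem_zpowers z)) ((k _ (mul_mem (inv_mem mz) mu)).1 (by rw [e _ (inv_mem mz) _ mu, li mz, q]))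
          (by rw [← conj_inv, sz]) (by rw [← conj_inv, h.sz]))).1.2.2.1.trans (by rw [inv_inv]) |> (by simpa using ·)
    have := conj_injective (x := s * n) (show s * n * (c * y⁻¹) * (s * n)⁻¹ = s * n * (y⁻¹ * c) * (s * n)⁻¹ by
      rw [← conj_mul, ← conj_mul, g, ← conj_inv, sy, inv_inv]; cg [vy, h.Jy xJ])
    have := h.v.ay
    rw [cj_of (Commute.inv_right_iff.1 ‹_›), eq_comm, mul_eq_right, mul_eq_one_iff_inv_eq] at this
    exact h.v.nb (this ▸ inv_mem (mem_zpowers z))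
  have ny : n * y = y * n := mul_inv_eq_iff_eq_mul.1 (by
    have := cj_of (m _ zy).symm
    rwa [← conj_mul, nz, mul_right_inj, ← conj_inv, _root_.inv_inj] at this)
  rcases h.Jor (mul_inv_eq_iff_eq_mul.1 nz) ny (m b mb).symm with g | g
  · exact ⟨pow_mem g 4, fun j o => by rw [cj_of (h.Jab g (inv_mem o)), mul_inv_cancel]; exact one_mem _, fun _ => g⟩
  obtain ⟨n, rfl⟩ : ∃ x, n = t * x := ⟨t⁻¹ * n, by group⟩
  rw [sq_cancel h.t2] at g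
  refine ⟨mq (pow_mem (mul_mem (conj_mem_of_norm h.tN g) g) 2) (by
    rw [inv_sq h.t2, show 4 = 2 * 2 from rfl, pow_mul, pow_two (t * n), ← mul_assoc]),
    fun j o => ?_, fun o => ?_⟩
  · rw [← cjcj, cj_of (h.Jab g (inv_mem o))]
    exact mq (inv_mem (h.sy.cmJ (jsy o))) (by group)
  · have := h.v.ib
    rw [mul_assoc, jd g, ← mul_assoc, ← mul_assoc, mul_left_inj] at o
    rw [cj_of o, ← mul_eq_one_iff_eq_inv] at this
    exact absurd (one23 this h.sy.b3) h.sy.b1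

theorem gx (i : Fin 4) : gs r a s i * z * (gs r a s i)⁻¹ = ph z y b d (xv i) := by
  have e : a * s * z * (a * s)⁻¹ = ph z y b d (xv 2) := by rw [← cjcj, h.sz]; exact evy h.act_a
  fin_cases i
  exacts [(cj_of (by simp [gs])).trans phz.symm, h.sz.trans phy.symm, e, (cjcj r _ z).symm.trans (e ▸ h.act_r _)]

theorem aK : a * t = t * a := h.tP a h.u.ma
theorem aN : a ∈ 𝐍(JJ z b d) := h.QN (h.QP h.u.ma)
theorem rN : r ∈ 𝐍(JJ z b d) := JJ_symm z b d ▸ h.sy.tN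

theorem gt (i : Fin 4) : gs r a s i * t = t * gs r a s i := by
  have e := mul_mem (mcs h.aK) (mcs h.ts.symm)
  fin_cases i
  exacts [by simp [gs], h.ts.symm, cms e, cms (mul_mem (mcs h.rt) e)]

theorem gN (i : Fin 4) : gs r a s i ∈ 𝐍(JJ z b d) := by
  fin_cases i
  exacts [one_mem _, h.sN, mul_mem h.aN h.sN, mul_mem h.rN (mul_mem h.aN h.sN)]

omit h [Finite G] in
theorem nJt (m : g ∈ 𝐍(JJ z b d)) (o : g * t = t * g) : g ∈ 𝐍(Jt z b d t) :=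
  norm_inf (zpowers_le.2 m) (norm_cent1 (zpowers_le.2 (mcs o))) (mem_zpowers g)

theorem zt : z ∈ Jt z b d t := mem_inf.2 ⟨h.zJ, mcs h.sy.rz.symm⟩
theorem yt : y ∈ Jt z b d t := mem_inf.2 ⟨h.yJ, mcs h.v.ry.symm⟩
theorem bt : b ∈ Jt z b d t := mem_inf.2 ⟨h.bJ, mcs h.sy.rd.symm⟩
theorem xt (i : Fin 4) : ph z y b d (xv i) ∈ Jt z b d t := h.gx i ▸ conj_mem_of_norm (nJt (h.gN i) (h.gt i)) h.zt
theorem xsg (i : Fin 4) : Sg z (ph z y b d (xv i)) := (Sg.refl z).of (h.gx i)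

theorem SJt (m : x ∈ Jt z b d t) (e : Sg z x) : ∃ i, x = ph z y b d (xv i) ∨ x = (ph z y b d (xv i))⁻¹ := by
  obtain ⟨p, o, rfl⟩ := h.SJ m.1 e
  obtain ⟨i, f | f⟩ := sv_t p o (h.ph_ext (by rw [← h.act_t]; exact cj_of (cms m.2).symm))
  exacts [⟨i, .inl (f ▸ rfl)⟩, ⟨i, .inr (f ▸ h.ph_neg _)⟩]

theorem typeK (p : PiGrp {3}ᶜ F) (n : Jt z b d t ≤ 𝐍(F)) (m : f ∈ F) (e : f * t = t * f) {i : Fin 4}
    (q : f * ph z y b d (xv i) = ph z y b d (xv i) * f) : f ∈ EE z y b d t := by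
  have := Ex_cj (h.gt i) (h.gx i) (h.type1 (p.conj (gs r a s i)⁻¹) (f := (gs r a s i)⁻¹ * f * gs r a s i) (by
    simpa [mem_conj, mul_assoc] using m) (by
      rw [← conj_normalizer, mem_conj, inv_inv]; exact n (conj_mem_of_norm (nJt (h.gN i) (h.gt i)) h.bt)) (comm_of_cj (h.gx i) q)
    (comm_of_cj (cj_of (h.gt i)) e))
  exact leE i (by simpa [mul_assoc] using this)

theorem JS (p : PiGrp {3}ᶜ F) (le : F ≤ 𝐂[t]) (n : Jt z b d t ≤ 𝐍(F)) : F ≤ EE z y b d t := by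
  have := Fact.mk Nat.prime_three
  have ab : ∀ x ∈ Jt z b d t, ∀ y ∈ Jt z b d t, x * y = y * x := fun _ m _ o => h.Jab m.1 o.1
  refine Coprime.le_of_forall_hyperplane (p := 3) ⟨abelian_iff.2 (le_cent_iff.2 ab), fun _ m => h.J3 m.1⟩ n
    (p.coprime_pgroup (pgroup_of_le h.pgJ inf_le_left)).symm fun B o i f m => ?_
  obtain ⟨l, e, k⟩ := exists_lam ab i
  by_cases q : ∃ i, l (ph z y b d (xv i)) = 0
  · exact let ⟨i, q⟩ := q; h.typeK p n m.1 (cms (le m.1)) (m.2 _ ((k _ (h.xt i)).1 q)).symm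
  have K : ∀ g, g ∈ 𝐍(JJ z b d) → g * t = t * g → g * z = z * g → l z = l (g * y * g⁻¹) → l (g * b * g⁻¹) = 0 → f ∈ 𝐍(JJ z b d) :=
    fun g p1 p2 p3 p4 p5 => by
      have i := nJt p1 p2
      have := h.cB (B := g⁻¹ ⋆ B) (l := fun x => l (g * x * g⁻¹)) (fun x m y o => by
        rw [← conj_mul, e _ (conj_mem_of_norm i m) _ (conj_mem_of_norm i o)]) (fun x m => by
          rw [k _ (conj_mem_of_norm i m), mem_conj, inv_inv]) (conj_le_of_norm o (inv_mem i)) (by rwa [cj_of p3])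
        (by rw [cj_of p3]; exact fun e => q ⟨0, phz (y := y) (b := b) (d := d) ▸ e⟩) p5 (conj_centralizer g⁻¹ B ▸ conj_mem_conj.2 m.2)
      exact (mul_mem_cancel_left (inv_mem p1)).1 ((mul_mem_cancel_right (inv_mem (inv_mem p1))).1 this)
  have v : ∀ p : V4, p 3 = 0 → l (ph z y b d p) = (p 0).val * l z + (p 1).val * l y + (p 2).val * l b := fun p o => by
    rw [ph, o, ZMod.val_zero, pow_zero, mul_one, h.lam_ph h.zt h.yt h.bt e]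
  have N : f ∈ 𝐍(JJ z b d) := by
    simp only [not_exists, v _ (xv_3 _)] at q
    rcases xv_hyp _ _ _ q with g | g | g
    · exact K 1 (one_mem _) (by simp) (by simp) (by simpa using g.1) (by simpa using g.2)
    · exact K a h.aN h.aK h.az (by rw [evy h.act_a, v _ rfl]; exact g.1) (by rw [evb h.act_a, v _ rfl]; exact g.2)
    · exact K (r * a) (mul_mem h.rN h.aN) (by cg [h.rt, h.aK]) (by cg [h.rz, h.az]) (by rw [← cjcj, evy h.act_a, h.act_r, v _ rfl]; exact g.1)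
        (by rw [← cjcj, evb h.act_a, h.act_r, v _ rfl]; exact g.2)
  refine h.typeK p n m.1 (cms (le m.1)) (i := 0) ?_
  rw [show ph z y b d (xv 0) = z from phz]
  exact mul_inv_eq_iff_eq_mul.1 (mul_inv_eq_one.1 (mem_bot.1 (disjoint_of_coprime (p.coprime_pgroup h.pgJ) ▸ mem_inf.2 ⟨mq (mul_mem m.1
    (conj_mem_of_norm (n h.zt) (inv_mem m.1))) (by group), mul_mem (conj_mem_of_norm N h.zJ) (inv_mem h.zJ)⟩)))

theorem Ecm {i j : Fin 4} (n : i ≠ j) (m : e ∈ Ex t (ph z y b d (xv i))) (o : f ∈ Ex t (ph z y b d (xv j))) : e * f = f * e := by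
  have K : ∀ g {φ : V4 → V4}, g * t = t * g → (∀ p, g * ph z y b d p * g⁻¹ = ph z y b d (φ p)) → ∀ e ∈ Ex t (ph z y b d (φ (xv 0))),
      ∀ f ∈ Ex t (ph z y b d (φ (xv 1))), e * f = f * e := fun g φ p q e m f o => by
    have p' := (cs p).1.2.1
    simpa [mul_assoc] using cj_comm (k := g) (h.pr.2.2 _ (Ex_cj p' (by rw [← q, show ph z y b d (xv 0) = z from phz]; group) m) _
      (Ex_cj p' (by rw [← q, show ph z y b d (xv 1) = y from phy]; group) o))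
  have w : ∀ {g k : G} {φ ψ : V4 → V4}, (∀ p, g * ph z y b d p * g⁻¹ = ph z y b d (φ p)) → (∀ p, k * ph z y b d p * k⁻¹ = ph z y b d (ψ p)) →
      ∀ p, g * k * ph z y b d p * (g * k)⁻¹ = ph z y b d (φ (ψ p)) := fun p q v => by rw [← cjcj, q, p]
  have k1 := K 1 (φ := id) (by simp) (by simp)
  have k2 := K a h.aK h.act_a
  have k3 := K (r * a) (by cg [h.rt, h.aK]) (w h.act_r h.act_a)
  have k4 := K (s * a) (by cg [h.ts.symm, h.aK]) (w h.act_s h.act_a)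
  have k5 := K (s * (r * a)) (by cg [h.ts.symm, h.rt, h.aK]) (w h.act_s (w h.act_r h.act_a))
  have k6 := K (a * (s * a)) (by cg [h.ts.symm, h.aK]) (w h.act_a (w h.act_s h.act_a))
  fin_cases i <;> fin_cases j
  exacts [absurd rfl n, k1 e m f o, k2 e m f o, k3 e m f o, (k1 f o e m).symm, absurd rfl n, k4 e m f o, k5 e m f o, (k2 f o e m).symm,
    (k4 f o e m).symm, absurd rfl n, k6 e m f o, (k3 f o e m).symm, (k5 f o e m).symm, (k6 f o e m).symm, absurd rfl n]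

theorem piE : PiGrp {3}ᶜ (EE z y b d t) := by
  have k : ∀ {i j : Fin 4}, i ≠ j → Ex t (ph z y b d (xv i)) ≤ 𝐂(Ex t (ph z y b d (xv j))) := fun n _ m _ o => (h.Ecm n m o).symm
  have e : EE z y b d t = Ex t (ph z y b d (xv 0)) ⊔ Ex t (ph z y b d (xv 1)) ⊔ Ex t (ph z y b d (xv 2)) ⊔ Ex t (ph z y b d (xv 3)) := by
    rw [show ph z y b d (xv 0) = z from phz, show ph z y b d (xv 1) = y from phy, EE]
  rw [e]
  exact (((pcore_pi _ _).sup (pcore_pi _ _) (norm_of_cent (k (by decide)))).sup (pcore_pi _ _) (norm_of_cent (le_cent_sup (k (by decide))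
    (k (by decide))))).sup (pcore_pi _ _) (norm_of_cent (le_cent_sup (le_cent_sup (k (by decide)) (k (by decide))) (k (by decide))))

theorem JE : Jt z b d t ≤ 𝐍(EE z y b d t) := fun _ m => mem_normalizer_of_conj_le (conj_le_iff_le_inv_conj.2 (EE_le fun i _ o =>
  mem_conj.2 (by simpa only [inv_inv] using leE i (Ex_n (cms m.2) (h.Jab m.1 (h.xt i).1) o))))

theorem NE (m : n ∈ 𝐍(Jt z b d t)) (o : n * t = t * n) : n ∈ 𝐍(EE z y b d t) := mem_normalizer_of_conj_le (h.JS (h.piE.conj n)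
  (fa_conj fun _ p => mcs (by cg [o, Et p])) (by rw [← conj_normalizer, ← conj_eq_of_norm m]; exact conj_mono n h.JE))

theorem NE' (m : n ∈ 𝐍(JJ z b d)) (o : n * t = t * n) : n ∈ 𝐍(EE z y b d t) := h.NE (nJt m o) o

theorem WE (m : w ∈ 𝐂(TT z b d s Q)) (o : w * t = t * w) : ∃ f ∈ EE z y b d t, f ∈ 𝐂(TT z b d s Q) ∧ f⁻¹ * w ∈ 𝐍(JJ z b d) :=
  let ⟨_, p1, p2, p3, f, p4, p5⟩ := h.pr.2.1 w m o; ⟨f, h.JS p1 p2 p3 p4, p5⟩

end B1

end Cfsg.Lib.U63
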